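import Cfsg.Agent.Lib.Solv.DerivedTwo.Key

/-!
A 2-group acting on an odd subgroup of class two inside a faithful representation in characteristic two on
which the product of the augmentation operators of the derived series vanishes.
-/

set_option autoImplicit false
set_option linter.style.haveILetI false
set_option linter.unusedSectionVars false
set_option maxHeartbeats 1000000

namespace Cfsg.Agent.Solv.D2

attribute [local instance] Fintype.ofFinite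

open scoped commutatorElement
open Solv.CRep (rep_inv_apply rep_apply_inv)

universe u v

variable {G : Type u} [Group G] [Finite G] {k : Type*} [Field k] [IsAlgClosed k] [CharP k 2]
  {V : Type v} [AddCommGroup V] [Module k V] [FiniteDimensional k V]

/-- Raising to a power of two is injective in a group of odd order. -/
theorem eq_one_of_two_pow {U : Type*} [Group U] [Finite U] (hU : Odd (Nat.card U)) {x : U} {e : ℕ}
    (hx : x ^ 2 ^ e = 1) : x = 1 :=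
  orderOf_eq_one_iff.1 (Nat.eq_one_of_dvd_coprimes ((Nat.Coprime.pow_left e
    (Nat.coprime_two_left.2 hU))) (orderOf_dvd_of_pow_eq_one hx) (orderOf_dvd_natCard x))

/-- The weight space of a character seen from the first term fixing it. -/
theorem weight_step (ρ : G →* Module.End k V) {S X : Subgroup G} (hS : IsPGroup 2 S)
    (hSX : S ≤ Subgroup.normalizer (X : Set G)) (hX : Odd (Nat.card X)) {W : Submodule k V}
    (hWS : ∀ g ∈ S, ∀ w ∈ W, ρ g w ∈ W) (hWX : ∀ x ∈ X, ∀ w ∈ W, ρ x w ∈ W) (μ : ↥X →* kˣ) {n : ℕ}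
    (hfix : ∀ g ∈ dser S n, tw X g μ = μ) :
    ∃ j ≤ n, (∀ g ∈ dser S j, tw X g μ = μ) ∧
      ∀ m, (prod ρ S W (j + m)).map (proj ρ X μ) = prod ρ (dser S j) (W ⊓ wt ρ X μ) m := by
  classical
  have hex : ∃ j, ∀ g ∈ dser S j, tw X g μ = μ := ⟨n, hfix⟩
  obtain ⟨j, hj⟩ : ∃ j, j = Nat.find hex := ⟨_, rfl⟩
  have hjfix : ∀ g ∈ dser S j, tw X g μ = μ := hj ▸ Nat.find_spec hex
  refine ⟨j, hj ▸ Nat.find_min' hex hfix, hjfix, fun m => ?_⟩
  have hW' : W ⊓ wt ρ X μ = (prod ρ S W j).map (proj ρ X μ) := by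
    refine le_antisymm (fun v hv => ?_) ?_
    · obtain ⟨p, hp, hpv, -⟩ := proj_prod hS ρ (fun χ => proj ρ X χ) (tw X) (tw_one X)
        (fun g hg h hh => tw_mul (hSX hg) (hSX hh)) (fun g hg => proj_tw ρ (hSX hg))
        (fun i i' hii => orth ρ hii) W hWS μ j (fun l hl => by
          by_contra hc
          push Not at hc
          exact Nat.find_min hex (hj ▸ hl) hc) v hv.1 (proj_of_mem ρ hX hv.2)
      exact ⟨p, hp, hpv⟩
    · rintro _ ⟨p, hp, rfl⟩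
      exact ⟨proj_mem hWX μ (prod_le_of_invariant hWS j hp), proj_mem_wt ρ μ p⟩
  rw [hW', prod_shift]
  refine prod_map _ (fun g hg w => ?_) _ m
  conv_lhs => rw [← hjfix g hg]
  exact proj_tw ρ (hSX (dser_le S j hg)) μ w

/-- `c` acts trivially on `P / X`. -/
def TrivMod (P X : Subgroup G) (c : G) : Prop := ∀ r ∈ P, ⁅r, c⁆ ∈ X

theorem TrivMod.mul {P X : Subgroup G} {a b : G} (hN : a ∈ Subgroup.normalizer (X : Set G))
    (ha : TrivMod P X a) (hb : TrivMod P X b) : TrivMod P X (a * b) := fun r hr => by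
  rw [show ⁅r, a * b⁆ = ⁅r, a⁆ * (a * ⁅r, b⁆ * a⁻¹) by simp only [commutatorElement_def]; group]
  exact mul_mem (ha r hr) ((Subgroup.mem_normalizer_iff.1 hN _).1 (hb r hr))

theorem TrivMod.inv {P X : Subgroup G} {a : G} (hN : a ∈ Subgroup.normalizer (X : Set G))
    (ha : TrivMod P X a) : TrivMod P X a⁻¹ := fun r hr => by
  rw [show ⁅r, a⁻¹⁆ = a⁻¹ * ⁅r, a⁆⁻¹ * a⁻¹⁻¹ by simp only [commutatorElement_def]; group]
  exact (Subgroup.mem_normalizer_iff.1 (inv_mem hN) _).1 (inv_mem (ha r hr))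

variable {ρ : G →* Module.End k V} {T P X : Subgroup G} {W : Submodule k V}

/-- An extension on which the last term acts nontrivially has one step and a group of order two induced by
it. -/
theorem IsExt.facts (h : IsExt ρ T P X W) {n : ℕ} (hprod : prod ρ T W (n + 1) = ⊥) {a₀ : T}
    (ha₀ : (a₀ : G) ∈ dser T n) (hne : bact h.toIsPre a₀ ≠ 1) :
    n = 1 ∧
    (∀ a a' : T, (a : G) ∈ dser T 1 → (a' : G) ∈ dser T 1 → bact h.toIsPre a ≠ 1 → bact h.toIsPre a' ≠ 1 →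
      bact h.toIsPre (a⁻¹ * a') = 1) ∧
    ∀ w x : T, bact h.toIsPre (w * w) = 1 → bact h.toIsPre ⁅w, x⁆ = 1 := by
  classical
  obtain ⟨A, hA⟩ : ∃ A : Subgroup (MulAut (Bar P X)), A = ((dser T n).subgroupOf T).map (bact h.toIsPre) :=
    ⟨_, rfl⟩
  have hAmem : ∀ a : T, (a : G) ∈ dser T n → bact h.toIsPre a ∈ A := fun a ha => hA ▸ ⟨a, ha, rfl⟩
  have hAp : IsPGroup 2 A := hA ▸ (h.hT.to_subgroup _).map _
  haveI : Fact (Nat.Prime 2) := ⟨Nat.prime_two⟩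
  obtain ⟨e, he⟩ := hAp.exists_card_eq
  obtain ⟨F, hF⟩ : ∃ F : Subgroup (Bar P X), ∀ x, x ∈ F ↔ ∀ σ ∈ A, σ x = x :=
    ⟨{ carrier := {x | ∀ σ ∈ A, σ x = x}
       one_mem' := fun σ _ => map_one σ
       mul_mem' := fun {x y} hx hy σ hσ => by rw [map_mul, hx σ hσ, hy σ hσ]
       inv_mem' := fun {x} hx σ hσ => by rw [map_inv, hx σ hσ] }, fun _ => Iff.rfl⟩
  have hFinv : ∀ t : T, (t : G) ∈ T → ∀ x ∈ F, bact h.toIsPre t x ∈ F := by
    intro t _ x hx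
    rw [hF] at hx ⊢
    intro σ hσ
    rw [hA] at hσ
    obtain ⟨a, ha, rfl⟩ := hσ
    have hc : (t : G)⁻¹ * a * t ∈ dser T n := by
      simpa using dser_conj_mem (g := (t : G)⁻¹) (Subgroup.le_normalizer (inv_mem t.2)) ha
    have e1 := hx _ (hAmem (t⁻¹ * a * t) hc)
    rw [map_mul, map_mul, MulAut.mul_apply, MulAut.mul_apply, map_inv] at e1
    exact (MulEquiv.eq_symm_apply _).1 e1.symm |>.symm
  obtain ⟨K, hK⟩ : ∃ K, K = h.orth F := ⟨_, rfl⟩
  have hKinv : ∀ t : T, (t : G) ∈ T → ∀ x ∈ K, bact h.toIsPre t x ∈ K := hK ▸ h.orth_invariant hFinv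
  -- norms
  obtain ⟨N, hN⟩ : ∃ N : Bar P X → Bar P X, ∀ x, N x = ∏ σ : A, (σ : MulAut (Bar P X)) x :=
    ⟨_, fun _ => rfl⟩
  have hNF : ∀ x, N x ∈ F := fun x => (hF _).2 fun σ hσ => by
    rw [hN, map_prod]
    refine Fintype.prod_equiv (Equiv.mulLeft (⟨σ, hσ⟩ : A)) _ _ fun τ => ?_
    simp [MulAut.mul_apply]
  have hNpb : ∀ x, ∀ y ∈ F, pb ρ W (N x) y = (pb ρ W x y : k) ^ 2 ^ e := by
    intro x y hy
    let φ : Bar P X →* k := MonoidHom.mk ⟨fun a => pb ρ W a y, h.pb_one_left y⟩ fun a b => h.pb_mul_left a b y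
    show φ (N x) = φ x ^ 2 ^ e
    rw [hN, map_prod, ← he, Nat.card_eq_fintype_card, ← Finset.card_univ, ← Finset.prod_const]
    refine Finset.prod_congr rfl fun σ _ => ?_
    show (pb ρ W ((σ : MulAut (Bar P X)) x) y : k) = pb ρ W x y
    have hσ : (σ : MulAut (Bar P X)) ∈ A := σ.2
    conv_lhs => rw [← (hF y).1 hy _ hσ]
    obtain ⟨a, -, ha⟩ := Subgroup.mem_map.1 (hA.le hσ)
    rw [← ha]
    exact h.pb_bact a x y
  have hdec : ∀ x, x ^ 2 ^ e * (N x)⁻¹ ∈ K := fun x => hK ▸ h.mem_orth.2 fun y hy => by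
    have h1 := h.pb_mul_left (x ^ 2 ^ e * (N x)⁻¹) (N x) y
    rw [inv_mul_cancel_right, h.pb_pow_left, ← hNpb x y hy] at h1
    exact (mul_eq_right₀ (h.sc_ne_zero (h.toIsPre.comm_mem ((N x).out).2 (y.out).2))).1 h1.symm
  have hspan : ∀ σ : MulAut (Bar P X), (∀ x ∈ F, σ x = x) → (∀ x ∈ K, σ x = x) → σ = 1 := by
    intro σ h1 h2
    refine MulEquiv.ext fun x => ?_
    have e1 : σ (x ^ 2 ^ e) = x ^ 2 ^ e := by
      conv_lhs => rw [← inv_mul_cancel_right (x ^ 2 ^ e) (N x), map_mul, h2 _ (hdec x), h1 _ (hNF x)]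
      rw [inv_mul_cancel_right]
    rw [MulAut.one_apply]
    refine mul_inv_eq_one.1 (eq_one_of_two_pow (odd_bar h.toIsPre) (e := e) ?_)
    rw [mul_pow, inv_pow, ← map_pow, e1, mul_inv_cancel]
  have hFK : ∀ x ∈ F, x ∈ K → x = 1 := fun x hxF hxK => h.pb_nd fun y => by
    refine eq_one_of_pow (j := e) ?_
    have h1 : (pb ρ W (N y) x : k) = 1 := by
      rw [h.pb_swap x (N y), (hK ▸ hxK : x ∈ h.orth F) _ (hNF y), inv_one]
    rw [hNpb y x hxF, h.pb_swap x y, inv_pow, inv_eq_one] at h1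
    exact h1
  have hnd : ∀ a ∈ K, (∀ b ∈ K, pb ρ W a b = (1 : k)) → a = 1 := fun a ha hab => h.pb_nd fun y => by
    refine eq_one_of_pow (j := e) ?_
    rw [← h.pb_pow_right, ← inv_mul_cancel_right (y ^ 2 ^ e) (N y), h.pb_mul_right, hab _ (hdec y), one_mul]
    exact (hK ▸ ha : a ∈ h.orth F) _ (hNF y)
  obtain ⟨W₂, hW₂, h₂⟩ := exists_invariant_simple
    (h.restrict hnd le_rfl hKinv le_rfl h.hne h.invT fun r hr => h.invR r (pre_le K hr)) h.hne
  have hinc : ∀ (t : T) x, inc K (bact h₂.toIsPre t x) = bact h.toIsPre t (inc K x) := fun t x =>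
    inc_bact h.toIsPre h₂.toIsPre t t.2 x
  have hK1 : ∀ t : T, bact h₂.toIsPre t = 1 → ∀ x ∈ K, bact h.toIsPre t x = x := fun t ht x hx => by
    obtain ⟨y, rfl⟩ := exists_inc hx
    rw [← hinc, ht, MulAut.one_apply]
  have hfpf : ∀ x, (∀ a : T, (a : G) ∈ dser T n → bact h₂.toIsPre a x = x) → x = 1 := fun x hx =>
    inc_injective h.toIsPre h₂.toIsPre ((hFK _ ((hF _).2 fun σ hσ => by
      rw [hA] at hσ
      obtain ⟨a, ha, rfl⟩ := hσ
      rw [← hinc, hx a ha]) (inc_mem K x)).trans (map_one _).symm)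
  have hx1 : ∃ x : Bar (pre P X K) X, x ≠ 1 := by
    by_contra hc
    push Not at hc
    refine hne (hspan _ (fun x hx => (hF x).1 hx _ (hAmem a₀ ha₀)) fun x hx => ?_)
    obtain ⟨y, rfl⟩ := exists_inc hx
    rw [hc y, map_one, map_one]
  obtain ⟨rfl, h9⟩ := h₂.key hfpf hx1 (le_bot_iff.1 (hprod ▸ prod_mono le_rfl hW₂ _))
  refine ⟨rfl, ?_, ?_⟩
  · intro a a' ha ha' hna hna'
    have hinv : ∀ a : T, (a : G) ∈ dser T 1 → bact h.toIsPre a ≠ 1 → ∀ x, bact h₂.toIsPre a x = x⁻¹ := by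
      intro a ha hna
      have h2 : bact h₂.toIsPre a * bact h₂.toIsPre a = 1 := MulEquiv.ext fun x => by
        refine inc_injective h.toIsPre h₂.toIsPre ?_
        rw [← map_mul, hinc, h.sq_derived hprod ha]; rfl
      exact h₂.plane_involution h9 h2 fun h1 => hna (hspan _ (fun x hx => (hF x).1 hx _ (hAmem a ha)) (hK1 a h1))
    refine hspan _ (fun x hx => (hF x).1 hx _ (hAmem _ (mul_mem (inv_mem ha) ha'))) (hK1 _ ?_)
    rw [map_mul, map_inv, inv_mul_eq_one]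
    exact MulEquiv.ext fun x => by rw [hinv a ha hna, hinv a' ha' hna']
  · intro w x hw
    have hcd : ((⁅w, x⁆ : T) : G) ∈ dser T 1 := Subgroup.commutator_mem_commutator w.2 x.2
    refine hspan _ (fun y hy => (hF y).1 hy _ (hAmem _ hcd)) (hK1 _ ?_)
    rw [map_commutatorElement, commutatorElement_eq_one_iff_mul_comm]
    by_cases h1 : bact h₂.toIsPre w = 1
    · rw [h1, one_mul, mul_one]
    have h2 : bact h₂.toIsPre w * bact h₂.toIsPre w = 1 := MulEquiv.ext fun y => by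
      refine inc_injective h.toIsPre h₂.toIsPre ?_
      rw [← map_mul, hinc, hw]; rfl
    refine MulEquiv.ext fun y => ?_
    rw [MulAut.mul_apply, MulAut.mul_apply, h₂.plane_involution h9 h2 h1, h₂.plane_involution h9 h2 h1,
      map_inv]

/-- The facts at one weight of the centre. -/
theorem weight_facts (hρ : ∀ g, ρ g = 1 → g = 1) {S P : Subgroup G} (hS : IsPGroup 2 S)
    (hP : Odd (Nat.card P)) (hSP : S ≤ Subgroup.normalizer (P : Set G))
    (hcl : ⁅P, P⁆ ≤ Subgroup.centralizer (P : Set G)) {n : ℕ} (hprod : prod ρ S ⊤ (n + 1) = ⊥)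
    {Z : Subgroup G} (hZ : ∀ z, z ∈ Z ↔ z ∈ P ∧ ∀ r ∈ P, Commute z r) (χ : ↥Z →* kˣ)
    (hχ : wt ρ Z χ ≠ ⊥) {X : Subgroup G}
    (hX : ∀ r, r ∈ X ↔ r ∈ P ∧ ∀ s ∈ P, ∀ v ∈ wt ρ Z χ, ρ ⁅r, s⁆ v = v) :
    (∀ a ∈ dser S n, a ∈ Subgroup.normalizer (X : Set G) ∧ TrivMod P X (a * a)) ∧
    (∀ a ∈ dser S n, ∀ a' ∈ dser S n, ¬ TrivMod P X a → ¬ TrivMod P X a' → TrivMod P X (a⁻¹ * a')) ∧
    (1 ≤ n → ∀ w ∈ dser S (n - 1), ∀ x ∈ dser S (n - 1), TrivMod P X (w * w) → TrivMod P X ⁅w, x⁆) ∧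
    (n = 0 → ∀ a ∈ dser S n, TrivMod P X a) ∧
    (aug ρ (dser S n) (prod ρ S ⊤ (n - 1)) = ⊥ → ∀ a ∈ dser S n, TrivMod P X a) := by
  classical
  have hZP : Z ≤ P := fun z hz => ((hZ z).1 hz).1
  have hZodd : Odd (Nat.card Z) := odd_card_of_le hZP hP
  have hSZ : S ≤ Subgroup.normalizer (Z : Set G) := by
    have key : ∀ g ∈ S, ∀ z ∈ Z, g * z * g⁻¹ ∈ Z := fun g hg z hz => by
      rw [hZ] at hz ⊢
      refine ⟨(Subgroup.mem_normalizer_iff.1 (hSP hg) z).1 hz.1, fun r hr => ?_⟩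
      have hr' : g⁻¹ * r * g ∈ P := conj_mem_of_normalizer (hSP hg) hr
      calc g * z * g⁻¹ * r = g * (z * (g⁻¹ * r * g)) * g⁻¹ := by group
        _ = g * ((g⁻¹ * r * g) * z) * g⁻¹ := by rw [(hz.2 _ hr').eq]
        _ = r * (g * z * g⁻¹) := by group
    refine fun g hg => Subgroup.mem_normalizer_iff.2 fun z => ⟨key g hg z, fun hz => ?_⟩
    simpa [mul_assoc] using key g⁻¹ (inv_mem hg) _ hz
  have hZcom : ∀ c ∈ ⁅Z, Z⁆, ∀ v : V, ρ c v = v := fun c hc v => by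
    have h1 : ⁅Z, Z⁆ = ⊥ := Subgroup.commutator_eq_bot_iff_le_centralizer.2 fun z hz =>
      Subgroup.mem_centralizer_iff.2 fun y hy => (((hZ z).1 hz).2 y (hZP hy)).eq.symm
    rw [h1, Subgroup.mem_bot] at hc
    rw [hc, map_one, Module.End.one_apply]
  -- the last term centralises the centre
  have hcentZ : ∀ a ∈ dser S n, ∀ z ∈ Z, ⁅z, a⁆ = 1 := fun a ha z hz => hρ _ <| LinearMap.ext fun v => by
    by_contra hne
    exact prod_moved_ne_bot ρ hS hSZ hZodd (fun _ _ _ _ => trivial) (fun _ _ _ _ => trivial)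
      (fun c hc v _ => hZcom c hc v) ha hz (W := ⊤) (w := v) trivial hne
      (le_bot_iff.1 (hprod ▸ prod_mono le_rfl le_top _))
  have hfixχ : ∀ g ∈ dser S n, tw Z g χ = χ := fun g hg => MonoidHom.ext fun z => by
    have hgS := dser_le S n hg
    refine tw_apply (hSZ hgS) χ z z ?_
    have e := commutatorElement_eq_one_iff_mul_comm.1 (hcentZ g hg z z.2)
    rw [mul_assoc, e, inv_mul_cancel_left]
  obtain ⟨U, hU⟩ : ∃ U, U = wt ρ Z χ := ⟨_, rfl⟩
  rw [← hU] at hχ hX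
  have hUP : ∀ r ∈ P, ∀ v ∈ U, ρ r v ∈ U := fun r hr v hv => by
    rw [hU] at hv ⊢
    intro z
    rw [← Module.End.mul_apply, ← map_mul, (((hZ _).1 z.2).2 r hr).eq, map_mul, Module.End.mul_apply, hv z,
      map_smul]
  obtain ⟨j₁, hj₁, hfix₁, hmap₁⟩ :=
    weight_step ρ hS hSZ hZodd (W := ⊤) (fun _ _ _ _ => trivial) (fun _ _ _ _ => trivial) χ hfixχ
  obtain ⟨T₁, hT₁⟩ : ∃ T₁, T₁ = dser S j₁ := ⟨_, rfl⟩
  rw [top_inf_eq, ← hU, ← hT₁] at hmap₁
  rw [← hT₁] at hfix₁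
  have hT₁S : T₁ ≤ S := hT₁ ▸ dser_le S j₁
  have hdT₁ : ∀ m, dser T₁ m = dser S (j₁ + m) := fun m => hT₁ ▸ dser_dser S j₁ m
  have hUT₁ : ∀ t ∈ T₁, ∀ v ∈ U, ρ t v ∈ U := fun t ht v hv => by
    have h1 := proj_tw ρ (hSZ (hT₁S ht)) χ v
    have hv' : v ∈ wt ρ Z χ := by rw [← hU]; exact hv
    rw [hfix₁ t ht, proj_of_mem ρ hZodd hv'] at h1
    rw [hU, ← h1]
    exact proj_mem_wt ρ χ _
  have hXP : X ≤ P := fun r hr => ((hX r).1 hr).1
  have hT₁X : T₁ ≤ Subgroup.normalizer (X : Set G) := by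
    have key : ∀ g ∈ T₁, ∀ r ∈ X, g * r * g⁻¹ ∈ X := fun g hg r hr => by
      rw [hX] at hr ⊢
      refine ⟨(Subgroup.mem_normalizer_iff.1 (hSP (hT₁S hg)) r).1 hr.1, fun s hs v hv => ?_⟩
      have hs' : g⁻¹ * s * g ∈ P := conj_mem_of_normalizer (hSP (hT₁S hg)) hs
      rw [show ⁅g * r * g⁻¹, s⁆ = g * ⁅r, g⁻¹ * s * g⁆ * g⁻¹ by simp only [commutatorElement_def]; group,
        map_mul, map_mul, Module.End.mul_apply, Module.End.mul_apply,
        hr.2 _ hs' _ (hUT₁ _ (inv_mem hg) v hv), rep_apply_inv]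
    refine fun g hg => Subgroup.mem_normalizer_iff.2 fun z => ⟨key g hg z, fun hz => ?_⟩
    simpa [mul_assoc] using key g⁻¹ (inv_mem hg) _ hz
  have hXodd := odd_card_of_le hXP hP
  have hnT₁ : ∀ a ∈ dser S n, a ∈ T₁ := fun a ha => hT₁ ▸ dser_anti S hj₁ ha
  by_cases hall : ∀ a ∈ dser S n, TrivMod P X a
  · refine ⟨fun a ha => ⟨hT₁X (hnT₁ a ha), hall _ (mul_mem ha ha)⟩,
      fun a ha a' ha' h1 => absurd (hall a ha) h1, fun hn w hw x hx _ => hall _ ?_, fun _ => hall, fun _ => hall⟩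
    rw [show n = n - 1 + 1 by omega, dser_succ]
    exact Subgroup.commutator_mem_commutator hw hx
  push Not at hall
  obtain ⟨a₀, ha₀, hne⟩ := hall
  -- a weight of `X`
  have hcomU : ∀ c ∈ ⁅X, X⁆, ∀ v ∈ U, ρ c v = v := by
    intro c hc v hv
    let Z₀ : Subgroup G :=
      { carrier := {g | g ∈ P ∧ ∀ v ∈ U, ρ g v = v}
        one_mem' := ⟨one_mem P, fun v _ => by rw [map_one, Module.End.one_apply]⟩
        mul_mem' := fun {a b} ha hb => ⟨mul_mem ha.1 hb.1, fun v hv => by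
          rw [map_mul, Module.End.mul_apply, hb.2 v hv, ha.2 v hv]⟩
        inv_mem' := fun {a} ha => ⟨inv_mem ha.1, fun v hv => by
          conv_lhs => rw [← ha.2 v hv]
          exact rep_inv_apply ρ a v⟩ }
    exact ((Subgroup.commutator_le.2 fun r hr s hs => show ⁅r, s⁆ ∈ Z₀ from
      ⟨(Subgroup.commutator_le.2 fun a ha b hb => by
          rw [commutatorElement_def]; exact mul_mem (mul_mem (mul_mem ha hb) (inv_mem ha)) (inv_mem hb) :
          ⁅P, P⁆ ≤ P) (Subgroup.commutator_mem_commutator (hXP hr) (hXP hs)),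
        ((hX r).1 hr).2 s (hXP hs)⟩) hc).2 v hv
  obtain ⟨v₀, hv₀, hv₀0⟩ := U.exists_mem_ne_zero_of_ne_bot hχ
  obtain ⟨μ, hμ⟩ : ∃ μ : ↥X →* kˣ, proj ρ X μ v₀ ≠ 0 := by
    by_contra hc
    push Not at hc
    refine hv₀0 ?_
    rw [← sum_proj (k := k) ρ hXodd (w := v₀) fun c hc' => hcomU c hc' v₀ hv₀]
    exact Finset.sum_eq_zero fun μ _ => hc μ
  have hUX : ∀ x ∈ X, ∀ v ∈ U, ρ x v ∈ U := fun x hx => hUP x (hXP hx)
  have hfixμ : ∀ g ∈ dser T₁ (n - j₁), tw X g μ = μ := by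
    have hU0 : prod ρ T₁ U (n - j₁ + 1) = ⊥ := by
      rw [← hmap₁, show j₁ + (n - j₁ + 1) = n + 1 by omega, hprod, Submodule.map_bot]
    intro g hg
    refine MonoidHom.ext fun x => ?_
    have hgT₁ := dser_le T₁ _ hg
    have hx' := conj_mem_of_normalizer (hT₁X hgT₁) x.2
    rw [tw_apply (hT₁X hgT₁) μ x ⟨_, hx'⟩ rfl]
    obtain ⟨u, hu⟩ : ∃ u, u = proj ρ X μ v₀ := ⟨_, rfl⟩
    have huU : u ∈ U := hu ▸ proj_mem hUX μ hv₀
    have huwt : u ∈ wt ρ X μ := hu ▸ proj_mem_wt ρ μ v₀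
    have hd : ρ ⁅(x : G)⁻¹, g⁻¹⁆ u = u := by
      by_contra hne'
      exact prod_moved_ne_bot ρ (hS.to_le hT₁S) hT₁X hXodd hUT₁ hUX hcomU (inv_mem hg)
        (inv_mem x.2) huU hne' (le_bot_iff.1 (hU0 ▸ prod_mono le_rfl inf_le_left _))
    have e : ⁅(x : G)⁻¹, g⁻¹⁆ = (((x⁻¹ * ⟨_, hx'⟩ : X)) : G) := by
      simp [commutatorElement_def, mul_assoc]
    rw [e, huwt] at hd
    have e2 : μ (x⁻¹ * ⟨_, hx'⟩) = 1 := Units.ext (smul_left_injective k (hu ▸ hμ)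
      (hd.trans (one_smul k u).symm))
    rw [map_mul, map_inv, inv_mul_eq_one] at e2
    exact e2.symm
  obtain ⟨j₂, hj₂, hfix₂, hmap₂⟩ := weight_step ρ (hS.to_le hT₁S) hT₁X hXodd hUT₁ hUX μ hfixμ
  obtain ⟨T, hT⟩ : ∃ T, T = dser T₁ j₂ := ⟨_, rfl⟩
  obtain ⟨U', hU'⟩ : ∃ U', U' = U ⊓ wt ρ X μ := ⟨_, rfl⟩
  rw [← hU', ← hT] at hmap₂
  rw [← hT] at hfix₂
  have hTT₁ : T ≤ T₁ := hT ▸ dser_le T₁ j₂
  have hne' : U' ≠ ⊥ := fun h0 => hμ (by
    have : proj ρ X μ v₀ ∈ U' := hU' ▸ ⟨proj_mem hUX μ hv₀, proj_mem_wt ρ μ v₀⟩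
    rwa [h0, Submodule.mem_bot] at this)
  have hcomm : ⁅P, P⁆ ≤ X := by
    refine Subgroup.commutator_le.2 fun r hr s hs => (hX _).2 ⟨?_, fun q hq v _ => ?_⟩
    · rw [commutatorElement_def]; exact mul_mem (mul_mem (mul_mem hr hs) (inv_mem hr)) (inv_mem hs)
    · rw [show ⁅⁅r, s⁆, q⁆ = 1 from commutatorElement_eq_one_iff_mul_comm.2
        (Subgroup.mem_centralizer_iff.1 (hcl (Subgroup.commutator_mem_commutator hr hs)) q hq).symm,
        map_one, Module.End.one_apply]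
  have hpre : IsPre ρ T P X U' :=
    { hT := hS.to_le (hTT₁.trans hT₁S)
      hR := hP
      hXR := hXP
      hTR := hTT₁.trans (hT₁S.trans hSP)
      hTX := hTT₁.trans hT₁X
      hcomm := hcomm
      invT := fun t ht v hv => by
        rw [hU'] at hv ⊢
        refine ⟨hUT₁ t (hTT₁ ht) v hv.1, ?_⟩
        have h1 := proj_tw ρ (hT₁X (hTT₁ ht)) μ v
        rw [hfix₂ t ht, proj_of_mem ρ hXodd hv.2] at h1
        rw [← h1]
        exact proj_mem_wt ρ μ _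
      invR := fun r hr v hv => by
        rw [hU'] at hv ⊢
        refine ⟨hUP r hr v hv.1, fun x => ?_⟩
        rw [← Module.End.mul_apply, ← map_mul, show (x : G) * r = ⁅(x : G), r⁆ * (r * x) by
          rw [commutatorElement_def]; group, map_mul, map_mul, Module.End.mul_apply, Module.End.mul_apply,
          hv.2 x, map_smul, map_smul, ((hX _).1 x.2).2 r hr _ (hUP r hr v hv.1)]
      hscal := fun x hx => ⟨μ ⟨x, hx⟩, fun v hv => (hU' ▸ hv : v ∈ U ⊓ wt ρ X μ).2 ⟨x, hx⟩⟩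
      hnd := fun r hr hfix => (hX r).2 ⟨hr, fun s hs v hv => by
        have hz : ⁅r, s⁆ ∈ Z := (hZ _).2
          ⟨by rw [commutatorElement_def]; exact mul_mem (mul_mem (mul_mem hr hs) (inv_mem hr)) (inv_mem hs),
            fun q hq => (Subgroup.mem_centralizer_iff.1
              (hcl (Subgroup.commutator_mem_commutator hr hs)) q hq).symm⟩
        obtain ⟨w, hw, hw0⟩ := U'.exists_mem_ne_zero_of_ne_bot hne'
        have h1 : ρ ⁅r, s⁆ w = (χ ⟨_, hz⟩ : k) • w :=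
          (hU ▸ (hU' ▸ hw : w ∈ U ⊓ wt ρ X μ).1 : w ∈ wt ρ Z χ) ⟨_, hz⟩
        rw [hfix s hs w hw] at h1
        have h2 : (χ ⟨_, hz⟩ : k) = 1 := smul_left_injective k hw0 (h1.symm.trans (one_smul k w).symm)
        have h3 : ρ ⁅r, s⁆ v = (χ ⟨_, hz⟩ : k) • v := (hU ▸ hv : v ∈ wt ρ Z χ) ⟨_, hz⟩
        rw [h3, h2, one_smul]⟩ }
  obtain ⟨W, hW, h⟩ := exists_invariant_simple hpre hne'
  obtain ⟨m, hm⟩ : ∃ m, n = j₁ + j₂ + m := ⟨n - (j₁ + j₂), by omega⟩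
  have hdT : ∀ i, dser T i = dser S (j₁ + j₂ + i) := fun i => by
    rw [hT, dser_dser, hdT₁, Nat.add_assoc]
  have hprodT : prod ρ T W (m + 1) = ⊥ := le_bot_iff.1 (by
    refine (prod_mono le_rfl hW _).trans (le_of_eq ?_)
    rw [← hmap₂, ← hmap₁, show j₁ + (j₂ + (m + 1)) = n + 1 by omega, hprod, Submodule.map_bot,
      Submodule.map_bot])
  have hnT : ∀ a ∈ dser S n, a ∈ T := fun a ha => by
    have : a ∈ dser T m := by rw [hdT, ← hm]; exact ha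
    exact dser_le T m this
  have htriv : ∀ (a : G) (ha : a ∈ T), TrivMod P X a ↔ bact h.toIsPre ⟨a, ha⟩ = 1 := fun a ha =>
    (bact_eq_one_iff h.toIsPre (t := ⟨a, ha⟩)).symm
  obtain ⟨rfl, hpair, hinvol⟩ := h.facts hprodT (a₀ := ⟨a₀, hnT a₀ ha₀⟩) (by rw [hdT, ← hm]; exact ha₀)
    (fun e => hne ((htriv _ _).2 e))
  have hT' : ∀ w, w ∈ dser S (n - 1) → w ∈ T := fun w hw => by
    have := hdT 0
    rw [dser_zero] at this
    rw [this, show j₁ + j₂ + 0 = n - 1 by omega]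
    exact hw
  refine ⟨fun a ha => ⟨hT₁X (hnT₁ a ha), ?_⟩, ?_, ?_, fun hn => absurd hn (by omega), ?_⟩
  · rw [htriv _ (mul_mem (hnT a ha) (hnT a ha))]
    exact h.sq_derived hprodT (c := ⟨a, hnT a ha⟩) (by rw [hdT, ← hm]; exact ha)
  · intro a ha a' ha' h1 h2
    rw [htriv _ (mul_mem (inv_mem (hnT a ha)) (hnT a' ha'))]
    exact hpair ⟨a, hnT a ha⟩ ⟨a', hnT a' ha'⟩ (by rw [hdT, ← hm]; exact ha) (by rw [hdT, ← hm]; exact ha')
      (fun e => h1 ((htriv _ _).2 e)) (fun e => h2 ((htriv _ _).2 e))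
  · intro _ w hw x hx hsq
    obtain ⟨w', rfl⟩ : ∃ w' : T, (w' : G) = w := ⟨⟨w, hT' w hw⟩, rfl⟩
    obtain ⟨x', rfl⟩ : ∃ x' : T, (x' : G) = x := ⟨⟨x, hT' x hx⟩, rfl⟩
    exact (htriv _ (⁅w', x'⁆ : T).2).2 (hinvol w' x' ((htriv _ (w' * w' : T).2).1 hsq))
  · intro hskip a ha
    rw [htriv a (hnT a ha)]
    refine h.bact_of_triv fun v hv => ?_
    have h1 : aug ρ (dser S n) U' = ⊥ := by
      have hle : ∀ g ∈ dser S n, ∀ v, proj ρ X μ (ρ g v) = ρ g (proj ρ X μ v) := fun g hg v => by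
        conv_lhs => rw [← hfix₂ g (hnT g hg)]
        exact proj_tw ρ (hT₁X (hnT₁ g hg)) μ v
      have hle₁ : ∀ g ∈ dser S n, ∀ v, proj ρ Z χ (ρ g v) = ρ g (proj ρ Z χ v) := fun g hg v => by
        conv_lhs => rw [← hfixχ g hg]
        exact proj_tw ρ (hSZ (dser_le S n hg)) χ v
      have e0 : U' = ((prod ρ S ⊤ (n - 1)).map (proj ρ Z χ)).map (proj ρ X μ) := by
        rw [show n - 1 = j₁ + (j₂ + 0) by omega, hmap₁, hmap₂, prod_zero]
      rw [e0, ← aug_map _ hle, ← aug_map _ hle₁, hskip, Submodule.map_bot, Submodule.map_bot]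
    exact (aug_eq_bot.1 h1) a ha v (hW hv)

/-- An element centralising the centre and acting trivially on every quotient centralises `P`. -/
theorem commute_of_trivMod (hρ : ∀ g, ρ g = 1 → g = 1) {S P : Subgroup G} (hS : IsPGroup 2 S)
    (hP : Odd (Nat.card P)) (hSP : S ≤ Subgroup.normalizer (P : Set G))
    (hcl : ⁅P, P⁆ ≤ Subgroup.centralizer (P : Set G))
    {Z : Subgroup G} (hZ : ∀ z, z ∈ Z ↔ z ∈ P ∧ ∀ r ∈ P, Commute z r) {c : G} (hc : c ∈ S)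
    (hcZ : ∀ z ∈ Z, Commute c z)
    (hall : ∀ (χ : ↥Z →* kˣ) (X : Subgroup G), wt ρ Z χ ≠ ⊥ →
      (∀ r, r ∈ X ↔ r ∈ P ∧ ∀ s ∈ P, ∀ v ∈ wt ρ Z χ, ρ ⁅r, s⁆ v = v) → TrivMod P X c) :
    ∀ r ∈ P, Commute c r := by
  classical
  have hZP : Z ≤ P := fun z hz => ((hZ z).1 hz).1
  have hcomPZ : ∀ r ∈ P, ∀ s ∈ P, ⁅r, s⁆ ∈ Z := fun r hr s hs => (hZ _).2
    ⟨by rw [commutatorElement_def]; exact mul_mem (mul_mem (mul_mem hr hs) (inv_mem hr)) (inv_mem hs),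
      fun q hq => (Subgroup.mem_centralizer_iff.1 (hcl (Subgroup.commutator_mem_commutator hr hs)) q hq).symm⟩
  intro r hr
  obtain ⟨d, hd⟩ : ∃ d, d = ⁅c, r⁆ := ⟨_, rfl⟩
  have hdP : d ∈ P := by
    rw [hd, commutatorElement_def]
    exact mul_mem ((Subgroup.mem_normalizer_iff.1 (hSP hc) r).1 hr) (inv_mem hr)
  have hdZ : d ∈ Z := by
    refine (hZ d).2 ⟨hdP, fun s hs => commutatorElement_eq_one_iff_commute.1 (hρ _ (LinearMap.ext fun v => ?_))⟩
    have hZodd : Odd (Nat.card Z) := odd_card_of_le hZP hP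
    have hcom : ∀ z ∈ ⁅Z, Z⁆, ρ z v = v := fun z hz => by
      have h1 : ⁅Z, Z⁆ = ⊥ := Subgroup.commutator_eq_bot_iff_le_centralizer.2 fun z hz =>
        Subgroup.mem_centralizer_iff.2 fun y hy => (((hZ z).1 hz).2 y (hZP hy)).eq.symm
      rw [h1, Subgroup.mem_bot] at hz
      rw [hz, map_one, Module.End.one_apply]
    conv_lhs => rw [← sum_proj (k := k) ρ hZodd hcom, map_sum]
    rw [Module.End.one_apply]
    conv_rhs => rw [← sum_proj (k := k) ρ hZodd hcom]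
    refine Finset.sum_congr rfl fun χ _ => ?_
    by_cases h0 : proj ρ Z χ v = 0
    · rw [h0, map_zero]
    have hne : wt ρ Z χ ≠ ⊥ := fun hb => h0 (by
      have := proj_mem_wt ρ χ v
      rwa [hb, Submodule.mem_bot] at this)
    obtain ⟨X, hX⟩ : ∃ X : Subgroup G,
        ∀ r, r ∈ X ↔ r ∈ P ∧ ∀ s ∈ P, ∀ v ∈ wt ρ Z χ, ρ ⁅r, s⁆ v = v :=
      ⟨{ carrier := {r | r ∈ P ∧ ∀ s ∈ P, ∀ v ∈ wt ρ Z χ, ρ ⁅r, s⁆ v = v}
         one_mem' := ⟨one_mem P, fun s _ v _ => by simp [commutatorElement_one_left]⟩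
         mul_mem' := fun {a b} ha hb => ⟨mul_mem ha.1 hb.1, fun s hs v hv => by
           have e : ⁅a * b, s⁆ = ⁅b, s⁆ * ⁅a, s⁆ := by
             have hc' := ((hZ _).1 (hcomPZ b hb.1 s hs)).2
             calc ⁅a * b, s⁆ = a * ⁅b, s⁆ * a⁻¹ * ⁅a, s⁆ := by simp only [commutatorElement_def]; group
               _ = _ := by rw [← (hc' a ha.1).eq, mul_inv_cancel_right]
           rw [e, map_mul, Module.End.mul_apply, ha.2 s hs v hv, hb.2 s hs v hv]⟩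
         inv_mem' := fun {a} ha => ⟨inv_mem ha.1, fun s hs v hv => by
           have hc' := ((hZ _).1 (hcomPZ a ha.1 s hs)).2
           have e : ⁅a⁻¹, s⁆ = ⁅a, s⁆⁻¹ := by
             calc ⁅a⁻¹, s⁆ = a⁻¹ * ⁅a, s⁆⁻¹ * a := by simp only [commutatorElement_def]; group
               _ = _ := by rw [mul_assoc, (hc' a ha.1).inv_left.eq, inv_mul_cancel_left]
           rw [e]
           conv_lhs => rw [← ha.2 s hs v hv]
           exact rep_inv_apply ρ _ v⟩ }, fun _ => Iff.rfl⟩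
    have hmem : d ∈ X := by
      have := inv_mem (hall χ X hne hX r hr)
      rwa [commutatorElement_inv, ← hd] at this
    exact ((hX d).1 hmem).2 s hs _ (proj_mem_wt ρ χ v)
  have hcd : Commute c d := hcZ d hdZ
  have hi : ∀ i : ℕ, c ^ i * r = d ^ i * r * c ^ i := by
    intro i
    induction i with
    | zero => simp
    | succ i ih =>
      have e : c * r = d * r * c := by rw [hd, commutatorElement_def]; group
      rw [pow_succ', mul_assoc, ih, ← mul_assoc, ← mul_assoc, (hcd.pow_right i).eq, mul_assoc (d ^ i), e,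
        pow_succ]
      simp only [mul_assoc]
  obtain ⟨j, hj⟩ := hS ⟨c, hc⟩
  have h1 := hi (2 ^ j)
  rw [show c ^ 2 ^ j = 1 from congrArg Subtype.val hj, one_mul, mul_one, right_eq_mul] at h1
  have h2 : (⟨d, hdP⟩ : P) ^ 2 ^ j = 1 := Subtype.ext h1
  have h3 : d = 1 := congrArg Subtype.val (eq_one_of_two_pow hP h2)
  rw [hd] at h3
  exact commutatorElement_eq_one_iff_commute.1 h3

end Cfsg.Agent.Solv.D2
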