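import Cfsg.Agent.Lib.Solv.DerivedTwo.Weights
import Cfsg.Agent.Lib.Solv.TheoremB

/-!
Modules on which a group of odd order acts through a central extension with nondegenerate commutator
pairing, and the extension of their simple submodules to a normalising 2-group, in characteristic two.
-/

set_option autoImplicit false
set_option linter.style.haveILetI false
set_option linter.unusedSectionVars false

namespace Cfsg.Agent.Solv.D2

attribute [local instance] Fintype.ofFinite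

open scoped commutatorElement
open Solv.CRep (rep_inv_apply rep_apply_inv)

universe u v

variable {G : Type u} [Group G] [Finite G] {k : Type*} [Field k] [IsAlgClosed k] [CharP k 2]
  {V : Type v} [AddCommGroup V] [Module k V] [FiniteDimensional k V]

theorem add_self_zero (k : Type*) [Field k] [CharP k 2] {V : Type v} [AddCommGroup V] [Module k V] (v : V) :
    v + v = 0 := by
  rw [← two_smul k v, show (2 : k) = 0 from CharP.cast_eq_zero k 2, zero_smul]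

theorem eq_one_of_pow {c : k} {j : ℕ} (h : c ^ 2 ^ j = 1) : c = 1 := by
  haveI : Fact (Nat.Prime 2) := ⟨Nat.prime_two⟩
  exact iterateFrobenius_inj k 2 j (by simpa [iterateFrobenius_def] using h)

/-- A linear map on an invariant submodule commuting with the action of `R`. -/
def Intertwines (ρ : G →* Module.End k V) (R : Subgroup G) (W : Submodule k V) (Φ : W →ₗ[k] V) : Prop :=
  ∀ r ∈ R, ∀ (w : W) (h : ρ r w ∈ W), Φ ⟨ρ r w, h⟩ = ρ r (Φ w)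

/-- `R` acts on `U` through a central extension of `R / X` with nondegenerate commutator pairing. -/
structure IsPre (ρ : G →* Module.End k V) (T R X : Subgroup G) (U : Submodule k V) : Prop where
  hT : IsPGroup 2 T
  hR : Odd (Nat.card R)
  hXR : X ≤ R
  hTR : T ≤ Subgroup.normalizer (R : Set G)
  hTX : T ≤ Subgroup.normalizer (X : Set G)
  hcomm : ⁅R, R⁆ ≤ X
  invT : ∀ t ∈ T, ∀ w ∈ U, ρ t w ∈ U
  invR : ∀ r ∈ R, ∀ w ∈ U, ρ r w ∈ U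
  hscal : ∀ x ∈ X, ∃ c : k, ∀ w ∈ U, ρ x w = c • w
  hnd : ∀ r ∈ R, (∀ s ∈ R, ∀ w ∈ U, ρ ⁅r, s⁆ w = w) → r ∈ X

/-- A simple such module. -/
structure IsExt (ρ : G →* Module.End k V) (T R X : Subgroup G) (W : Submodule k V) : Prop
    extends IsPre ρ T R X W where
  hne : W ≠ ⊥
  hsimple : ∀ U ≤ W, (∀ r ∈ R, ∀ w ∈ U, ρ r w ∈ U) → U = ⊥ ∨ U = W

variable {ρ : G →* Module.End k V} {T R X : Subgroup G} {U : Submodule k V}

namespace IsPre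

variable (h : IsPre ρ T R X U)

include h

theorem comm_mem {r s : G} (hr : r ∈ R) (hs : s ∈ R) : ⁅r, s⁆ ∈ X :=
  h.hcomm (Subgroup.commutator_mem_commutator hr hs)

theorem conj_mem {r x : G} (hr : r ∈ R) (hx : x ∈ X) : r * x * r⁻¹ ∈ X := by
  have := mul_mem (h.comm_mem hr (h.hXR hx)) hx
  simpa [commutatorElement_def, mul_assoc] using this

theorem triv_of_fix {x : G} (hx : x ∈ X) {w₀ : V} (hw₀ : w₀ ∈ U) (h0 : w₀ ≠ 0) (hfix : ρ x w₀ = w₀) :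
    ∀ w ∈ U, ρ x w = w := by
  obtain ⟨c, hc⟩ := h.hscal x hx
  have h1 : c = 1 := by
    rw [hc _ hw₀] at hfix
    exact smul_left_injective k h0 (hfix.trans (one_smul k w₀).symm)
  intro w hw
  rw [hc w hw, h1, one_smul]

theorem mono {T' : Subgroup G} (hT' : T' ≤ T) {W : Submodule k V} (hW : W ≤ U) (hne : W ≠ ⊥)
    (hinvT : ∀ t ∈ T', ∀ w ∈ W, ρ t w ∈ W) (hinvR : ∀ r ∈ R, ∀ w ∈ W, ρ r w ∈ W) :
    IsPre ρ T' R X W where
  hT := h.hT.to_le hT'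
  hR := h.hR
  hXR := h.hXR
  hTR := hT'.trans h.hTR
  hTX := hT'.trans h.hTX
  hcomm := h.hcomm
  invT := hinvT
  invR := hinvR
  hscal x hx := by
    obtain ⟨c, hc⟩ := h.hscal x hx
    exact ⟨c, fun w hw => hc w (hW hw)⟩
  hnd r hr h1 := h.hnd r hr fun s hs w hw => by
    obtain ⟨w₀, hw₀, h0⟩ := W.exists_mem_ne_zero_of_ne_bot hne
    exact h.triv_of_fix (h.comm_mem hr hs) (hW hw₀) h0 (h1 s hs w₀ hw₀) w hw

/-- Operators of distinct cosets of `X` are independent. -/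
theorem indep {U₁ : Submodule k V} (hU₁ : U₁ ≤ U) (hne : U₁ ≠ ⊥)
    (hinv : ∀ r ∈ R, ∀ w ∈ U₁, ρ r w ∈ U₁) {ι : Type*} [DecidableEq ι] (f : ι → G) :
    ∀ S : Finset ι, (∀ i ∈ S, f i ∈ R) → (∀ i ∈ S, ∀ j ∈ S, i ≠ j → (f i)⁻¹ * f j ∉ X) →
      ∀ a : ι → k, (∀ w ∈ U₁, ∑ i ∈ S, a i • ρ (f i) w = 0) → ∀ i ∈ S, a i = 0 := by
  intro S
  induction S using Finset.strongInduction with
  | _ S ih =>
  intro hf hd a hsum i hi
  obtain ⟨w₀, hw₀, h0⟩ := U₁.exists_mem_ne_zero_of_ne_bot hne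
  by_cases hS : ∃ j ∈ S, j ≠ i
  · obtain ⟨j, hj, hji⟩ := hS
    have hr : (f i)⁻¹ * f j ∈ R := mul_mem (inv_mem (hf i hi)) (hf j hj)
    obtain ⟨s, hs, w₁, hw₁, hsw⟩ : ∃ s ∈ R, ∃ w ∈ U, ρ ⁅(f i)⁻¹ * f j, s⁆ w ≠ w := by
      by_contra hc
      push Not at hc
      exact hd i hi j hj (Ne.symm hji) (h.hnd _ hr hc)
    have hsc : ∀ l ∈ S, ∃ c : k, ∀ w ∈ U, ρ ⁅s, f l⁆ w = c • w := fun l hl =>
      h.hscal _ (h.comm_mem hs (hf l hl))
    choose! c hc using hsc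
    have key : ∀ l ∈ S, ∀ w ∈ U₁, ρ s (ρ (f l) w) = c l • ρ (f l) (ρ s w) := fun l hl w hw => by
      rw [← Module.End.mul_apply, ← map_mul, show s * f l = ⁅s, f l⁆ * (f l * s) by
        rw [commutatorElement_def]; group, map_mul, map_mul, Module.End.mul_apply, Module.End.mul_apply]
      exact hc l hl _ (hU₁ (hinv _ (hf l hl) _ (hinv s hs w hw)))
    have h2 : ∀ w ∈ U₁, ∑ l ∈ S, (a l * (c l - c j)) • ρ (f l) (ρ s w) = 0 := fun w hw => by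
      have e1 := congrArg (ρ s) (hsum w hw)
      rw [map_sum, map_zero, Finset.sum_congr rfl (fun l hl => by
        rw [map_smul, key l hl w hw, smul_smul])] at e1
      have e2 : ∑ l ∈ S, (a l * c j) • ρ (f l) (ρ s w) = 0 := by
        rw [Finset.sum_congr rfl (fun l _ => by rw [mul_comm (a l), ← smul_smul]), ← Finset.smul_sum,
          hsum _ (hinv s hs w hw), smul_zero]
      rw [Finset.sum_congr rfl (fun l _ => by rw [mul_sub, sub_smul]), Finset.sum_sub_distrib, e1, e2,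
        sub_zero]
    have h3 := ih (S.erase j) (Finset.erase_ssubset hj) (fun l hl => hf l (Finset.mem_of_mem_erase hl))
      (fun l hl m hm => hd l (Finset.mem_of_mem_erase hl) m (Finset.mem_of_mem_erase hm))
      (fun l => a l * (c l - c j)) (fun w hw => by
        have e := h2 _ (hinv s⁻¹ (inv_mem hs) w hw)
        rw [rep_apply_inv] at e
        rwa [Finset.sum_erase _ (by rw [sub_self, mul_zero, zero_smul])])
      i (Finset.mem_erase.2 ⟨Ne.symm hji, hi⟩)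
    refine (mul_eq_zero.1 h3).resolve_right fun h4 => hsw ?_
    rw [sub_eq_zero] at h4
    have hw0' := hU₁ hw₀
    have hX1 := h.comm_mem hr hs
    refine h.triv_of_fix hX1 hw0' h0 ?_ w₁ hw₁
    have e1 : ⁅s, f j⁆ = ⁅s, f i⁆ * (f i * ⁅(f i)⁻¹ * f j, s⁆⁻¹ * (f i)⁻¹) := by
      simp only [commutatorElement_def]; group
    obtain ⟨d, hd'⟩ := h.hscal _ hX1
    have e2 : ρ ⁅(f i)⁻¹ * f j, s⁆⁻¹ w₀ = w₀ := by
      have e4 : ρ ⁅s, f j⁆ w₀ = ρ ⁅s, f i⁆ (ρ (f i * ⁅(f i)⁻¹ * f j, s⁆⁻¹ * (f i)⁻¹) w₀) := by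
        rw [← Module.End.mul_apply, ← map_mul, ← e1]
      obtain ⟨d', hd''⟩ := h.hscal _ (inv_mem hX1)
      have e5 : ρ (f i * ⁅(f i)⁻¹ * f j, s⁆⁻¹ * (f i)⁻¹) w₀ = d' • w₀ := by
        rw [map_mul, map_mul, Module.End.mul_apply, Module.End.mul_apply,
          hd'' _ (hU₁ (hinv _ (inv_mem (hf i hi)) _ hw₀)), map_smul, rep_apply_inv]
      rw [hc j hj _ hw0', e5, map_smul, hc i hi _ hw0', h4, smul_smul] at e4
      have e6 : c j = d' * c j := smul_left_injective k h0 e4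
      have hcj : c j ≠ 0 := fun hz => h0 (by
        have := hc j hj _ hw0'
        rw [hz, zero_smul] at this
        rw [← rep_inv_apply ρ ⁅s, f j⁆ w₀, this, map_zero])
      rw [hd'' _ hw0', (mul_eq_right₀ hcj).1 e6.symm, one_smul]
    conv_lhs => rw [← e2, rep_apply_inv]
  · push Not at hS
    by_contra hai
    have h1 := hsum w₀ hw₀
    rw [Finset.sum_eq_single i (fun l hl hli => absurd (hS l hl) hli) (fun hi' => absurd hi hi'),
      smul_eq_zero] at h1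
    exact h0 ((rep_inv_apply ρ (f i) w₀).symm.trans (by rw [h1.resolve_left hai, map_zero]))

/-- Any two nonzero invariant submodules have a nonzero intertwiner. -/
theorem exists_intertwiner {U₁ U₂ : Submodule k V} (h₁ : U₁ ≤ U) (hne₁ : U₁ ≠ ⊥)
    (hinv₁ : ∀ r ∈ R, ∀ w ∈ U₁, ρ r w ∈ U₁) (h₂ : U₂ ≤ U) (hne₂ : U₂ ≠ ⊥)
    (hinv₂ : ∀ r ∈ R, ∀ w ∈ U₂, ρ r w ∈ U₂) :
    ∃ Φ : U₁ →ₗ[k] V, Φ ≠ 0 ∧ (∀ w, Φ w ∈ U₂) ∧ Intertwines ρ R U₁ Φ := by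
  classical
  obtain ⟨w₁, hw₁, hw₁0⟩ := U₁.exists_mem_ne_zero_of_ne_bot hne₁
  obtain ⟨φ, hφ⟩ : ∃ φ : U₁ →ₗ[k] k, φ ⟨w₁, hw₁⟩ = 1 := by
    obtain ⟨φ, hφ⟩ := Module.Projective.exists_dual_ne_zero k (x := (⟨w₁, hw₁⟩ : U₁))
      (fun h => hw₁0 (congrArg Subtype.val h))
    exact ⟨(φ ⟨w₁, hw₁⟩)⁻¹ • φ, by simp [hφ]⟩
  let back : ↥R → (↥U₁ →ₗ[k] ↥U₁) := fun r =>
    ((ρ (r : G)⁻¹).comp U₁.subtype).codRestrict U₁ fun w => hinv₁ _ (inv_mem r.2) w w.2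
  let avg : U₂ → (U₁ →ₗ[k] V) := fun w₂ =>
    ∑ r : R, (φ.comp (back r)).smulRight (ρ (r : G) (w₂ : V))
  by_contra hc
  push Not at hc
  have hzero : ∀ w₂ : U₂, avg w₂ = 0 := by
    intro w₂
    by_contra hne
    refine hc (avg w₂) hne (fun w => ?_) ?_
    · simp only [avg, LinearMap.sum_apply, LinearMap.smulRight_apply]
      exact sum_mem fun r _ => U₂.smul_mem _ (hinv₂ _ r.2 _ w₂.2)
    · intro g hg w hgw
      simp only [avg, LinearMap.sum_apply, LinearMap.smulRight_apply, map_sum, map_smul,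
        LinearMap.comp_apply]
      refine Fintype.sum_equiv (Equiv.mulLeft (⟨g, hg⟩ : R)⁻¹) _ _ fun r => ?_
      rw [Equiv.coe_mulLeft, ← Module.End.mul_apply (ρ g), ← map_mul, Subgroup.coe_mul, InvMemClass.coe_inv,
        mul_inv_cancel_left]
      congr 2
      refine Subtype.ext ?_
      show ρ (r : G)⁻¹ (ρ g w) = ρ ((((⟨g, hg⟩ : R)⁻¹ * r : R) : G))⁻¹ w
      rw [← Module.End.mul_apply, ← map_mul]
      simp [mul_inv_rev]
  -- group the sum by cosets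
  obtain ⟨X', hX'⟩ : ∃ X', X' = X.subgroupOf R := ⟨_, rfl⟩
  haveI : Fintype (↥R ⧸ X') := Fintype.ofFinite _
  let rep : (↥R ⧸ X') → G := fun q => ((q.out : R) : G)
  have hbar : ∀ r : R, ∀ w₂ : U₂,
      φ (back r ⟨w₁, hw₁⟩) • ρ (r : G) (w₂ : V) =
        φ (back (QuotientGroup.mk r : ↥R ⧸ X').out ⟨w₁, hw₁⟩) • ρ (rep (QuotientGroup.mk r)) (w₂ : V) := by
    intro r w₂
    obtain ⟨x, hx⟩ := QuotientGroup.mk_out_eq_mul X' r
    have hxX : ((x : R) : G) ∈ X := Subgroup.mem_subgroupOf.1 (hX' ▸ x.2)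
    obtain ⟨c, hc⟩ := h.hscal _ hxX
    obtain ⟨c', hc'⟩ := h.hscal _ (inv_mem hxX)
    have hcc : c' * c = 1 := by
      have e := rep_inv_apply ρ (((x : R) : G)) w₁
      rw [hc _ (h₁ hw₁), map_smul, hc' _ (h₁ hw₁), smul_smul, mul_comm] at e
      exact smul_left_injective k hw₁0 (e.trans (one_smul k w₁).symm)
    have e2 : back (QuotientGroup.mk r : ↥R ⧸ X').out ⟨w₁, hw₁⟩ = c' • back r ⟨w₁, hw₁⟩ := by
      refine Subtype.ext ?_
      show ρ ((((QuotientGroup.mk r : ↥R ⧸ X').out : R) : G))⁻¹ w₁ = c' • ρ (r : G)⁻¹ w₁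
      rw [hx, Subgroup.coe_mul, mul_inv_rev, map_mul, Module.End.mul_apply]
      exact hc' _ (h₁ (hinv₁ _ (inv_mem r.2) _ hw₁))
    have e3 : ρ (rep (QuotientGroup.mk r)) (w₂ : V) = c • ρ (r : G) (w₂ : V) := by
      show ρ ((((QuotientGroup.mk r : ↥R ⧸ X').out : R) : G)) (w₂ : V) = _
      rw [hx, Subgroup.coe_mul, map_mul, Module.End.mul_apply, hc _ (h₂ w₂.2), map_smul]
    rw [e2, e3, map_smul, smul_smul, smul_eq_mul, mul_comm c', mul_assoc, hcc, mul_one]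
  have hX'odd : Odd (Nat.card X') := Odd.of_dvd_nat h.hR (Subgroup.card_subgroup_dvd_card X')
  have hsum : ∀ w₂ ∈ U₂, ∑ q : ↥R ⧸ X', φ (back q.out ⟨w₁, hw₁⟩) • ρ (rep q) w₂ = 0 := by
    intro w₂ hw₂
    have e1 := LinearMap.congr_fun (hzero ⟨w₂, hw₂⟩) ⟨w₁, hw₁⟩
    simp only [avg, LinearMap.sum_apply, LinearMap.smulRight_apply, LinearMap.comp_apply,
      LinearMap.zero_apply] at e1
    rw [Finset.sum_congr rfl (fun r _ => hbar r ⟨w₂, hw₂⟩),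
      ← Fintype.sum_fiberwise (fun r : R => (QuotientGroup.mk r : ↥R ⧸ X'))] at e1
    refine Eq.trans (Finset.sum_congr rfl fun q _ => ?_) e1
    rw [Finset.sum_congr rfl (fun r _ => by rw [r.2]), Finset.sum_const, Finset.card_univ,
      ← Nat.card_eq_fintype_card,
      show Nat.card {r : R // (QuotientGroup.mk r : ↥R ⧸ X') = q} = Nat.card X' from ?_,
      ← Nat.cast_smul_eq_nsmul k, cast_odd hX'odd, one_smul]
    refine Nat.card_congr ?_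
    exact
      { toFun := fun r => ⟨q.out⁻¹ * r.1, QuotientGroup.eq.1 (q.out_eq.trans r.2.symm)⟩
        invFun := fun x => ⟨q.out * x.1, by rw [QuotientGroup.mk_mul_of_mem _ x.2]; exact q.out_eq⟩
        left_inv := fun r => Subtype.ext (mul_inv_cancel_left _ _)
        right_inv := fun x => Subtype.ext (inv_mul_cancel_left _ _) }
  have h1 := indep h h₂ hne₂ hinv₂ rep Finset.univ (fun q _ => q.out.2)
    (fun q _ q' _ hqq' hmem => hqq' (by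
      rw [← q.out_eq, ← q'.out_eq]
      refine QuotientGroup.eq.2 ?_
      subst hX'
      exact Subgroup.mem_subgroupOf.2 (by simpa [rep] using hmem)))
    (fun q => φ (back q.out ⟨w₁, hw₁⟩)) hsum (QuotientGroup.mk (1 : R)) (Finset.mem_univ _)
  obtain ⟨x, hx⟩ := QuotientGroup.mk_out_eq_mul X' (1 : R)
  have hx2 : (x : R) ∈ X.subgroupOf R := (SetLike.ext_iff.1 hX' (x : R)).1 x.2
  obtain ⟨c', hc'⟩ := h.hscal _ (inv_mem (Subgroup.mem_subgroupOf.1 hx2))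
  have e2 : back (QuotientGroup.mk (1 : R) : ↥R ⧸ X').out ⟨w₁, hw₁⟩ = c' • ⟨w₁, hw₁⟩ := by
    refine Subtype.ext ?_
    show ρ ((((QuotientGroup.mk (1 : R) : ↥R ⧸ X').out : R) : G))⁻¹ w₁ = c' • w₁
    rw [hx, one_mul]
    exact hc' _ (h₁ hw₁)
  rw [e2, map_smul, hφ, smul_eq_mul, mul_one] at h1
  have h3 := hc' _ (h₁ hw₁)
  rw [h1, zero_smul] at h3
  exact hw₁0 ((rep_apply_inv ρ _ w₁).symm.trans (by rw [h3, map_zero]))

end IsPre

namespace IsExt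

variable {W : Submodule k V} (h : IsExt ρ T R X W)

include h

theorem inj {Φ : W →ₗ[k] V} (hΦ : Intertwines ρ R W Φ) (h0 : Φ ≠ 0) : Function.Injective Φ := by
  have hinv : ∀ r ∈ R, ∀ w ∈ (LinearMap.ker Φ).map W.subtype, ρ r w ∈ (LinearMap.ker Φ).map W.subtype := by
    rintro r hr _ ⟨w, hw, rfl⟩
    refine ⟨⟨ρ r (w : V), h.invR r hr _ w.2⟩, ?_, rfl⟩
    show Φ _ = 0
    rw [hΦ r hr w, LinearMap.mem_ker.1 hw, map_zero]
  rcases h.hsimple _ (Submodule.map_subtype_le W _) hinv with h1 | h1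
  · rw [← LinearMap.ker_eq_bot]
    exact Submodule.map_injective_of_injective W.injective_subtype (by rw [h1, Submodule.map_bot])
  · refine absurd (LinearMap.ker_eq_top.1 (Submodule.map_injective_of_injective W.injective_subtype ?_)) h0
    rw [h1, Submodule.map_top, Submodule.range_subtype]

theorem schur {φ : W →ₗ[k] V} (hW : ∀ w, φ w ∈ W) (hφ : Intertwines ρ R W φ) :
    ∃ c : k, ∀ w : W, φ w = c • (w : V) := by
  haveI : Nontrivial W := Submodule.nontrivial_iff_ne_bot.2 h.hne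
  obtain ⟨φ', hφ'⟩ : ∃ φ' : Module.End k W, φ' = φ.codRestrict W hW := ⟨_, rfl⟩
  obtain ⟨c, hc⟩ := Module.End.exists_eigenvalue φ'
  refine ⟨c, ?_⟩
  have hmem : ∀ w : W, w ∈ φ'.eigenspace c ↔ φ w = c • (w : V) := fun w => by
    rw [Module.End.mem_eigenspace_iff, ← Subtype.coe_inj, hφ']
    rfl
  rcases h.hsimple _ (Submodule.map_subtype_le W (φ'.eigenspace c)) (by
      rintro r hr _ ⟨w, hw, rfl⟩
      refine ⟨⟨ρ r (w : V), h.invR r hr _ w.2⟩, ?_, rfl⟩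
      exact (hmem _).2 (by rw [hφ r hr w, (hmem w).1 hw]; exact map_smul (ρ r) c (w : V))) with h1 | h1
  · exact absurd (Submodule.map_injective_of_injective W.injective_subtype (by rw [h1, Submodule.map_bot])) hc
  · intro w
    obtain ⟨w', hw', hww⟩ := h1.ge w.2
    exact (hmem w).1 (Subtype.ext hww ▸ hw')

theorem schur₂ {ψ D : W →ₗ[k] V} (hψ : Intertwines ρ R W ψ) (hD : Intertwines ρ R W D) (h0 : ψ ≠ 0)
    (hr : ∀ w, D w ∈ LinearMap.range ψ) : ∃ c : k, ∀ w, D w = c • ψ w := by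
  have hi := h.inj hψ h0
  obtain ⟨e, he⟩ : ∃ e, e = LinearEquiv.ofInjective ψ hi := ⟨_, rfl⟩
  obtain ⟨φ, hφ⟩ : ∃ φ : W →ₗ[k] W, φ = e.symm.toLinearMap.comp (D.codRestrict (LinearMap.range ψ) hr) :=
    ⟨_, rfl⟩
  have hψφ : ∀ w, ψ (φ w) = D w := fun w => by
    rw [hφ, LinearMap.comp_apply, LinearEquiv.coe_coe, he]
    exact congrArg Subtype.val ((LinearEquiv.ofInjective ψ hi).apply_symm_apply _)
  obtain ⟨c, hc⟩ := h.schur (φ := W.subtype.comp φ) (fun w => (φ w).2) (fun r hr' w hw => by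
    have h1 : φ ⟨ρ r w, hw⟩ = ⟨ρ r (φ w : V), h.invR r hr' _ (φ w).2⟩ := hi (by
      rw [hψφ, hD r hr' w, hψ r hr', hψφ])
    exact congrArg Subtype.val h1)
  refine ⟨c, fun w => ?_⟩
  rw [← hψφ, show φ w = c • w from Subtype.ext (hc w), map_smul]

/-- The image of a nonzero intertwiner is a simple module. -/
theorem range {T' : Subgroup G} (hT' : T' ≤ T) {Φ : W →ₗ[k] V} (hΦ : Intertwines ρ R W Φ) (h0 : Φ ≠ 0)
    (hinvT : ∀ t ∈ T', ∀ v ∈ LinearMap.range Φ, ρ t v ∈ LinearMap.range Φ) :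
    IsExt ρ T' R X (LinearMap.range Φ) := by
  have hi := h.inj hΦ h0
  refine ⟨⟨h.hT.to_le hT', h.hR, h.hXR, hT'.trans h.hTR, hT'.trans h.hTX, h.hcomm, hinvT, ?_, ?_, ?_⟩,
    fun hb => h0 (LinearMap.range_eq_bot.1 hb), ?_⟩
  · rintro r hr _ ⟨w, rfl⟩
    exact ⟨⟨ρ r w, h.invR r hr _ w.2⟩, hΦ r hr w _⟩
  · intro x hx
    obtain ⟨c, hc⟩ := h.hscal x hx
    refine ⟨c, ?_⟩
    rintro _ ⟨w, rfl⟩
    rw [← hΦ x (h.hXR hx) w (h.invR x (h.hXR hx) _ w.2), ← map_smul]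
    exact congrArg Φ (Subtype.ext (hc w w.2))
  · intro r hr h1
    refine h.hnd r hr fun s hs w hw => ?_
    have hm : ⁅r, s⁆ ∈ R := h.hXR (h.toIsPre.comm_mem hr hs)
    have h2 := hΦ _ hm ⟨w, hw⟩ (h.invR _ hm w hw)
    rw [h1 s hs _ ⟨⟨w, hw⟩, rfl⟩] at h2
    exact congrArg Subtype.val (hi h2)
  · intro U' hU' hinv
    rcases h.hsimple ((U'.comap Φ).map W.subtype) (Submodule.map_subtype_le W _) (by
        rintro r hr _ ⟨w, hw, rfl⟩
        refine ⟨⟨ρ r (w : V), h.invR r hr _ w.2⟩, ?_, rfl⟩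
        show Φ _ ∈ U'
        rw [hΦ r hr w]
        exact hinv r hr _ hw) with h1 | h1
    · refine Or.inl ((Submodule.eq_bot_iff _).2 fun v hv => ?_)
      obtain ⟨w, rfl⟩ := hU' hv
      have h2 : (w : V) ∈ (U'.comap Φ).map W.subtype := ⟨w, hv, rfl⟩
      rw [h1, Submodule.mem_bot] at h2
      rw [show w = 0 from Subtype.ext h2, map_zero]
    · refine Or.inr (le_antisymm hU' ?_)
      rintro _ ⟨w, rfl⟩
      obtain ⟨w', hw', hww⟩ := h1.ge w.2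
      exact Subtype.ext hww ▸ hw'

/-- Elements centralising `R` modulo `X` act trivially. -/
theorem triv_of_centralizes {t : G} (ht : t ∈ T) (hc : ∀ r ∈ R, ⁅r, t⁆ ∈ X) :
    ∀ w ∈ W, ρ t w = w := by
  obtain ⟨w₀, hw₀, h0⟩ := W.exists_mem_ne_zero_of_ne_bot h.hne
  obtain ⟨j, hj⟩ := h.hT ⟨t, ht⟩
  have hj' : t ^ 2 ^ j = 1 := congrArg Subtype.val hj
  have hcomm : ∀ r ∈ R, ∀ w ∈ W, ρ r (ρ t w) = ρ t (ρ r w) := by
    intro r hr
    obtain ⟨c, hcs⟩ := h.hscal _ (hc r hr)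
    have h1 : ∀ w ∈ W, ρ r (ρ t w) = c • ρ t (ρ r w) := fun w hw => by
      rw [← Module.End.mul_apply, ← map_mul, show r * t = ⁅r, t⁆ * (t * r) by
        rw [commutatorElement_def]; group, map_mul, map_mul, Module.End.mul_apply, Module.End.mul_apply]
      exact hcs _ (h.invT t ht _ (h.invR r hr w hw))
    have h2 : ∀ i : ℕ, ∀ w ∈ W, ρ r (ρ (t ^ i) w) = c ^ i • ρ (t ^ i) (ρ r w) := by
      intro i
      induction i with
      | zero => intro w _; simp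
      | succ i ih =>
        intro w hw
        rw [pow_succ, map_mul, Module.End.mul_apply, ih _ (h.invT t ht w hw), h1 w hw, map_smul,
          smul_smul, ← pow_succ]
        rfl
    have h3 := h2 (2 ^ j) w₀ hw₀
    rw [hj', map_one, Module.End.one_apply, Module.End.one_apply] at h3
    have hr0 : ρ r w₀ ≠ 0 := fun hz => h0 ((rep_inv_apply ρ r w₀).symm.trans (by rw [hz, map_zero]))
    have hc1 : c = 1 := eq_one_of_pow (j := j) (smul_left_injective k hr0 (h3.symm.trans (one_smul k _).symm))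
    intro w hw
    rw [h1 w hw, hc1, one_smul]
  obtain ⟨d, hd⟩ := h.schur (φ := (ρ t).comp W.subtype) (fun w => h.invT t ht _ w.2)
    (fun r hr w _ => (hcomm r hr _ w.2).symm)
  have hd2 : ∀ i : ℕ, ∀ w ∈ W, ρ (t ^ i) w = d ^ i • w := by
    intro i
    induction i with
    | zero => intro w _; simp
    | succ i ih =>
      intro w hw
      rw [pow_succ', map_mul, Module.End.mul_apply, ih w hw, map_smul,
        show ρ t w = d • w from hd ⟨w, hw⟩, smul_smul, ← pow_succ]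
  have h4 := hd2 (2 ^ j) w₀ hw₀
  rw [hj', map_one, Module.End.one_apply] at h4
  have hd1 : d = 1 := eq_one_of_pow (j := j) (smul_left_injective k h0 (h4.symm.trans (one_smul k _).symm))
  intro w hw
  rw [show ρ t w = d • w from hd ⟨w, hw⟩, hd1, one_smul]

theorem commute_of {a b : G} (ha : a ∈ T) (hb : b ∈ T) (hc : ∀ r ∈ R, ⁅r, ⁅a, b⁆⁆ ∈ X) :
    ∀ w ∈ W, ρ a (ρ b w) = ρ b (ρ a w) := fun w hw => by
  have h1 := h.triv_of_centralizes (T := T) (t := ⁅a, b⁆)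
    (by rw [commutatorElement_def]; exact mul_mem (mul_mem (mul_mem ha hb) (inv_mem ha)) (inv_mem hb)) hc
    _ (h.invT b hb _ (h.invT a ha w hw))
  rw [← Module.End.mul_apply, ← map_mul, show a * b = ⁅a, b⁆ * (b * a) by
    rw [commutatorElement_def]; group, map_mul, map_mul, Module.End.mul_apply, Module.End.mul_apply, h1]

end IsExt

/-- Simple submodules extend to the 2-group. -/
theorem exists_invariant_simple : ∀ {T : Subgroup G}, IsPre ρ T R X U → U ≠ ⊥ →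
    ∃ W ≤ U, IsExt ρ T R X W := by
  haveI : Fact (Nat.Prime 2) := ⟨Nat.prime_two⟩
  intro T
  induction hn : Nat.card T using Nat.strong_induction_on generalizing T with
  | _ n ih =>
  intro h hU
  obtain ⟨w₀, hw₀, hw₀0⟩ := U.exists_mem_ne_zero_of_ne_bot hU
  by_cases hT1 : T = ⊥
  · obtain ⟨W, ⟨hWU, hWne, hWinv⟩, hmin⟩ := exists_minimal_of_wellFoundedLT
      (fun W : Submodule k V => W ≤ U ∧ W ≠ ⊥ ∧ ∀ r ∈ R, ∀ w ∈ W, ρ r w ∈ W) ⟨U, le_rfl, hU, h.invR⟩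
    refine ⟨W, hWU, ⟨h.mono le_rfl hWU hWne (fun t ht w hw => ?_) hWinv, hWne, fun U' hU' hinv => ?_⟩⟩
    · rw [hT1, Subgroup.mem_bot] at ht
      rwa [ht, map_one, Module.End.one_apply]
    · by_cases h0 : U' = ⊥
      · exact Or.inl h0
      · exact Or.inr (le_antisymm hU' (hmin ⟨hU'.trans hWU, h0, hinv⟩ hU'))
  haveI : Nontrivial T := (Subgroup.nontrivial_iff_ne_bot T).2 hT1
  obtain ⟨M', hM'⟩ : ∃ M : Subgroup T, IsCoatom M := by
    rcases eq_top_or_exists_le_coatom (⊥ : Subgroup T) with hb | ⟨M, hM, -⟩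
    · exact absurd hb bot_ne_top
    · exact ⟨M, hM⟩
  haveI := coatom_normal h.hT hM'
  obtain ⟨x', hx'⟩ : ∃ x : T, x ∉ M' := by
    by_contra hc
    push Not at hc
    exact hM'.1 ((Subgroup.eq_top_iff' M').2 hc)
  obtain ⟨M, hM⟩ : ∃ M, M = M'.map T.subtype := ⟨_, rfl⟩
  have hMT : M ≤ T := hM ▸ Subgroup.map_subtype_le M'
  obtain ⟨x, hx⟩ : ∃ x, x = (x' : G) := ⟨_, rfl⟩
  have hxT : x ∈ T := hx ▸ x'.2
  have hxx : x * x ∈ M := by
    rw [hM, hx]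
    exact ⟨x' * x', (M'.mul_mem_iff_of_index_two (coatom_index h.hT hM') (a := x') (b := x')).2 Iff.rfl, rfl⟩
  have hconj : ∀ m ∈ M, x⁻¹ * m * x ∈ M := by
    intro m hm
    rw [hM] at hm ⊢
    obtain ⟨y, hy, rfl⟩ := hm
    exact ⟨x'⁻¹ * y * x', by simpa using (inferInstance : M'.Normal).conj_mem y hy x'⁻¹, by simp [hx]⟩
  have hgen : ∀ H : Subgroup G, M ≤ H → x ∈ H → T ≤ H := by
    intro H hMH hxH t ht
    have h1 : H.subgroupOf T = ⊤ := hM'.2 _ (lt_of_le_of_ne (fun y hy => Subgroup.mem_subgroupOf.2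
      (hMH (hM ▸ ⟨y, hy, rfl⟩))) fun hE => hx' (hE ▸ Subgroup.mem_subgroupOf.2 (hx ▸ hxH)))
    exact Subgroup.mem_subgroupOf.1 (h1 ▸ Subgroup.mem_top (⟨t, ht⟩ : T))
  have hfin : ∀ W, W ≤ U → W ≠ ⊥ → (∀ m ∈ M, ∀ w ∈ W, ρ m w ∈ W) → (∀ w ∈ W, ρ x w ∈ W) →
      ∀ t ∈ T, ∀ w ∈ W, ρ t w ∈ W := fun W hWU hWne hWM hWx t ht => by
    obtain ⟨St, hSt⟩ := ThmB.exists_stab ρ W
    exact (hSt t).1 (hgen St (fun m hm => (hSt m).2 (hWM m hm)) ((hSt x).2 hWx) ht)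
  obtain ⟨W₀, hW₀U, hW₀⟩ := ih _ (by
      rw [← hn, hM, Subgroup.card_map_of_injective T.subtype_injective]
      exact lt_of_le_of_ne (Subgroup.card_le_card_group M') fun he => hM'.1 (Subgroup.eq_top_of_card_eq M' he))
    rfl (h.mono hMT le_rfl hU (fun t ht => h.invT t (hMT ht)) h.invR) hU
  by_cases hWx : ∀ w ∈ W₀, ρ x w ∈ W₀
  · exact ⟨W₀, hW₀U, ⟨h.mono le_rfl hW₀U hW₀.hne (hfin _ hW₀U hW₀.hne hW₀.invT hWx) hW₀.invR,
      hW₀.hne, hW₀.hsimple⟩⟩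
  -- the conjugate module and an intertwiner onto it
  obtain ⟨W₁, hW₁⟩ : ∃ W₁, W₁ = W₀.map (ρ x) := ⟨_, rfl⟩
  have hW₁U : W₁ ≤ U := by
    rw [hW₁]; rintro _ ⟨w, hw, rfl⟩; exact h.invT x hxT w (hW₀U hw)
  have hxR : ∀ r ∈ R, x⁻¹ * r * x ∈ R := fun r hr => conj_mem_of_normalizer (h.hTR hxT) hr
  have hW₁R : ∀ r ∈ R, ∀ w ∈ W₁, ρ r w ∈ W₁ := by
    rw [hW₁]; rintro r hr _ ⟨w, hw, rfl⟩
    refine ⟨_, hW₀.invR _ (hxR r hr) w hw, ?_⟩
    rw [← Module.End.mul_apply, ← map_mul, ← Module.End.mul_apply, ← map_mul]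
    congr 2; group
  have hW₁ne : W₁ ≠ ⊥ := by
    obtain ⟨w, hw, hw0⟩ := W₀.exists_mem_ne_zero_of_ne_bot hW₀.hne
    intro hb
    have h1 : ρ x w ∈ W₁ := hW₁ ▸ ⟨w, hw, rfl⟩
    rw [hb, Submodule.mem_bot] at h1
    exact hw0 ((rep_inv_apply ρ x w).symm.trans (by rw [h1, map_zero]))
  have hW₁simple : ∀ U' ≤ W₁, (∀ r ∈ R, ∀ w ∈ U', ρ r w ∈ U') → U' = ⊥ ∨ U' = W₁ := by
    intro U' hU' hinv
    rcases hW₀.hsimple (U'.comap (ρ x)) (fun w hw => by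
        have h1 := hU' (Submodule.mem_comap.1 hw)
        rw [hW₁] at h1
        obtain ⟨w', hw', he⟩ := h1
        exact Solv.CRep.rep_injective ρ x he ▸ hw') (fun r hr w hw => by
        show ρ x (ρ r w) ∈ U'
        have h1 : ρ x (ρ r w) = ρ (x * r * x⁻¹) (ρ x w) := by
          rw [← Module.End.mul_apply, ← map_mul, ← Module.End.mul_apply, ← map_mul, inv_mul_cancel_right]
        rw [h1]
        exact hinv _ ((Subgroup.mem_normalizer_iff.1 (h.hTR hxT) r).1 hr) _ hw) with h1 | h1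
    · refine Or.inl ((Submodule.eq_bot_iff _).2 fun v hv => ?_)
      have h2 := hU' hv
      rw [hW₁] at h2
      obtain ⟨w, -, rfl⟩ := h2
      rw [(Submodule.mem_bot k).1 (h1 ▸ hv : w ∈ (⊥ : Submodule k V)), map_zero]
    · refine Or.inr (le_antisymm hU' ?_)
      rw [hW₁]; rintro _ ⟨w, hw, rfl⟩
      exact (h1.ge hw : w ∈ U'.comap (ρ x))
  obtain ⟨ψ, hψ0, hψW, hψ⟩ := h.exists_intertwiner hW₀U hW₀.hne hW₀.invR hW₁U hW₁ne hW₁R
  have hψrange : LinearMap.range ψ = W₁ := by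
    have hle : LinearMap.range ψ ≤ W₁ := by rintro _ ⟨w, rfl⟩; exact hψW w
    refine (hW₁simple _ hle ?_).resolve_left fun hb => hψ0 (LinearMap.range_eq_bot.1 hb)
    rintro r hr _ ⟨w, rfl⟩
    exact ⟨_, hψ r hr w (hW₀.invR r hr _ w.2)⟩
  have hψi := hW₀.inj hψ hψ0
  obtain ⟨u₀, hu₀, hu₀0⟩ := W₀.exists_mem_ne_zero_of_ne_bot hW₀.hne
  have hψu : ψ ⟨u₀, hu₀⟩ ≠ 0 := fun hz => hu₀0 (congrArg Subtype.val
    (hψi (hz.trans (map_zero ψ).symm)))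
  -- the elements of `M` commute with it
  have hψM : ∀ m ∈ M, ∀ (w : W₀) (hm : ρ m w ∈ W₀), ψ ⟨ρ m w, hm⟩ = ρ m (ψ w) := by
    intro m hm
    have hinvW₁ : ∀ m ∈ M, ∀ w ∈ W₁, ρ m w ∈ W₁ := by
      intro m hm w hw
      rw [hW₁] at hw ⊢
      obtain ⟨w, hw, rfl⟩ := hw
      refine ⟨_, hW₀.invT _ (hconj m hm) w hw, ?_⟩
      rw [← Module.End.mul_apply, ← map_mul, ← Module.End.mul_apply, ← map_mul]
      congr 2; group
    let back : ↥W₀ →ₗ[k] ↥W₀ :=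
      ((ρ m).comp W₀.subtype).codRestrict W₀ fun w => hW₀.invT m hm _ w.2
    obtain ⟨D, hD⟩ : ∃ D : W₀ →ₗ[k] V, D = ψ.comp back := ⟨_, rfl⟩
    obtain ⟨E, hE⟩ : ∃ E : W₀ →ₗ[k] V, E = (ρ m⁻¹).comp D := ⟨_, rfl⟩
    have hEi : Intertwines ρ R W₀ E := by
      intro r hr w hw
      have hr' : m * r * m⁻¹ ∈ R := (Subgroup.mem_normalizer_iff.1 (h.hTR (hMT hm)) r).1 hr
      have e1 : back ⟨ρ r w, hw⟩ = ⟨ρ (m * r * m⁻¹) (back w : V), hW₀.invR _ hr' _ (back w).2⟩ := by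
        refine Subtype.ext ?_
        show ρ m (ρ r w) = ρ (m * r * m⁻¹) (ρ m w)
        rw [← Module.End.mul_apply, ← map_mul, ← Module.End.mul_apply, ← map_mul, inv_mul_cancel_right]
      simp only [hE, hD, LinearMap.comp_apply]
      rw [e1, hψ _ hr', ← Module.End.mul_apply, ← map_mul, ← Module.End.mul_apply (ρ r), ← map_mul]
      congr 2; group
    obtain ⟨c, hc⟩ := hW₀.schur₂ hψ hEi hψ0 fun w => by
      rw [hψrange, hE, hD]
      exact hinvW₁ _ (inv_mem hm) _ (hψW _)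
    have hc' : ∀ (w : W₀) (hw : ρ m w ∈ W₀), ψ ⟨ρ m w, hw⟩ = c • ρ m (ψ w) := fun w hw => by
      have e := hc w
      rw [hE, hD] at e
      rw [← map_smul, ← e]
      exact (rep_apply_inv ρ m _).symm
    have hpow : ∀ i : ℕ, ∀ (w : W₀) (hw : ρ (m ^ i) w ∈ W₀), ψ ⟨ρ (m ^ i) w, hw⟩ = c ^ i • ρ (m ^ i) (ψ w) := by
      intro i
      induction i with
      | zero => intro w hw; simp
      | succ i ihi =>
        intro w hw
        have hi : ρ (m ^ i) (w : V) ∈ W₀ := hW₀.invT _ (pow_mem hm i) _ w.2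
        have e0 : ρ (m ^ (i + 1)) (w : V) = ρ m (ρ (m ^ i) w) := by
          rw [pow_succ', map_mul, Module.End.mul_apply]
        have e1 : (⟨ρ (m ^ (i + 1)) w, hw⟩ : W₀) = ⟨ρ m ((⟨_, hi⟩ : W₀) : V), e0 ▸ hw⟩ := Subtype.ext e0
        rw [e1, hc', ihi w hi, map_smul, smul_smul, ← pow_succ', ← Module.End.mul_apply, ← map_mul,
          ← pow_succ']
    obtain ⟨j, hj⟩ := h.hT ⟨m, hMT hm⟩
    have hj' : m ^ 2 ^ j = 1 := congrArg Subtype.val hj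
    have e2 := hpow (2 ^ j) ⟨u₀, hu₀⟩ (by rw [hj', map_one]; exact hu₀)
    simp only [hj', map_one, Module.End.one_apply] at e2
    have hc1 : c = 1 := eq_one_of_pow (j := j) (smul_left_injective k hψu (e2.symm.trans (one_smul k _).symm))
    intro w hw
    rw [hc' w hw, hc1, one_smul]
  -- the scalar
  have hxW : ∀ w : W₀, ρ x (ψ w) ∈ W₀ := fun w => by
    have h1 := hψW w
    rw [hW₁] at h1
    obtain ⟨w', hw', he⟩ := h1
    rw [← he, ← Module.End.mul_apply, ← map_mul]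
    exact hW₀.invT _ hxx _ hw'
  obtain ⟨E, hE⟩ : ∃ E : W₀ →ₗ[k] V, ∀ w, E w = ρ x⁻¹ (ψ ⟨ρ x (ψ w), hxW w⟩) :=
    ⟨(ρ x⁻¹).comp (ψ.comp (((ρ x).comp ψ).codRestrict W₀ hxW)), fun _ => rfl⟩
  obtain ⟨γ, hγ⟩ := hW₀.schur (φ := E) (fun w => by
      have h1 := hψW ⟨ρ x (ψ w), hxW w⟩
      rw [hW₁] at h1
      obtain ⟨w', hw', he⟩ := h1
      rw [hE, ← he, rep_inv_apply]
      exact hw') (fun r hr w hw => by
      have hr' : x * r * x⁻¹ ∈ R := (Subgroup.mem_normalizer_iff.1 (h.hTR hxT) r).1 hr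
      have e1 : (⟨ρ x (ψ ⟨ρ r w, hw⟩), hxW _⟩ : W₀) =
          ⟨ρ (x * r * x⁻¹) ((⟨ρ x (ψ w), hxW w⟩ : W₀) : V), hW₀.invR _ hr' _ (hxW w)⟩ := Subtype.ext (by
        show ρ x (ψ ⟨ρ r w, hw⟩) = ρ (x * r * x⁻¹) (ρ x (ψ w))
        rw [hψ r hr w hw, ← Module.End.mul_apply, ← map_mul, ← Module.End.mul_apply, ← map_mul,
          inv_mul_cancel_right])
      rw [hE, hE, e1, hψ _ hr', ← Module.End.mul_apply, ← map_mul, ← Module.End.mul_apply (ρ r), ← map_mul]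
      congr 2; group)
  have hγ' : ∀ w : W₀, ψ ⟨ρ x (ψ w), hxW w⟩ = γ • ρ x w := fun w => by
    have e := hγ w
    rw [hE] at e
    rw [← map_smul, ← e, rep_apply_inv]
  have hγ0 : γ ≠ 0 := fun hz => hψu (by
    have e := hγ' ⟨u₀, hu₀⟩
    rw [hz, zero_smul] at e
    have e3 : ρ x (ψ ⟨u₀, hu₀⟩) = 0 := congrArg Subtype.val (hψi (e.trans (map_zero ψ).symm))
    exact (rep_inv_apply ρ x _).symm.trans (by rw [e3, map_zero]))
  obtain ⟨t, ht⟩ := IsAlgClosed.exists_pow_nat_eq (k := k) γ⁻¹ (n := 2) two_pos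
  have ht0 : t ≠ 0 := fun hz => by simp [hz, eq_comm, hγ0] at ht
  obtain ⟨Φ, hΦ⟩ : ∃ Φ : W₀ →ₗ[k] V, ∀ w : W₀, Φ w = (w : V) + t • ψ w :=
    ⟨W₀.subtype + t • ψ, fun _ => rfl⟩
  have hdis : ∀ v, v ∈ W₀ → v ∈ W₁ → v = 0 := by
    intro v h0 h1
    rcases hW₀.hsimple (W₀ ⊓ W₁) inf_le_left (fun r hr w hw => ⟨hW₀.invR r hr w hw.1, hW₁R r hr w hw.2⟩)
      with hb | hb
    · exact (Submodule.mem_bot k).1 (hb ▸ (⟨h0, h1⟩ : v ∈ W₀ ⊓ W₁))
    · exfalso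
      have hle : W₀ ≤ W₁ := hb ▸ inf_le_right
      rcases hW₁simple W₀ hle hW₀.invR with hc | hc
      · exact hW₀.hne hc
      · refine hWx fun w hw => ?_
        rw [hc, hW₁]; exact ⟨w, hw, rfl⟩
  have hΦ0 : Φ ≠ 0 := fun hz => by
    have e := LinearMap.congr_fun hz ⟨u₀, hu₀⟩
    rw [hΦ, LinearMap.zero_apply] at e
    have e2 : (t • ψ ⟨u₀, hu₀⟩ : V) = -u₀ := eq_neg_of_add_eq_zero_right e
    have e3 := hdis (-u₀) (neg_mem hu₀) (e2 ▸ W₁.smul_mem t (hψW _))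
    exact hu₀0 (neg_eq_zero.1 e3)
  have hΦi : Intertwines ρ R W₀ Φ := fun r hr w hw => by
    rw [hΦ, hΦ, hψ r hr w hw, map_add, map_smul]
  have hΦU : LinearMap.range Φ ≤ U := by
    rintro _ ⟨w, rfl⟩
    rw [hΦ]
    exact add_mem (hW₀U w.2) (U.smul_mem t (hW₁U (hψW w)))
  have hΦM : ∀ m ∈ M, ∀ v ∈ LinearMap.range Φ, ρ m v ∈ LinearMap.range Φ := by
    rintro m hm _ ⟨w, rfl⟩
    refine ⟨⟨ρ m w, hW₀.invT m hm _ w.2⟩, ?_⟩
    rw [hΦ, hΦ, hψM m hm w, map_add, map_smul]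
  have hΦx : ∀ v ∈ LinearMap.range Φ, ρ x v ∈ LinearMap.range Φ := by
    rintro _ ⟨w, rfl⟩
    refine ⟨⟨t • ρ x (ψ w), W₀.smul_mem t (hxW w)⟩, ?_⟩
    rw [hΦ, hΦ, map_add, map_smul,
      show ψ ⟨t • ρ x (ψ w), W₀.smul_mem t (hxW w)⟩ = t • ψ ⟨ρ x (ψ w), hxW w⟩ from
        map_smul ψ t ⟨_, hxW w⟩, hγ', smul_smul, ← pow_two, ht, inv_smul_smul₀ hγ0,
      add_comm]
  have hne := fun hb => hΦ0 (LinearMap.range_eq_bot.1 hb)
  have hE' := hW₀.range le_rfl hΦi hΦ0 hΦM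
  exact ⟨_, hΦU, ⟨h.mono le_rfl hΦU hne (hfin _ hΦU hne hΦM hΦx) hE'.invR, hE'.hne, hE'.hsimple⟩⟩

/-- The second socle of the space of intertwiners. -/
theorem IsExt.commute_or_exists {W : Submodule k V} (h : IsExt ρ T R X W) {U : Submodule k V}
    (hUT : ∀ t ∈ T, ∀ v ∈ U, ρ t v ∈ U) {a : G} (haT : a ∈ ⁅T, T⁆)
    (hzero : ∀ n ∈ T, ∀ w ∈ W, ρ a (ρ n w - w) = ρ n w - w) (hmove : ∃ w ∈ W, ρ a w ≠ w) :
    (∀ Φ : W →ₗ[k] V, (∀ w, Φ w ∈ U) → Intertwines ρ R W Φ → ∀ n ∈ T, ∀ (w : W) (hw : ρ n w ∈ W),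
        Φ ⟨ρ n w, hw⟩ = ρ n (Φ w)) ∨
      ∃ Φ₀ : W →ₗ[k] V, Φ₀ ≠ 0 ∧ (∀ w, Φ₀ w ∈ U) ∧ Intertwines ρ R W Φ₀ ∧
        (∀ n ∈ T, ∀ (w : W) (hw : ρ n w ∈ W), Φ₀ ⟨ρ n w, hw⟩ = ρ n (Φ₀ w)) ∧
        ∃ w₁ : W, Φ₀ w₁ ≠ 0 ∧ Φ₀ w₁ ∈ aug ρ ⁅T, T⁆ (aug ρ T U) := by
  haveI : Fact (Nat.Prime 2) := ⟨Nat.prime_two⟩
  let bk : ↥T → (↥W →ₗ[k] ↥W) := fun g =>
    ((ρ (g : G)⁻¹).comp W.subtype).codRestrict W fun w => h.invT _ (inv_mem g.2) _ w.2
  let σ : ↥T →* Module.End k (↥W →ₗ[k] V) :=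
    { toFun := fun g =>
        { toFun := fun Φ => (ρ (g : G)).comp (Φ.comp (bk g))
          map_add' := fun Φ Ψ => by ext w; simp
          map_smul' := fun c Φ => by ext w; simp }
      map_one' := by
        ext Φ w
        show ρ ((1 : ↥T) : G) (Φ (bk 1 w)) = Φ w
        rw [OneMemClass.coe_one, map_one, Module.End.one_apply]
        congr 1
        exact Subtype.ext (show ρ ((1 : ↥T) : G)⁻¹ (w : V) = w by simp)
      map_mul' := fun g g' => by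
        ext Φ w
        simp only [Module.End.mul_apply, LinearMap.coe_mk, AddHom.coe_mk, LinearMap.comp_apply,
          Subgroup.coe_mul, map_mul]
        congr 3
        refine Subtype.ext ?_
        show ρ ((g : G) * (g' : G))⁻¹ (w : V) = ρ (g' : G)⁻¹ (ρ (g : G)⁻¹ (w : V))
        rw [mul_inv_rev, map_mul, Module.End.mul_apply] }
  have hσ : ∀ (g : ↥T) (Φ : W →ₗ[k] V) (w : W), σ g Φ w = ρ (g : G) (Φ (bk g w)) := fun _ _ _ => rfl
  obtain ⟨H, hH⟩ : ∃ H : Submodule k (↥W →ₗ[k] V),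
      ∀ Φ, Φ ∈ H ↔ (∀ w, Φ w ∈ U) ∧ Intertwines ρ R W Φ :=
    ⟨{ carrier := {Φ | (∀ w, Φ w ∈ U) ∧ Intertwines ρ R W Φ}
       add_mem' := fun {Φ Ψ} hΦ hΨ => ⟨fun w => U.add_mem (hΦ.1 w) (hΨ.1 w), fun r hr w hw => by
         rw [LinearMap.add_apply, LinearMap.add_apply, hΦ.2 r hr w hw, hΨ.2 r hr w hw, map_add]⟩
       zero_mem' := ⟨fun w => U.zero_mem, fun r _ w _ => by simp⟩
       smul_mem' := fun c Φ hΦ => ⟨fun w => U.smul_mem c (hΦ.1 w), fun r hr w hw => by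
         rw [LinearMap.smul_apply, LinearMap.smul_apply, hΦ.2 r hr w hw, map_smul]⟩ }, fun _ => Iff.rfl⟩
  obtain ⟨F, hF⟩ : ∃ F : Submodule k (↥W →ₗ[k] V), ∀ Φ, Φ ∈ F ↔ ∀ g, σ g Φ = Φ :=
    ⟨{ carrier := {Φ | ∀ g, σ g Φ = Φ}
       add_mem' := fun {Φ Ψ} hΦ hΨ g => by rw [map_add, hΦ g, hΨ g]
       zero_mem' := fun g => map_zero _
       smul_mem' := fun c Φ hΦ g => by rw [map_smul, hΦ g] }, fun _ => Iff.rfl⟩
  have hfix : ∀ Φ ∈ F, ∀ n ∈ T, ∀ (w : W) (hw : ρ n w ∈ W), Φ ⟨ρ n w, hw⟩ = ρ n (Φ w) := by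
    intro Φ hΦ n hn w hw
    have e := LinearMap.congr_fun ((hF Φ).1 hΦ ⟨n, hn⟩) ⟨ρ n w, hw⟩
    rw [hσ] at e
    rw [← e]
    congr 2
    exact Subtype.ext (rep_inv_apply ρ n (w : V))
  have hHinv : ∀ g, ∀ Φ ∈ H, σ g Φ ∈ H := by
    intro g Φ hΦ
    rw [hH] at hΦ ⊢
    refine ⟨fun w => by rw [hσ]; exact hUT _ g.2 _ (hΦ.1 _), fun r hr w hw => ?_⟩
    have hr' : (g : G)⁻¹ * r * g ∈ R := conj_mem_of_normalizer (h.hTR g.2) hr
    rw [hσ, hσ, show bk g ⟨ρ r w, hw⟩ = ⟨ρ ((g : G)⁻¹ * r * g) (bk g w : V), h.invR _ hr' _ (bk g w).2⟩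
      from Subtype.ext (by
        show ρ (g : G)⁻¹ (ρ r w) = ρ ((g : G)⁻¹ * r * g) (ρ (g : G)⁻¹ w)
        rw [← Module.End.mul_apply, ← map_mul, ← Module.End.mul_apply, ← map_mul, mul_inv_cancel_right]),
      hΦ.2 _ hr', ← Module.End.mul_apply, ← map_mul, ← Module.End.mul_apply, ← map_mul]
    congr 2; group
  by_cases hall : H ≤ F
  · exact Or.inl fun Φ hU hΦ => hfix Φ (hall ((hH Φ).2 ⟨hU, hΦ⟩))
  have hFinv : ∀ g, F ≤ F.comap (σ g) := fun g Φ hΦ => by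
    rw [Submodule.mem_comap, (hF Φ).1 hΦ g]; exact hΦ
  let σq : ↥T →* Module.End k ((↥W →ₗ[k] V) ⧸ F) :=
    { toFun := fun g => F.mapQ F (σ g) (hFinv g)
      map_one' := by
        apply Submodule.linearMap_qext
        ext Φ
        simp
      map_mul' := fun g g' => by
        apply Submodule.linearMap_qext
        ext Φ
        simp [map_mul] }
  obtain ⟨q, hq, hq0, hqfix⟩ := exists_fixed σq ⊤ (h.hT.of_equiv Subgroup.topEquiv.symm) (H.map F.mkQ)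
    (fun hb => hall (by
      intro Φ hΦ
      have h1 : F.mkQ Φ ∈ H.map F.mkQ := ⟨Φ, hΦ, rfl⟩
      rw [hb, Submodule.mem_bot, Submodule.mkQ_apply, Submodule.Quotient.mk_eq_zero] at h1
      exact h1))
    (by rintro g - _ ⟨Φ, hΦ, rfl⟩; exact ⟨σ g Φ, hHinv g Φ hΦ, rfl⟩)
  obtain ⟨Φ₁, hΦ₁, rfl⟩ := hq
  have hc : ∀ g, σ g Φ₁ - Φ₁ ∈ F := fun g => (Submodule.Quotient.eq F).1 (hqfix g trivial)
  have hΦ₁F : Φ₁ ∉ F := fun hm => hq0 ((Submodule.Quotient.mk_eq_zero F).2 hm)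
  -- the displacement is additive
  have hadd : ∀ g g', σ (g * g') Φ₁ - Φ₁ = (σ g Φ₁ - Φ₁) + (σ g' Φ₁ - Φ₁) := fun g g' => by
    have e := (hF _).1 (hc g') g
    rw [map_sub] at e
    rw [map_mul, Module.End.mul_apply, ← e]
    abel
  let K : Subgroup G :=
    { carrier := {g | ∃ hg : g ∈ T, σ ⟨g, hg⟩ Φ₁ = Φ₁}
      one_mem' := ⟨one_mem T, by rw [show (⟨1, _⟩ : ↥T) = 1 from rfl, map_one, Module.End.one_apply]⟩
      mul_mem' := fun {a b} ⟨ha, ha'⟩ ⟨hb, hb'⟩ => ⟨mul_mem ha hb, by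
        rw [show (⟨a * b, _⟩ : ↥T) = ⟨a, ha⟩ * ⟨b, hb⟩ from rfl, map_mul, Module.End.mul_apply, hb', ha']⟩
      inv_mem' := fun {a} ⟨ha, ha'⟩ => ⟨inv_mem ha, by
        conv_lhs => rw [← ha']
        rw [← Module.End.mul_apply, ← map_mul, show (⟨a⁻¹, inv_mem ha⟩ : ↥T) = (⟨a, ha⟩ : ↥T)⁻¹ from rfl,
          inv_mul_cancel, map_one, Module.End.one_apply]⟩ }
  have haK : a ∈ K := by
    refine Subgroup.commutator_le.2 (fun g hg g' hg' => ?_) haT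
    refine ⟨?_, sub_eq_zero.1 ?_⟩
    · rw [commutatorElement_def]; exact mul_mem (mul_mem (mul_mem hg hg') (inv_mem hg)) (inv_mem hg')
    · have e1 : σ ⟨g, hg⟩⁻¹ Φ₁ - Φ₁ = -(σ ⟨g, hg⟩ Φ₁ - Φ₁) := eq_neg_of_add_eq_zero_right (by
        rw [← hadd, mul_inv_cancel, map_one, Module.End.one_apply, sub_self])
      have e2 : σ ⟨g', hg'⟩⁻¹ Φ₁ - Φ₁ = -(σ ⟨g', hg'⟩ Φ₁ - Φ₁) := eq_neg_of_add_eq_zero_right (by
        rw [← hadd, mul_inv_cancel, map_one, Module.End.one_apply, sub_self])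
      rw [show (⟨⁅g, g'⁆, _⟩ : ↥T) = ⟨g, hg⟩ * ⟨g', hg'⟩ * ⟨g, hg⟩⁻¹ * ⟨g', hg'⟩⁻¹ from rfl, hadd, hadd,
        hadd, e1, e2]
      abel
  obtain ⟨haT', ha1⟩ := haK
  obtain ⟨n, hn⟩ : ∃ n, σ n Φ₁ ≠ Φ₁ := by
    by_contra hc'
    push Not at hc'
    exact hΦ₁F ((hF Φ₁).2 hc')
  obtain ⟨Φ₀, hΦ₀⟩ : ∃ Φ₀, Φ₀ = σ n Φ₁ - Φ₁ := ⟨_, rfl⟩
  have hΦ₀F : Φ₀ ∈ F := hΦ₀ ▸ hc n
  have hΦ₀H : Φ₀ ∈ H := hΦ₀ ▸ sub_mem (hHinv n _ hΦ₁) hΦ₁
  have hne : Φ₀ ≠ 0 := fun hz => hn (sub_eq_zero.1 (hΦ₀ ▸ hz))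
  refine Or.inr ⟨Φ₀, hne, ((hH _).1 hΦ₀H).1, ((hH _).1 hΦ₀H).2, hfix _ hΦ₀F, ?_⟩
  obtain ⟨w', hw', haw'⟩ := hmove
  have haW : ∀ w ∈ W, ρ a w ∈ W := h.invT a haT'
  have hnW : ∀ w ∈ W, ρ (n : G) w ∈ W := h.invT _ n.2
  obtain ⟨w, hw⟩ : ∃ w : W, ρ (n : G) w = w' :=
    ⟨⟨ρ (n : G)⁻¹ w', h.invT _ (inv_mem n.2) _ hw'⟩, rep_apply_inv ρ _ _⟩
  refine ⟨⟨ρ a w' - w', sub_mem (haW _ hw') hw'⟩, ?_, ?_⟩
  · intro hz
    exact haw' (sub_eq_zero.1 (congrArg Subtype.val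
      (h.inj ((hH _).1 hΦ₀H).2 hne (hz.trans (map_zero Φ₀).symm))))
  have ha₁ : ∀ v : W, ρ a (Φ₁ v) = Φ₁ ⟨ρ a v, haW _ v.2⟩ := fun v => by
    have e := LinearMap.congr_fun ha1 ⟨ρ a v, haW _ v.2⟩
    rw [hσ] at e
    rw [← e]
    congr 2
    exact (Subtype.ext (rep_inv_apply ρ a (v : V))).symm
  have hn₁ : ρ (n : G) (Φ₁ w) = Φ₁ ⟨w', hw'⟩ + Φ₀ ⟨w', hw'⟩ := by
    rw [hΦ₀, LinearMap.sub_apply, add_sub_cancel, hσ]
    congr 2
    exact Subtype.ext (show (w : V) = ρ (n : G)⁻¹ w' by rw [← hw, rep_inv_apply])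
  obtain ⟨u, hu⟩ : ∃ u : W, u = ⟨w', hw'⟩ - w := ⟨_, rfl⟩
  have hau : (⟨ρ a u, haW _ u.2⟩ : W) = u := Subtype.ext (by
    show ρ a (u : V) = u
    rw [hu, Submodule.coe_sub]
    show ρ a (w' - (w : V)) = w' - w
    rw [← hw]
    exact hzero _ n.2 _ w.2)
  have e1 : ρ (n : G) (Φ₁ w) - Φ₁ w = Φ₁ u + Φ₀ ⟨w', hw'⟩ := by
    rw [hn₁, hu, map_sub]; abel
  have e2 : ρ a (ρ (n : G) (Φ₁ w) - Φ₁ w) - (ρ (n : G) (Φ₁ w) - Φ₁ w) =
      Φ₀ ⟨ρ a w' - w', sub_mem (haW _ hw') hw'⟩ := by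
    rw [e1, map_add, ha₁, hau, ← hfix _ hΦ₀F a haT' ⟨w', hw'⟩ (haW _ hw'), add_sub_add_left_eq_sub,
      ← map_sub]
    rfl
  rw [← e2]
  exact mem_aug haT (mem_aug n.2 (((hH _).1 hΦ₁).1 w))

end Cfsg.Agent.Solv.D2
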