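import Cfsg.Agent.Lib.Solv.DerivedTwo.Class
import Cfsg.Agent.Lib.Solv.HallHigman
import Cfsg.Agent.Lib.Solv.Cores
import Cfsg.Agent.Lib.Fusion.Critical

/-!
Consequences for a 2-soluble group with trivial 2-core and a faithful representation on which the product
of the augmentation operators of the derived series of a Sylow 2-subgroup vanishes.
-/

set_option autoImplicit false
set_option linter.style.haveILetI false
set_option maxHeartbeats 1000000

namespace Cfsg.Agent.Solv.D2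

attribute [local instance] Fintype.ofFinite

open scoped commutatorElement

universe u

variable {G : Type u} [Group G] [Finite G]

/-- For each prime, a Sylow subgroup of a normal subgroup of odd order normalised by the given Sylow
2-subgroup, with normaliser supplementing the normal subgroup. -/
theorem exists_normalized_sylow (S : Sylow 2 G) (K : Subgroup G) [K.Normal] (hK : Odd (Nat.card K))
    (q : ℕ) [Fact q.Prime] :
    ∃ Q : Sylow q K, (S : Subgroup G) ≤ Subgroup.normalizer ((Q : Subgroup K).map K.subtype : Set G) ∧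
      Subgroup.normalizer ((Q : Subgroup K).map K.subtype : Set G) ⊔ K = ⊤ := by
  haveI : Fact (Nat.Prime 2) := ⟨Nat.prime_two⟩
  obtain ⟨Q₀⟩ : Nonempty (Sylow q K) := inferInstance
  obtain ⟨N, hN⟩ : ∃ N, N = Subgroup.normalizer ((Q₀ : Subgroup K).map K.subtype : Set G) := ⟨_, rfl⟩
  have htop : N ⊔ K = ⊤ := hN ▸ Sylow.normalizer_sup_eq_top Q₀
  have hidx : N.index ∣ Nat.card K := by
    have h1 : K.relIndex N = K.index := by
      rw [← Subgroup.relIndex_sup_right, htop, Subgroup.relIndex_top_right]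
    have h2 := (K.subgroupOf N).card_mul_index
    rw [show (K.subgroupOf N).index = K.relIndex N from rfl, h1] at h2
    refine ⟨Nat.card (K.subgroupOf N), ?_⟩
    refine Nat.eq_of_mul_eq_mul_right (Nat.pos_of_ne_zero K.index_ne_zero_of_finite) ?_
    rw [K.card_mul_index, ← N.card_mul_index, ← h2]
    ring
  obtain ⟨T⟩ : Nonempty (Sylow 2 N) := inferInstance
  have hcard : Nat.card ((T : Subgroup N).map N.subtype) = Nat.card (S : Subgroup G) := by
    rw [Subgroup.card_map_of_injective N.subtype_injective, Sylow.card_eq_multiplicity, Sylow.card_eq_multiplicity,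
      ← N.card_mul_index, Nat.factorization_mul (Nat.card_pos.ne') N.index_ne_zero_of_finite, Finsupp.add_apply,
      Nat.factorization_eq_zero_of_not_dvd (n := N.index) (p := 2) (fun h =>
        Nat.not_even_iff_odd.2 hK (even_iff_two_dvd.2 (h.trans hidx))), add_zero]
  obtain ⟨T', hT'⟩ : ∃ T' : Sylow 2 G, (T' : Subgroup G) = (T : Subgroup N).map N.subtype :=
    ⟨Sylow.ofCard _ (hcard.trans S.card_eq_multiplicity), Sylow.coe_ofCard _ _⟩
  obtain ⟨g, hg⟩ := MulAction.exists_smul_eq G T' S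
  -- transport by `g`
  obtain ⟨α, hα⟩ : ∃ α : MulAut K, ∀ x : K, ((α x : K) : G) = g * x * g⁻¹ :=
    ⟨MulAut.conjNormal g, fun x => MulAut.conjNormal_apply g x⟩
  obtain ⟨Q, hQ⟩ : ∃ Q : Sylow q K, (Q : Subgroup K) = (Q₀ : Subgroup K).map α.toMonoidHom := by
    refine ⟨Sylow.ofCard _ ?_, Sylow.coe_ofCard _ _⟩
    rw [Subgroup.card_map_of_injective α.injective, Q₀.card_eq_multiplicity]
  have hmem : ∀ x, x ∈ (Q : Subgroup K).map K.subtype ↔ g⁻¹ * x * g ∈ (Q₀ : Subgroup K).map K.subtype := by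
    intro x
    rw [hQ]
    constructor
    · rintro ⟨_, ⟨y, hy, rfl⟩, rfl⟩
      exact ⟨y, hy, by simp [hα, mul_assoc]⟩
    · rintro ⟨y, hy, e⟩
      refine ⟨α y, ⟨y, hy, rfl⟩, ?_⟩
      show ((α y : K) : G) = x
      rw [hα, show (y : G) = g⁻¹ * x * g from e]; group
  have hnorm : ∀ x, x ∈ N → g * x * g⁻¹ ∈ Subgroup.normalizer ((Q : Subgroup K).map K.subtype : Set G) := by
    intro x hx
    rw [hN] at hx
    refine Subgroup.mem_normalizer_iff.2 fun y => ?_
    rw [hmem, hmem, Subgroup.mem_normalizer_iff.1 hx,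
      show x * (g⁻¹ * y * g) * x⁻¹ = g⁻¹ * (g * x * g⁻¹ * y * (g * x * g⁻¹)⁻¹) * g by group]
  refine ⟨Q, fun s hs => ?_, Sylow.normalizer_sup_eq_top Q⟩
  rw [← hg] at hs
  obtain ⟨t, ht, rfl⟩ := hs
  show g * t * g⁻¹ ∈ _
  exact hnorm t (Subgroup.map_subtype_le (T : Subgroup N) (hT' ▸ ht))

variable {k : Type} [Field k] [IsAlgClosed k] [CharP k 2] {d : ℕ}

/-- The facts for a group with trivial 2-core. -/
theorem core_facts (hG : Cfsg.IsPSolvable 2 G) (hcore : Cfsg.pCore 2 G = ⊥)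
    (ρ : G →* Module.End k (Fin d → k)) (hρ : ∀ g, ρ g = 1 → g = 1) (S : Sylow 2 G) {n : ℕ}
    (hprod : prod ρ (S : Subgroup G) ⊤ (n + 1) = ⊥) :
    (n = 0 → (S : Subgroup G) = ⊥) ∧
    (∀ a ∈ dser (S : Subgroup G) n, a * a = 1) ∧
    (1 ≤ n → ∀ w ∈ dser (S : Subgroup G) (n - 1), ∀ x ∈ dser (S : Subgroup G) (n - 1),
      w * w = 1 → Commute w x) ∧
    (aug ρ (dser (S : Subgroup G) n) (prod ρ (S : Subgroup G) ⊤ (n - 1)) = ⊥ →
      dser (S : Subgroup G) n = ⊥) ∧
    ∀ a ∈ dser (S : Subgroup G) n, ∀ b ∈ dser (S : Subgroup G) n, ∀ g, ∀ w ∈ (S : Subgroup G),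
      (g * b * g⁻¹)⁻¹ * w ∈ Cfsg.pPrimeCore 2 G → Commute a w := by
  classical
  haveI : Fact (Nat.Prime 2) := ⟨Nat.prime_two⟩
  haveI := Cfsg.pPrimeCore_normal 2 G
  obtain ⟨K, hK⟩ : ∃ K, K = Cfsg.pPrimeCore 2 G := ⟨_, rfl⟩
  haveI : K.Normal := hK ▸ inferInstance
  rw [← hK]
  obtain ⟨S', hS'⟩ : ∃ S' : Subgroup G, S' = (S : Subgroup G) := ⟨_, rfl⟩
  rw [← hS'] at hprod ⊢
  have hS2 : IsPGroup 2 S' := hS' ▸ S.isPGroup'
  have hKodd : Odd (Nat.card K) := Nat.coprime_two_right.1 (hK ▸ pPrimeCore_coprime 2)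
  have hCK : Subgroup.centralizer (K : Set G) ≤ K := hK ▸ centralizer_pPrimeCore_le hG hcore
  -- facts at each prime
  have prime : ∀ q : ℕ, q.Prime → ∃ Q : Sylow q K,
      ∀ c ∈ S', (∀ P Z : Subgroup G, Odd (Nat.card P) → S' ≤ Subgroup.normalizer (P : Set G) →
        ⁅P, P⁆ ≤ Subgroup.centralizer (P : Set G) → (∀ z, z ∈ Z ↔ z ∈ P ∧ ∀ r ∈ P, Commute z r) →
        (∀ g, ∃ m ∈ K, ∀ z ∈ Z, g * m * z * (g * m)⁻¹ ∈ Z) → ∀ r ∈ P, Commute c r) →
      ∀ x ∈ (Q : Subgroup K), Commute c (x : G) := by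
    intro q hq
    haveI := Fact.mk hq
    obtain ⟨Q, hSQ, htop⟩ := exists_normalized_sylow S K hKodd q
    refine ⟨Q, fun c hc hall => ?_⟩
    rw [← hS'] at hSQ
    obtain ⟨QG, hQG⟩ : ∃ QG, QG = (Q : Subgroup K).map K.subtype := ⟨_, rfl⟩
    rw [← hQG] at hSQ htop
    have hQGK : QG ≤ K := hQG ▸ Subgroup.map_subtype_le _
    have hQp : IsPGroup q QG := hQG ▸ Q.isPGroup'.map _
    obtain ⟨H, hHc, -, hHcomm, hHcent⟩ := Fusion.exists_critical hQp
    haveI := hHc
    obtain ⟨P, hP⟩ : ∃ P, P = H.map QG.subtype := ⟨_, rfl⟩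
    obtain ⟨Z, hZ⟩ : ∃ Z : Subgroup G, ∀ z, z ∈ Z ↔ z ∈ P ∧ ∀ r ∈ P, Commute z r :=
      ⟨P ⊓ Subgroup.centralizer (P : Set G), fun z => by
        rw [Subgroup.mem_inf, Subgroup.mem_centralizer_iff]
        exact and_congr_right fun _ => forall₂_congr fun _ _ => eq_comm⟩
    have hcharN : ∀ g ∈ Subgroup.normalizer (QG : Set G), ∀ r ∈ P, g * r * g⁻¹ ∈ P := by
      intro g hg r hr
      rw [hP] at hr ⊢
      obtain ⟨y, hy, rfl⟩ := hr
      refine ⟨QG.normalizerMonoidHom ⟨g, hg⟩ y, ?_, rfl⟩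
      rw [← Subgroup.characteristic_iff_map_eq.1 hHc (QG.normalizerMonoidHom ⟨g, hg⟩)]
      exact ⟨y, hy, rfl⟩
    have hSP : S' ≤ Subgroup.normalizer (P : Set G) := fun s hs => Subgroup.mem_normalizer_iff.2 fun r =>
      ⟨fun hr => hcharN s (hSQ hs) r hr, fun hr => by
        simpa [mul_assoc] using hcharN s⁻¹ (inv_mem (hSQ hs)) _ hr⟩
    have hcl : ⁅P, P⁆ ≤ Subgroup.centralizer (P : Set G) := by
      refine Subgroup.commutator_le.2 fun r hr s hs => Subgroup.mem_centralizer_iff.2 fun t ht => ?_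
      rw [hP] at hr hs ht
      obtain ⟨r, hr', rfl⟩ := hr
      obtain ⟨s, -, rfl⟩ := hs
      obtain ⟨t, ht', rfl⟩ := ht
      exact congrArg Subtype.val ((Subgroup.mem_centralizer_iff.1
        (hHcomm (Subgroup.commutator_mem_commutator hr' (Subgroup.mem_top s))).2) t ht')
    have hPodd : Odd (Nat.card P) :=
      Odd.of_dvd_nat hKodd (Subgroup.card_dvd_of_le ((hP ▸ Subgroup.map_subtype_le H).trans hQGK))
    have hcP : ∀ r ∈ P, Commute c r := hall P Z hPodd hSP hcl hZ fun g => by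
      have hg : g ∈ Subgroup.normalizer (QG : Set G) ⊔ K := htop ▸ Subgroup.mem_top g
      obtain ⟨h, hh, m, hm, rfl⟩ := Subgroup.mem_sup_of_normal_right.1 hg
      refine ⟨m⁻¹, inv_mem hm, fun z hz => ?_⟩
      rw [mul_inv_cancel_right]
      rw [hZ] at hz ⊢
      refine ⟨hcharN h hh z hz.1, fun r hr => ?_⟩
      have hr' : h⁻¹ * r * h ∈ P := by simpa using hcharN h⁻¹ (inv_mem hh) r hr
      calc h * z * h⁻¹ * r = h * (z * (h⁻¹ * r * h)) * h⁻¹ := by group
        _ = h * ((h⁻¹ * r * h) * z) * h⁻¹ := by rw [(hz.2 _ hr').eq]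
        _ = r * (h * z * h⁻¹) := by group
    intro x hx
    have hxQ : (x : G) ∈ QG := hQG ▸ ⟨x, hx, rfl⟩
    by_cases hq2 : q = 2
    · subst hq2
      obtain ⟨j, hj⟩ := hQp ⟨x, hxQ⟩
      have h1 : (x : G) ^ 2 ^ j = 1 := congrArg Subtype.val hj
      have h2 : x = 1 := eq_one_of_two_pow hKodd (e := j) (Subtype.ext h1)
      rw [h2]
      exact Commute.one_right c
    obtain ⟨a, ha⟩ : ∃ a, a = QG.normalizerMonoidHom ⟨c, hSQ hc⟩ := ⟨_, rfl⟩
    have hao : (orderOf a).Coprime q := by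
      obtain ⟨j, hj⟩ := hS2 ⟨c, hc⟩
      refine Nat.Coprime.coprime_dvd_left ?_
        (((Nat.coprime_primes Nat.prime_two hq).2 (Ne.symm hq2)).pow_left j)
      refine orderOf_dvd_of_pow_eq_one ?_
      rw [ha, ← map_pow, show (⟨c, hSQ hc⟩ : Subgroup.normalizer (QG : Set G)) ^ 2 ^ j = 1 from
        Subtype.ext (congrArg Subtype.val hj :), map_one]
    have ha1 := Fusion.aut_eq_one_of_fix hQp hHcent a hao fun y hy => Subtype.ext (by
      rw [ha]
      show c * (y : G) * c⁻¹ = y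
      rw [(hcP _ (hP ▸ ⟨y, hy, rfl⟩)).eq, mul_inv_cancel_right])
    have h2 := congrArg (fun f : MulAut QG => ((f ⟨x, hxQ⟩ : QG) : G)) ha1
    rw [ha] at h2
    exact (mul_inv_eq_iff_eq_mul.1 h2)
  -- combining the primes
  have main : ∀ c ∈ S', (∀ P Z : Subgroup G, Odd (Nat.card P) → S' ≤ Subgroup.normalizer (P : Set G) →
      ⁅P, P⁆ ≤ Subgroup.centralizer (P : Set G) → (∀ z, z ∈ Z ↔ z ∈ P ∧ ∀ r ∈ P, Commute z r) →
      (∀ g, ∃ m ∈ K, ∀ z ∈ Z, g * m * z * (g * m)⁻¹ ∈ Z) → ∀ r ∈ P, Commute c r) → c = 1 := by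
    intro c hc hall
    obtain ⟨C, hC⟩ : ∃ C : Subgroup K, ∀ x, x ∈ C ↔ Commute c (x : G) :=
      ⟨(Subgroup.centralizer {c}).comap K.subtype, fun x => by
        rw [Subgroup.mem_comap, Subgroup.mem_centralizer_singleton_iff]
        exact eq_comm⟩
    have hCtop : C = ⊤ := eq_top_of_forall_sylow_le C fun q hq => by
      obtain ⟨Q, hQ⟩ := prime q (Fact.out)
      exact ⟨Q, fun x hx => (hC x).2 (hQ c hc hall x hx)⟩
    have hcK : c ∈ K := hCK (Subgroup.mem_centralizer_iff.2 fun y hy =>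
      ((hC ⟨y, hy⟩).1 (hCtop ▸ Subgroup.mem_top _)).eq.symm)
    obtain ⟨j, hj⟩ := hS2 ⟨c, hc⟩
    have h1 : c ^ 2 ^ j = 1 := congrArg Subtype.val hj
    exact congrArg Subtype.val (eq_one_of_two_pow hKodd (x := (⟨c, hcK⟩ : K)) (e := j) (Subtype.ext h1))
  -- the last term centralises the centres
  have hcentZ : ∀ P Z : Subgroup G, Odd (Nat.card P) → S' ≤ Subgroup.normalizer (P : Set G) →
      (∀ z, z ∈ Z ↔ z ∈ P ∧ ∀ r ∈ P, Commute z r) → ∀ a ∈ dser S' n, ∀ z ∈ Z, Commute a z := by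
    intro P Z hP hSP hZ a ha z hz
    have hZP : Z ≤ P := fun z hz => ((hZ z).1 hz).1
    have hSZ : S' ≤ Subgroup.normalizer (Z : Set G) := by
      have key : ∀ g ∈ S', ∀ z ∈ Z, g * z * g⁻¹ ∈ Z := fun g hg z hz => by
        rw [hZ] at hz ⊢
        refine ⟨(Subgroup.mem_normalizer_iff.1 (hSP hg) z).1 hz.1, fun r hr => ?_⟩
        have hr' : g⁻¹ * r * g ∈ P := conj_mem_of_normalizer (hSP hg) hr
        calc g * z * g⁻¹ * r = g * (z * (g⁻¹ * r * g)) * g⁻¹ := by group
          _ = g * ((g⁻¹ * r * g) * z) * g⁻¹ := by rw [(hz.2 _ hr').eq]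
          _ = r * (g * z * g⁻¹) := by group
      refine fun g hg => Subgroup.mem_normalizer_iff.2 fun z => ⟨key g hg z, fun hz => ?_⟩
      simpa [mul_assoc] using key g⁻¹ (inv_mem hg) _ hz
    have hcom : ∀ c ∈ ⁅Z, Z⁆, ∀ v : Fin d → k, ρ c v = v := fun c hc v => by
      have h1 : ⁅Z, Z⁆ = ⊥ := Subgroup.commutator_eq_bot_iff_le_centralizer.2 fun z hz =>
        Subgroup.mem_centralizer_iff.2 fun y hy => (((hZ z).1 hz).2 y (hZP hy)).eq.symm
      rw [h1, Subgroup.mem_bot] at hc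
      rw [hc, map_one, Module.End.one_apply]
    refine (commutatorElement_eq_one_iff_commute.1 (hρ _ (LinearMap.ext fun v => ?_) : ⁅z, a⁆ = 1)).symm
    by_contra hne
    exact prod_moved_ne_bot ρ hS2 hSZ (odd_card_of_le hZP hP) (fun _ _ _ _ => trivial)
      (fun _ _ _ _ => trivial) (fun c hc v _ => hcom c hc v) ha hz (W := ⊤) (w := v) trivial hne
      (le_bot_iff.1 (hprod ▸ prod_mono le_rfl le_top _))
  have hLn : ∀ a ∈ dser S' n, a ∈ S' := fun a ha => dser_le S' n ha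
  refine ⟨fun hn => ?_, fun a ha => ?_, fun hn w hw x hx hsq => ?_, fun hskip => ?_,
    fun a ha b hb g w hw hgw => ?_⟩
  · subst hn
    refine (Subgroup.eq_bot_iff_forall _).2 fun c hc => main c hc fun P Z hP hSP hcl hZ _ => ?_
    refine commute_of_trivMod hρ hS2 hP hSP hcl hZ hc (fun z hz => hcentZ P Z hP hSP hZ c hc z hz)
      fun χ X hne hX => ?_
    exact (weight_facts hρ hS2 hP hSP hcl hprod hZ χ hne hX).2.2.2.1 rfl c hc
  · refine main _ (mul_mem (hLn a ha) (hLn a ha)) fun P Z hP hSP hcl hZ _ => ?_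
    refine commute_of_trivMod hρ hS2 hP hSP hcl hZ (mul_mem (hLn a ha) (hLn a ha))
      (fun z hz => (hcentZ P Z hP hSP hZ a ha z hz).mul_left (hcentZ P Z hP hSP hZ a ha z hz))
      fun χ X hne hX => ?_
    exact ((weight_facts hρ hS2 hP hSP hcl hprod hZ χ hne hX).1 a ha).2
  · have hc : ⁅w, x⁆ ∈ dser S' n := by
      rw [show n = n - 1 + 1 by omega, dser_succ]
      exact Subgroup.commutator_mem_commutator hw hx
    refine commutatorElement_eq_one_iff_commute.1 (main _ (hLn _ hc) fun P Z hP hSP hcl hZ _ => ?_)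
    refine commute_of_trivMod hρ hS2 hP hSP hcl hZ (hLn _ hc) (hcentZ P Z hP hSP hZ _ hc)
      fun χ X hne hX => ?_
    refine (weight_facts hρ hS2 hP hSP hcl hprod hZ χ hne hX).2.2.1 hn w hw x hx fun r hr => ?_
    rw [hsq, commutatorElement_one_right]
    exact one_mem X
  · refine (Subgroup.eq_bot_iff_forall _).2 fun c hc => main c (hLn c hc) fun P Z hP hSP hcl hZ _ => ?_
    refine commute_of_trivMod hρ hS2 hP hSP hcl hZ (hLn c hc) (fun z hz => hcentZ P Z hP hSP hZ c hc z hz)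
      fun χ X hne hX => ?_
    exact (weight_facts hρ hS2 hP hSP hcl hprod hZ χ hne hX).2.2.2.2 hskip c hc
  · have hwa : ∀ a ∈ dser S' n, w * a * w⁻¹ ∈ dser S' n := fun a ha =>
      dser_conj_mem (Subgroup.le_normalizer hw) ha
    have hc : ⁅a, w⁆ ∈ dser S' n := by
      rw [show ⁅a, w⁆ = a * (w * a⁻¹ * w⁻¹) by rw [commutatorElement_def]; group]
      exact mul_mem ha (hwa _ (inv_mem ha))
    refine commutatorElement_eq_one_iff_commute.1 (main _ (hLn _ hc) fun P Z hP hSP hcl hZ hNP => ?_)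
    refine commute_of_trivMod hρ hS2 hP hSP hcl hZ (hLn _ hc) (hcentZ P Z hP hSP hZ _ hc)
      fun χ X hne hX => ?_
    -- `w` centralises the centre
    have hwZ : ∀ z ∈ Z, Commute w z := by
      obtain ⟨m, hm, hmN⟩ := hNP g
      obtain ⟨h, hh⟩ : ∃ h, h = g * m := ⟨_, rfl⟩
      rw [← hh] at hmN
      have hmN' : ∀ z ∈ Z, h⁻¹ * z * h ∈ Z := by
        intro z hz
        let σ : Z → Z := fun y => ⟨h * y * h⁻¹, hmN y y.2⟩
        have hσ : Function.Injective σ := fun y y' e => Subtype.ext (by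
          have := congrArg Subtype.val e
          simpa [σ] using this)
        obtain ⟨y, hy⟩ := Finite.surjective_of_injective hσ ⟨z, hz⟩
        have e : h * (y : G) * h⁻¹ = z := congrArg Subtype.val hy
        rw [← e]
        simpa [mul_assoc] using y.2
      have hb' : ∀ z ∈ Z, Commute (h * b * h⁻¹) z := fun z hz => by
        have := (hcentZ P Z hP hSP hZ b hb _ (hmN' z hz)).eq
        show h * b * h⁻¹ * z = z * (h * b * h⁻¹)
        calc h * b * h⁻¹ * z = h * (b * (h⁻¹ * z * h)) * h⁻¹ := by group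
          _ = h * ((h⁻¹ * z * h) * b) * h⁻¹ := by rw [this]
          _ = z * (h * b * h⁻¹) := by group
      obtain ⟨l, hl⟩ : ∃ l, l = (h * b * h⁻¹)⁻¹ * w := ⟨_, rfl⟩
      have hlK : l ∈ K := by
        have e : l = (g * m * b⁻¹ * m⁻¹ * b * g⁻¹) * ((g * b * g⁻¹)⁻¹ * w) := by rw [hl, hh]; group
        rw [e]
        refine mul_mem ?_ hgw
        have e2 : g * m * b⁻¹ * m⁻¹ * b * g⁻¹ = g * (m * (b⁻¹ * m⁻¹ * b)) * g⁻¹ := by group
        rw [e2]
        refine (inferInstance : K.Normal).conj_mem _ (mul_mem hm ?_) g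
        simpa using (inferInstance : K.Normal).conj_mem _ (inv_mem hm) b⁻¹
      -- inside the normaliser of the centre
      obtain ⟨N, hNdef⟩ : ∃ N, N = Subgroup.normalizer (Z : Set G) := ⟨_, rfl⟩
      obtain ⟨f, hf⟩ : ∃ f : N →* MulAut Z, ∀ y z, ((f y z : Z) : G) = y * z * (y : G)⁻¹ := by
        subst hNdef
        exact ⟨Z.normalizerMonoidHom, fun _ _ => rfl⟩
      have hwN : w ∈ N := by
        rw [hNdef]
        have key : ∀ s ∈ S', ∀ z ∈ Z, s * z * s⁻¹ ∈ Z := fun s hs z hz => by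
          rw [hZ] at hz ⊢
          refine ⟨(Subgroup.mem_normalizer_iff.1 (hSP hs) z).1 hz.1, fun r hr => ?_⟩
          have hr' : s⁻¹ * r * s ∈ P := conj_mem_of_normalizer (hSP hs) hr
          calc s * z * s⁻¹ * r = s * (z * (s⁻¹ * r * s)) * s⁻¹ := by group
            _ = s * ((s⁻¹ * r * s) * z) * s⁻¹ := by rw [(hz.2 _ hr').eq]
            _ = r * (s * z * s⁻¹) := by group
        refine Subgroup.mem_normalizer_iff.2 fun z => ⟨key w hw z, fun hz => ?_⟩
        simpa [mul_assoc] using key w⁻¹ (inv_mem hw) _ hz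
      have hbN : h * b * h⁻¹ ∈ N := by
        rw [hNdef]
        refine Subgroup.centralizer_le_normalizer _ (Subgroup.mem_centralizer_iff.2 fun z hz => ?_)
        exact (hb' z hz).eq.symm
      have hlN : l ∈ N := hl ▸ mul_mem (inv_mem hbN) hwN
      have hfb : f ⟨_, hbN⟩ = 1 := MulEquiv.ext fun z => Subtype.ext (by
        rw [hf]
        show h * b * h⁻¹ * (z : G) * (h * b * h⁻¹)⁻¹ = z
        rw [(hb' z z.2).eq, mul_inv_cancel_right])
      have hfl : f ⟨l, hlN⟩ = f ⟨w, hwN⟩ := by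
        rw [show (⟨w, hwN⟩ : N) = ⟨_, hbN⟩ * ⟨l, hlN⟩ from Subtype.ext (show w = h * b * h⁻¹ * l by rw [hl, mul_inv_cancel_left]), map_mul, hfb,
          one_mul]
      have hfw : f ⟨w, hwN⟩ = 1 := by
        obtain ⟨j, hj⟩ := hS2 ⟨w, hw⟩
        have h1 : orderOf (f ⟨w, hwN⟩) ∣ 2 ^ j := orderOf_dvd_of_pow_eq_one (by
          rw [← map_pow, show (⟨w, hwN⟩ : N) ^ 2 ^ j = 1 from Subtype.ext (congrArg Subtype.val hj :), map_one])
        have h2 : orderOf (f ⟨w, hwN⟩) ∣ Nat.card K := by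
          rw [← hfl]
          refine orderOf_dvd_of_pow_eq_one ?_
          rw [← map_pow, show (⟨l, hlN⟩ : N) ^ Nat.card K = 1 from Subtype.ext (by
            rw [SubmonoidClass.coe_pow]
            exact congrArg Subtype.val (pow_card_eq_one' (x := (⟨l, hlK⟩ : K)))), map_one]
        exact orderOf_eq_one_iff.1 (Nat.eq_one_of_dvd_coprimes
          ((Nat.coprime_two_left.2 hKodd).pow_left j) h1 h2)
      intro z hz
      have := congrArg (fun e : MulAut Z => ((e ⟨z, hz⟩ : Z) : G)) hfw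
      simp only [hf] at this
      exact mul_inv_eq_iff_eq_mul.1 this
    obtain ⟨hsq, hpair, -⟩ := weight_facts hρ hS2 hP hSP hcl hprod hZ χ hne hX
    have hX' : ∀ r ∈ X, w * r * w⁻¹ ∈ X := by
      intro r hr
      rw [hX] at hr ⊢
      refine ⟨(Subgroup.mem_normalizer_iff.1 (hSP hw) r).1 hr.1, fun s hs v hv => ?_⟩
      have hs' : w⁻¹ * s * w ∈ P := conj_mem_of_normalizer (hSP hw) hs
      have hwU : ρ w⁻¹ v ∈ wt ρ Z χ := fun z => by
        rw [← Module.End.mul_apply, ← map_mul, ((hwZ z z.2).inv_left).eq.symm, map_mul, Module.End.mul_apply,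
          hv z, map_smul]
      rw [show ⁅w * r * w⁻¹, s⁆ = w * ⁅r, w⁻¹ * s * w⁆ * w⁻¹ by simp only [commutatorElement_def]; group,
        map_mul, map_mul, Module.End.mul_apply, Module.End.mul_apply, hr.2 _ hs' _ hwU,
        Solv.CRep.rep_apply_inv]
    obtain ⟨a', ha'⟩ : ∃ a', a' = w * a⁻¹ * w⁻¹ := ⟨_, rfl⟩
    have hac : ⁅a, w⁆ = a * a' := by rw [ha', commutatorElement_def]; group
    rw [hac]
    have haX := (hsq a ha).1
    by_cases hta : TrivMod P X a
    · refine TrivMod.mul haX hta fun r hr => ?_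
      have hr' : w⁻¹ * r * w ∈ P := conj_mem_of_normalizer (hSP hw) hr
      have h1 := hX' _ (hta.inv haX _ hr')
      rwa [show w * ⁅w⁻¹ * r * w, a⁻¹⁆ * w⁻¹ = ⁅r, a'⁆ by
        rw [ha']; simp only [commutatorElement_def]; group] at h1
    · have hta' : ¬ TrivMod P X a' := by
        intro h
        refine hta fun r hr => ?_
        have hinv : TrivMod P X a⁻¹ := fun r hr => by
          have hr' : w * r * w⁻¹ ∈ P := (Subgroup.mem_normalizer_iff.1 (hSP hw) r).1 hr
          have h1 := h _ hr'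
          rw [show ⁅w * r * w⁻¹, a'⁆ = w * ⁅r, a⁻¹⁆ * w⁻¹ by
            rw [ha']; simp only [commutatorElement_def]; group] at h1
          let σ : X → X := fun y => ⟨w * y * w⁻¹, hX' y y.2⟩
          have hσ : Function.Injective σ := fun y y' e => Subtype.ext (by
            have := congrArg Subtype.val e
            simpa [σ] using this)
          obtain ⟨y, hy⟩ := Finite.surjective_of_injective hσ ⟨_, h1⟩
          have e : w * (y : G) * w⁻¹ = w * ⁅r, a⁻¹⁆ * w⁻¹ := congrArg Subtype.val hy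
          rw [← mul_left_cancel (mul_right_cancel e)]
          exact y.2
        have := TrivMod.inv (inv_mem haX) hinv r hr
        rwa [inv_inv] at this
      have hta1 : ¬ TrivMod P X a⁻¹ := fun h => hta (by simpa using TrivMod.inv (inv_mem haX) h)
      have := hpair a⁻¹ (inv_mem ha) a' (ha' ▸ hwa _ (inv_mem ha)) hta1 hta'
      rwa [inv_inv] at this

end Cfsg.Agent.Solv.D2
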