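import Cfsg.Agent.Lib.Solv.PGroupPhi
import Cfsg.Agent.Lib.Solv.CoprimeRep

/-!
The derived series of a subgroup and the associated products of augmentation operators on a
representation.
-/

set_option autoImplicit false
set_option linter.style.haveILetI false

namespace Cfsg.Agent.Solv.D2

open scoped commutatorElement

universe u v

variable {G : Type u} [Group G]

/-- The derived series of a subgroup, inside the ambient group. -/
def dser (S : Subgroup G) : ℕ → Subgroup G
  | 0 => S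
  | n + 1 => ⁅dser S n, dser S n⁆

theorem dser_zero (S : Subgroup G) : dser S 0 = S := rfl

theorem dser_succ (S : Subgroup G) (n : ℕ) : dser S (n + 1) = ⁅dser S n, dser S n⁆ := rfl

theorem dser_succ_le (S : Subgroup G) (n : ℕ) : dser S (n + 1) ≤ dser S n :=
  Subgroup.commutator_le.2 fun a ha b hb => by
    rw [commutatorElement_def]
    exact mul_mem (mul_mem (mul_mem ha hb) (inv_mem ha)) (inv_mem hb)

theorem dser_anti (S : Subgroup G) {i j : ℕ} (h : i ≤ j) : dser S j ≤ dser S i :=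
  antitone_nat_of_succ_le (dser_succ_le S) h

theorem dser_le (S : Subgroup G) (n : ℕ) : dser S n ≤ S := dser_anti S (Nat.zero_le n)

theorem dser_dser (S : Subgroup G) (j i : ℕ) : dser (dser S j) i = dser S (j + i) := by
  induction i with
  | zero => rfl
  | succ i ih => rw [dser_succ, ih, ← Nat.add_assoc, dser_succ]

theorem dser_mono {S T : Subgroup G} (h : S ≤ T) : ∀ n, dser S n ≤ dser T n
  | 0 => h
  | n + 1 => Subgroup.commutator_mono (dser_mono h n) (dser_mono h n)

theorem map_dser {G' : Type*} [Group G'] (f : G →* G') (S : Subgroup G) (n : ℕ) :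
    (dser S n).map f = dser (S.map f) n := by
  induction n with
  | zero => rfl
  | succ n ih => rw [dser_succ, Subgroup.map_commutator, ih, dser_succ]

theorem dser_conj_mem {S : Subgroup G} {g : G} (hg : g ∈ Subgroup.normalizer (S : Set G)) {n : ℕ}
    {x : G} (hx : x ∈ dser S n) : g * x * g⁻¹ ∈ dser S n := by
  have h1 : S.map (MulAut.conj g).toMonoidHom = S := by
    refine SetLike.ext fun y => ⟨?_, fun hy => ?_⟩
    · rintro ⟨s, hs, rfl⟩
      exact (Subgroup.mem_normalizer_iff.1 hg s).1 hs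
    · refine ⟨g⁻¹ * y * g, ?_, by simp [mul_assoc]⟩
      have := (Subgroup.mem_normalizer_iff.1 (inv_mem hg) y).1 hy
      simpa using this
  have h2 := map_dser (MulAut.conj g).toMonoidHom S n
  rw [h1] at h2
  exact h2 ▸ ⟨x, hx, rfl⟩

theorem le_normalizer_dser (S : Subgroup G) (n : ℕ) :
    S ≤ Subgroup.normalizer (dser S n : Set G) := fun g hg => by
  refine Subgroup.mem_normalizer_iff.2 fun x => ⟨fun hx => dser_conj_mem (Subgroup.le_normalizer hg) hx,
    fun hx => ?_⟩
  simpa [mul_assoc] using dser_conj_mem (g := g⁻¹) (Subgroup.le_normalizer (inv_mem hg)) hx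

theorem dser_eq_map_derivedSeries (S : Subgroup G) (n : ℕ) :
    dser S n = (derivedSeries S n).map S.subtype := by
  induction n with
  | zero => rw [derivedSeries_zero, ← MonoidHom.range_eq_map, Subgroup.range_subtype]; rfl
  | succ n ih => rw [derivedSeries_succ, Subgroup.map_commutator, ← ih, dser_succ]

/-- In a `p`-group, the commutator subgroup generates no supplement. -/
theorem exists_not_mem_sup [Finite G] {p : ℕ} [Fact p.Prime] {L H : Subgroup G} (hL : IsPGroup p L)
    (hH : H < L) : ∃ l ∈ L, l ∉ ⁅L, L⁆ ⊔ H := by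
  by_contra hc
  push Not at hc
  have h1 : (⁅(⊤ : Subgroup L), ⊤⁆ ⊔ H.subgroupOf L).map L.subtype = ⁅L, L⁆ ⊔ H := by
    rw [Subgroup.map_sup, Subgroup.map_commutator, ← MonoidHom.range_eq_map, Subgroup.range_subtype,
      Subgroup.subgroupOf_map_subtype, inf_eq_left.2 hH.le]
  have h2 : H.subgroupOf L ⊔ frattini L = ⊤ := by
    refine eq_top_iff.2 fun x _ => ?_
    have h3 : (x : G) ∈ (⁅(⊤ : Subgroup L), ⊤⁆ ⊔ H.subgroupOf L).map L.subtype := h1 ▸ hc x x.2
    obtain ⟨y, hy, hyx⟩ := h3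
    rw [← Subtype.ext hyx, sup_comm]
    exact sup_le_sup_right (commutator_le_frattini_pgroup hL) _ hy
  exact hH.ne ((Subgroup.subgroupOf_eq_top.1 (frattini_nongenerating h2)).antisymm' hH.le)

variable {k : Type*} [Field k] {V : Type v} [AddCommGroup V] [Module k V]

/-- The image of the augmentation operators of `L`. -/
def aug (ρ : G →* Module.End k V) (L : Subgroup G) (W : Submodule k V) : Submodule k V :=
  ⨆ l : L, W.map (ρ l - 1)

theorem mem_aug {ρ : G →* Module.End k V} {L : Subgroup G} {W : Submodule k V} {l : G} (hl : l ∈ L)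
    {w : V} (hw : w ∈ W) : ρ l w - w ∈ aug ρ L W :=
  Submodule.mem_iSup_of_mem ⟨l, hl⟩ ⟨w, hw, rfl⟩

theorem aug_le {ρ : G →* Module.End k V} {L : Subgroup G} {W U : Submodule k V} :
    aug ρ L W ≤ U ↔ ∀ l ∈ L, ∀ w ∈ W, ρ l w - w ∈ U := by
  refine ⟨fun h l hl w hw => h (mem_aug hl hw), fun h => iSup_le fun l => ?_⟩
  rintro _ ⟨w, hw, rfl⟩
  exact h l l.2 w hw

theorem aug_mono {ρ : G →* Module.End k V} {L L' : Subgroup G} (hL : L ≤ L') {W W' : Submodule k V}
    (hW : W ≤ W') : aug ρ L W ≤ aug ρ L' W' :=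
  aug_le.2 fun _ hl _ hw => mem_aug (hL hl) (hW hw)

theorem aug_eq_bot {ρ : G →* Module.End k V} {L : Subgroup G} {W : Submodule k V} :
    aug ρ L W = ⊥ ↔ ∀ l ∈ L, ∀ w ∈ W, ρ l w = w := by
  rw [← le_bot_iff, aug_le]
  simp only [Submodule.mem_bot, sub_eq_zero]

theorem aug_map {ρ : G →* Module.End k V} {V' : Type*} [AddCommGroup V'] [Module k V']
    {ρ' : G →* Module.End k V'} (f : V →ₗ[k] V') {L : Subgroup G}
    (hf : ∀ l ∈ L, ∀ w, f (ρ l w) = ρ' l (f w)) (W : Submodule k V) :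
    (aug ρ L W).map f = aug ρ' L (W.map f) := by
  refine le_antisymm (Submodule.map_le_iff_le_comap.2 (aug_le.2 fun l hl w hw => ?_))
    (aug_le.2 ?_)
  · rw [Submodule.mem_comap, map_sub, hf l hl]
    exact mem_aug hl ⟨w, hw, rfl⟩
  · rintro l hl _ ⟨w, hw, rfl⟩
    exact ⟨_, mem_aug hl hw, by rw [map_sub, hf l hl]⟩

theorem aug_le_of_invariant {ρ : G →* Module.End k V} {L : Subgroup G} {W : Submodule k V}
    (h : ∀ l ∈ L, ∀ w ∈ W, ρ l w ∈ W) : aug ρ L W ≤ W :=
  aug_le.2 fun l hl w hw => sub_mem (h l hl w hw) hw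

theorem aug_invariant {ρ : G →* Module.End k V} {L : Subgroup G} {W : Submodule k V} {g : G}
    (hg : g ∈ Subgroup.normalizer (L : Set G)) (hW : ∀ w ∈ W, ρ g w ∈ W) :
    ∀ w ∈ aug ρ L W, ρ g w ∈ aug ρ L W := by
  show aug ρ L W ≤ (aug ρ L W).comap (ρ g)
  refine aug_le.2 fun l hl w hw => ?_
  rw [Submodule.mem_comap, map_sub, ← Module.End.mul_apply, ← map_mul,
    show g * l = (g * l * g⁻¹) * g by group, map_mul, Module.End.mul_apply]
  exact mem_aug ((Subgroup.mem_normalizer_iff.1 hg l).1 hl) (hW w hw)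

/-- The product of the augmentation operators of the first `m` terms of the derived series. -/
def prod (ρ : G →* Module.End k V) (S : Subgroup G) (W : Submodule k V) : ℕ → Submodule k V
  | 0 => W
  | m + 1 => aug ρ (dser S m) (prod ρ S W m)

theorem prod_zero (ρ : G →* Module.End k V) (S : Subgroup G) (W : Submodule k V) :
    prod ρ S W 0 = W := rfl

theorem prod_succ (ρ : G →* Module.End k V) (S : Subgroup G) (W : Submodule k V) (m : ℕ) :
    prod ρ S W (m + 1) = aug ρ (dser S m) (prod ρ S W m) := rfl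

theorem prod_mono {ρ : G →* Module.End k V} {S S' : Subgroup G} (hS : S ≤ S') {W W' : Submodule k V}
    (hW : W ≤ W') : ∀ m, prod ρ S W m ≤ prod ρ S' W' m
  | 0 => hW
  | m + 1 => aug_mono (dser_mono hS m) (prod_mono hS hW m)

theorem prod_le_of_invariant {ρ : G →* Module.End k V} {S : Subgroup G} {W : Submodule k V}
    (h : ∀ l ∈ S, ∀ w ∈ W, ρ l w ∈ W) : ∀ m, prod ρ S W m ≤ W
  | 0 => le_rfl
  | m + 1 => (aug_mono le_rfl (prod_le_of_invariant h m)).trans
      (aug_le_of_invariant fun l hl w hw => h l (dser_le S m hl) w hw)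

theorem prod_invariant {ρ : G →* Module.End k V} {S : Subgroup G} {W : Submodule k V} {g : G}
    (hg : g ∈ Subgroup.normalizer (S : Set G)) (hW : ∀ w ∈ W, ρ g w ∈ W) :
    ∀ m, ∀ w ∈ prod ρ S W m, ρ g w ∈ prod ρ S W m
  | 0 => hW
  | m + 1 => aug_invariant (by
      refine Subgroup.mem_normalizer_iff.2 fun x => ⟨fun hx => dser_conj_mem hg hx, fun hx => ?_⟩
      simpa [mul_assoc] using dser_conj_mem (inv_mem hg) hx) (prod_invariant hg hW m)

theorem prod_shift (ρ : G →* Module.End k V) (S : Subgroup G) (W : Submodule k V) (j i : ℕ) :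
    prod ρ S W (j + i) = prod ρ (dser S j) (prod ρ S W j) i := by
  induction i with
  | zero => rfl
  | succ i ih => rw [← Nat.add_assoc, prod_succ, prod_succ, ih, dser_dser]

theorem prod_map {ρ : G →* Module.End k V} {V' : Type*} [AddCommGroup V'] [Module k V']
    {ρ' : G →* Module.End k V'} (f : V →ₗ[k] V') {S : Subgroup G}
    (hf : ∀ l ∈ S, ∀ w, f (ρ l w) = ρ' l (f w)) (W : Submodule k V) :
    ∀ m, (prod ρ S W m).map f = prod ρ' S (W.map f) m
  | 0 => rfl
  | m + 1 => by
    rw [prod_succ, prod_succ, aug_map f (fun l hl => hf l (dser_le S m hl)), prod_map f hf W m]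

/-- Components along an orbit: if no term before `m` fixes `i₀`, every vector of the component at `i₀`
is the component of an element of the product, with no other component on the orbit of the `m`-th
term. -/
theorem proj_prod [Finite G] {S : Subgroup G} (hS : IsPGroup 2 S) (ρ : G →* Module.End k V)
    {I : Type*} (π : I → Module.End k V) (act : G → I → I)
    (hone : ∀ i, act 1 i = i) (hmul : ∀ g ∈ S, ∀ h ∈ S, ∀ i, act (g * h) i = act g (act h i))
    (hπ : ∀ g ∈ S, ∀ i w, π (act g i) (ρ g w) = ρ g (π i w))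
    (horth : ∀ i j, i ≠ j → ∀ w, π i (π j w) = 0) (W : Submodule k V)
    (hW : ∀ g ∈ S, ∀ w ∈ W, ρ g w ∈ W) (i₀ : I) :
    ∀ m, (∀ l, l < m → ∃ g ∈ dser S l, act g i₀ ≠ i₀) → ∀ v ∈ W, π i₀ v = v →
      ∃ p ∈ prod ρ S W m, π i₀ p = v ∧ ∀ g ∈ dser S m, act g i₀ ≠ i₀ → π (act g i₀) p = 0 := by
  haveI : Fact (Nat.Prime 2) := ⟨Nat.prime_two⟩
  intro m
  induction m with
  | zero => exact fun _ v hvW hv => ⟨v, hvW, hv, fun g _ hg => hv ▸ horth _ _ hg v⟩
  | succ m ih =>
    intro hmove v hvW hv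
    obtain ⟨p₀, hp₀, hp₀v, hp₀0⟩ := ih (fun l hl => hmove l (hl.trans (Nat.lt_succ_self m))) v hvW hv
    obtain ⟨g₀, hg₀, hg₀m⟩ := hmove m (Nat.lt_succ_self m)
    let H : Subgroup G :=
      { carrier := {g | g ∈ dser S m ∧ act g i₀ = i₀}
        one_mem' := ⟨one_mem _, hone _⟩
        mul_mem' := fun {a b} ha hb => ⟨mul_mem ha.1 hb.1, by
          rw [hmul a (dser_le S m ha.1) b (dser_le S m hb.1), hb.2, ha.2]⟩
        inv_mem' := fun {a} ha => ⟨inv_mem ha.1, by
          conv_lhs => rw [← ha.2]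
          rw [← hmul _ (inv_mem (dser_le S m ha.1)) a (dser_le S m ha.1), inv_mul_cancel, hone]⟩ }
    have hH : H < dser S m := lt_of_le_of_ne (fun g hg => hg.1) fun h => hg₀m (h ▸ hg₀ : g₀ ∈ H).2
    obtain ⟨l, hl, hlH⟩ := exists_not_mem_sup (hS.to_le (dser_le S m)) hH
    have hlS := dser_le S m hl
    have key : ∀ g ∈ dser S (m + 1), act g i₀ ≠ act l i₀ := by
      intro g hg h
      have h1 : g⁻¹ * l ∈ H := ⟨mul_mem (inv_mem (dser_succ_le S m hg)) hl, by
        rw [hmul _ (inv_mem (dser_le S _ hg)) l hlS, ← h,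
          ← hmul _ (inv_mem (dser_le S _ hg)) g (dser_le S _ hg), inv_mul_cancel, hone]⟩
      have h2 := mul_mem (Subgroup.mem_sup_left (show g ∈ ⁅dser S m, dser S m⁆ from hg))
        (Subgroup.mem_sup_right (S := ⁅dser S m, dser S m⁆) h1)
      rw [mul_inv_cancel_left] at h2
      exact hlH h2
    have hinv : ∀ w ∈ prod ρ S W m, ρ l w ∈ prod ρ S W m :=
      prod_invariant (Subgroup.le_normalizer hlS) (hW l hlS) m
    refine ⟨p₀ - ρ l p₀, ?_, ?_, ?_⟩
    · rw [prod_succ]
      have h1 := mem_aug (ρ := ρ) (inv_mem hl) (hinv p₀ hp₀)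
      rwa [Solv.CRep.rep_inv_apply] at h1
    all_goals
      have hval : ∀ g ∈ dser S m, π (act g i₀) (ρ l p₀) = ρ l (π (act (l⁻¹ * g) i₀) p₀) := fun g hg => by
        conv_lhs => rw [← mul_inv_cancel_left l g, hmul l hlS _ (mul_mem (inv_mem hlS) (dser_le S m hg))]
        rw [hπ l hlS]
    · have h1 := hval 1 (one_mem _)
      rw [hone, mul_one] at h1
      have h2 : act l⁻¹ i₀ ≠ i₀ := fun h => key 1 (one_mem _) (by
        rw [hone]
        conv_rhs => rw [← h, ← hmul l hlS _ (inv_mem hlS), mul_inv_cancel, hone])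
      rw [map_sub, hp₀v, h1, hp₀0 _ (inv_mem hl) h2, map_zero, sub_zero]
    · intro g hg hne
      have hgm := dser_succ_le S m hg
      have h2 : act (l⁻¹ * g) i₀ ≠ i₀ := fun h => key g hg (by
        conv_lhs => rw [← mul_inv_cancel_left l g, hmul l hlS _ (mul_mem (inv_mem hlS) (dser_le S _ hg)), h])
      rw [map_sub, hp₀0 g hgm hne, hval g hgm, hp₀0 _ (mul_mem (inv_mem hl) hgm) h2, map_zero, sub_zero]

/-- A 2-group has a fixed vector in every nonzero invariant subspace in characteristic two. -/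
theorem exists_fixed [Finite G] [CharP k 2] (ρ : G →* Module.End k V) : ∀ T : Subgroup G, IsPGroup 2 T →
    ∀ W : Submodule k V, W ≠ ⊥ → (∀ t ∈ T, ∀ w ∈ W, ρ t w ∈ W) →
      ∃ v ∈ W, v ≠ 0 ∧ ∀ t ∈ T, ρ t v = v := by
  haveI : Fact (Nat.Prime 2) := ⟨Nat.prime_two⟩
  intro T
  induction hn : Nat.card T using Nat.strong_induction_on generalizing T with
  | _ n ih =>
  intro hT W hW hinv
  obtain ⟨w₀, hw₀, hw₀0⟩ := W.exists_mem_ne_zero_of_ne_bot hW
  by_cases hT1 : T = ⊥
  · exact ⟨w₀, hw₀, hw₀0, fun t ht => by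
      rw [hT1, Subgroup.mem_bot] at ht
      rw [ht, map_one, Module.End.one_apply]⟩
  haveI : Nontrivial T := (Subgroup.nontrivial_iff_ne_bot T).2 hT1
  obtain ⟨M, hM⟩ : ∃ M : Subgroup T, IsCoatom M := by
    rcases eq_top_or_exists_le_coatom (⊥ : Subgroup T) with h | ⟨M, hM, -⟩
    · exact absurd h bot_ne_top
    · exact ⟨M, hM⟩
  haveI := coatom_normal hT hM
  have hidx : ∀ x : T, x ∉ M → x * x ∈ M := fun x _ => by
    have h := (M.mul_mem_iff_of_index_two (coatom_index hT hM) (a := x) (b := x)).2 Iff.rfl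
    exact h
  have hMlt : Nat.card (M.map T.subtype) < n := by
    rw [← hn, Subgroup.card_map_of_injective T.subtype_injective]
    exact lt_of_le_of_ne (Subgroup.card_le_card_group M) fun h => hM.1 (Subgroup.eq_top_of_card_eq M h)
  obtain ⟨v, hv, hv0, hfix⟩ := ih _ hMlt _ rfl (hT.to_le (Subgroup.map_subtype_le M)) W hW
    (fun t ht => hinv t (Subgroup.map_subtype_le M ht))
  obtain ⟨x, hx⟩ : ∃ x : T, x ∉ M := by
    by_contra hc
    push Not at hc
    exact hM.1 ((Subgroup.eq_top_iff' M).2 hc)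
  have hxx : ρ (x : G) (ρ (x : G) v) = v := by
    rw [← Module.End.mul_apply, ← map_mul]
    exact hfix _ ⟨x * x, hidx x hx, rfl⟩
  have key : ∀ u, (∀ t ∈ M.map T.subtype, ρ t u = u) → ρ (x : G) u = u → ∀ t ∈ T, ρ t u = u := by
    intro u hu hxu
    let St : Subgroup T :=
      { carrier := {t | ρ (t : G) u = u}
        one_mem' := by simp
        mul_mem' := fun {a b} ha hb => by
          show ρ ((a : G) * (b : G)) u = u
          rw [map_mul, Module.End.mul_apply, hb, ha]
        inv_mem' := fun {a} ha => by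
          show ρ ((a : G)⁻¹) u = u
          conv_lhs => rw [← (ha : ρ (a : G) u = u)]
          exact Solv.CRep.rep_inv_apply ρ _ _ }
    have h1 : St = ⊤ := hM.2 St (lt_of_le_of_ne (fun t ht => hu _ ⟨t, ht, rfl⟩) fun h => hx (h ▸ hxu))
    exact fun t ht => (h1 ▸ Subgroup.mem_top _ : (⟨t, ht⟩ : T) ∈ St)
  by_cases hc : v + ρ (x : G) v = 0
  · refine ⟨v, hv, hv0, key v hfix ?_⟩
    have h2 : ∀ a : V, a + a = 0 := fun a => by
      rw [← two_smul k a, show (2 : k) = 0 from CharP.cast_eq_zero k 2, zero_smul]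
    exact (add_left_cancel (hc.trans (h2 v).symm))
  refine ⟨_, add_mem hv (hinv x x.2 v hv), hc, key _ (fun t ht => ?_) ?_⟩
  · obtain ⟨y, hy, rfl⟩ := ht
    rw [map_add, hfix _ ⟨y, hy, rfl⟩, ← Module.End.mul_apply, ← map_mul,
      show T.subtype y * (x : G) = (x : G) * ((x : G)⁻¹ * T.subtype y * (x : G)) by group, map_mul,
      Module.End.mul_apply, hfix _ ⟨x⁻¹ * y * x, by simpa using (inferInstance : M.Normal).conj_mem y hy x⁻¹, by simp⟩]
  · rw [map_add, hxx, add_comm]

end Cfsg.Agent.Solv.D2
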