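import Cfsg.Agent.Lib.Solv.UniqueSub
import Cfsg.Agent.Lib.Solv.DerivedTwo.Prod
import Cfsg.Agent.Lib.Perm.Huppert
import Mathlib.GroupTheory.SpecificGroups.Cyclic

/-!
2-groups without a normal subgroup of order four and exponent two.
-/

set_option autoImplicit false
set_option linter.style.haveILetI false
set_option linter.unusedSectionVars false

namespace Cfsg.Agent.Solv.D2

open scoped commutatorElement

universe u

variable {P : Type u} [Group P] [Finite P]

/-- A normal subgroup of order four and exponent two. -/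
def HasFour (P : Type u) [Group P] : Prop :=
  ∃ V : Subgroup P, V.Normal ∧ Nat.card V = 4 ∧ ∀ v ∈ V, v * v = 1

/-- A normal subgroup of exponent two has order at most two if there is no normal four group. -/
theorem card_le_two_of_noFour (hP : IsPGroup 2 P) (hno : ¬ HasFour P) (W : Subgroup P) [W.Normal]
    (hW : ∀ v ∈ W, v * v = 1) : Nat.card W ≤ 2 := by
  haveI : Fact (Nat.Prime 2) := ⟨Nat.prime_two⟩
  by_contra hgt
  haveI : Nontrivial W := Finite.one_lt_card_iff_nontrivial.1 (by omega)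
  obtain ⟨z, hzW, hzc, hz1⟩ := Perm.exists_ne_one_center hP W
  haveI hZn : (Subgroup.zpowers z).Normal := ⟨fun x hx g => by
    rw [Subgroup.mem_center_iff.1 ((Subgroup.zpowers_le.2 hzc) hx) g, mul_inv_cancel_right]; exact hx⟩
  have hoz : orderOf z = 2 := orderOf_eq_prime (by rw [pow_two]; exact hW z hzW) hz1
  obtain ⟨π, hπ⟩ : ∃ π, π = QuotientGroup.mk' (Subgroup.zpowers z) := ⟨_, rfl⟩
  have hker : π.ker = Subgroup.zpowers z := by rw [hπ, QuotientGroup.ker_mk']
  haveI : (W.map π).Normal :=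
    Subgroup.Normal.map inferInstance π (hπ ▸ QuotientGroup.mk'_surjective _)
  haveI : Nontrivial ↥(W.map π) := by
    rw [Subgroup.nontrivial_iff_ne_bot, Ne, Subgroup.map_eq_bot_iff, hker]
    intro h
    have h2 := Subgroup.card_le_of_le h
    rw [Nat.card_zpowers, hoz] at h2
    omega
  obtain ⟨wb, hwbW, hwbc, hwb1⟩ := Perm.exists_ne_one_center (hP.to_quotient (Subgroup.zpowers z)) (W.map π)
  obtain ⟨w, hw, rfl⟩ := hwbW
  have hwz : w ∉ Subgroup.zpowers z := fun h => hwb1 (MonoidHom.mem_ker.1 (hker.symm ▸ h))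
  have hzw : z * w = w * z := (Subgroup.mem_center_iff.1 hzc w).symm
  obtain ⟨V, hV⟩ : ∃ V : Subgroup P, V = (Subgroup.zpowers (π w)).comap π := ⟨_, rfl⟩
  haveI hn : (Subgroup.zpowers (π w)).Normal := ⟨fun x hx g => by
    rw [Subgroup.mem_center_iff.1 ((Subgroup.zpowers_le.2 hwbc) hx) g, mul_inv_cancel_right]; exact hx⟩
  have hVle : ∀ v ∈ V, v ∈ W := fun v hv => by
    obtain ⟨i, hi⟩ := Subgroup.mem_zpowers_iff.1 (show π v ∈ Subgroup.zpowers (π w) by rw [hV] at hv; exact hv)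
    have h1 : (w ^ i)⁻¹ * v ∈ Subgroup.zpowers z := by
      rw [← hker, MonoidHom.mem_ker, map_mul, map_inv, map_zpow, hi, inv_mul_cancel]
    simpa using mul_mem (W.zpow_mem hw i) (Subgroup.zpowers_le.2 hzW h1)
  refine hno ⟨V, hV ▸ Subgroup.Normal.comap hn π, ?_, fun v hv => hW v (hVle v hv)⟩
  have hs : Function.Surjective π := hπ ▸ QuotientGroup.mk'_surjective _
  have ho : orderOf (π w) = 2 := orderOf_eq_prime (by rw [← map_pow, pow_two, hW w hw, map_one]) hwb1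
  have e1 := V.card_mul_index
  have e2 := (Subgroup.zpowers (π w)).card_mul_index
  have e3 := Subgroup.card_eq_card_quotient_mul_card_subgroup (Subgroup.zpowers z)
  rw [hV, Subgroup.index_comap_of_surjective _ hs, ← hV] at e1
  rw [Nat.card_zpowers, ho] at e2
  rw [← e2, Nat.card_zpowers, hoz] at e3
  have hpos := Nat.pos_of_ne_zero (Subgroup.zpowers (π w)).index_ne_zero_of_finite
  exact Nat.eq_of_mul_eq_mul_right hpos (by rw [e1, e3]; ring)

/-- Without a normal four group the normal abelian subgroups are cyclic. -/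
theorem cyclic_of_noFour (hP : IsPGroup 2 P) (hno : ¬ HasFour P) (A : Subgroup P) [hA : A.Normal]
    (hab : ∀ x ∈ A, ∀ y ∈ A, x * y = y * x) : ∃ a ∈ A, A = Subgroup.zpowers a := by
  haveI : Fact (Nat.Prime 2) := ⟨Nat.prime_two⟩
  obtain ⟨Ω, hΩ⟩ : ∃ Ω : Subgroup P, ∀ x, x ∈ Ω ↔ x ∈ A ∧ x * x = 1 :=
    ⟨{ carrier := {x | x ∈ A ∧ x * x = 1}
       one_mem' := ⟨one_mem A, one_mul 1⟩
       mul_mem' := fun {x y} hx hy => ⟨mul_mem hx.1 hy.1, by
         rw [show x * y * (x * y) = x * (y * x) * y by group, hab y hy.1 x hx.1,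
           show x * (x * y) * y = (x * x) * (y * y) by group, hx.2, hy.2, one_mul]⟩
       inv_mem' := fun {x} hx => ⟨inv_mem hx.1, by rw [← mul_inv_rev, hx.2, inv_one]⟩ }, fun _ => Iff.rfl⟩
  haveI : Ω.Normal := ⟨fun x hx g => by
    rw [hΩ] at hx ⊢
    refine ⟨hA.conj_mem x hx.1 g, ?_⟩
    rw [show g * x * g⁻¹ * (g * x * g⁻¹) = g * (x * x) * g⁻¹ by group, hx.2, mul_one, mul_inv_cancel]⟩
  have hcard := card_le_two_of_noFour hP hno Ω fun x hx => ((hΩ x).1 hx).2
  have hu : Solv.UniqueOrderP 2 A := by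
    intro x y hx hy hy1
    by_cases hx1 : x = 1
    · rw [hx1]; exact one_mem _
    suffices h : x = y by rw [h]; exact Subgroup.mem_zpowers y
    by_contra hne
    have hx' : (x : P) ∈ Ω := (hΩ _).2 ⟨x.2, by simpa [pow_two] using congrArg Subtype.val hx⟩
    have hy' : (y : P) ∈ Ω := (hΩ _).2 ⟨y.2, by simpa [pow_two] using congrArg Subtype.val hy⟩
    classical
    haveI := Fintype.ofFinite Ω
    have h3 : ({1, ⟨x, hx'⟩, ⟨y, hy'⟩} : Finset Ω).card = 3 := by
      rw [Finset.card_insert_of_notMem, Finset.card_pair]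
      · exact fun h => hne (Subtype.ext (congrArg Subtype.val h :))
      · simp only [Finset.mem_insert, Finset.mem_singleton, not_or]
        exact ⟨fun h => hx1 (Subtype.ext (congrArg Subtype.val h :).symm),
          fun h => hy1 (Subtype.ext (congrArg Subtype.val h :).symm)⟩
    have := Finset.card_le_univ ({1, ⟨x, hx'⟩, ⟨y, hy'⟩} : Finset Ω)
    rw [← Nat.card_eq_fintype_card, h3] at this
    omega
  obtain ⟨a, -, ha⟩ := Solv.abelian_cyclic_of_unique (hP.to_subgroup A) hu ⊤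
    fun x _ y _ => Subtype.ext (hab x x.2 y y.2)
  refine ⟨a, a.2, le_antisymm (fun x hx => ?_) (Subgroup.zpowers_le.2 a.2)⟩
  obtain ⟨i, hi⟩ := Subgroup.mem_zpowers_iff.1 (ha ▸ Subgroup.mem_top (⟨x, hx⟩ : A))
  exact ⟨i, by simpa using congrArg Subtype.val hi⟩

/-- Without a normal four group the derived subgroup is abelian. -/
theorem derived_comm_of_noFour (hP : IsPGroup 2 P) (hno : ¬ HasFour P) :
    dser (⊤ : Subgroup P) 2 = ⊥ := by
  haveI : Fact (Nat.Prime 2) := ⟨Nat.prime_two⟩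
  obtain ⟨N, hN⟩ : ∃ N : Subgroup P, N = ⁅(⊤ : Subgroup P), (⊤ : Subgroup P)⁆ := ⟨_, rfl⟩
  haveI : N.Normal := hN ▸ inferInstance
  rw [dser_succ, dser_succ, dser_zero, ← hN, Subgroup.commutator_eq_bot_iff_le_centralizer]
  by_contra hab
  -- the centre of the derived subgroup
  obtain ⟨Z, hZ⟩ : ∃ Z, Z = N ⊓ Subgroup.centralizer (N : Set P) := ⟨_, rfl⟩
  haveI : (Subgroup.centralizer (N : Set P)).Normal := inferInstance
  haveI : Z.Normal := hZ ▸ inferInstance
  obtain ⟨π, hπ⟩ : ∃ π, π = QuotientGroup.mk' Z := ⟨_, rfl⟩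
  have hker : π.ker = Z := by rw [hπ, QuotientGroup.ker_mk']
  haveI : (N.map π).Normal := Subgroup.Normal.map inferInstance π (hπ ▸ QuotientGroup.mk'_surjective _)
  haveI : Nontrivial ↥(N.map π) := by
    rw [Subgroup.nontrivial_iff_ne_bot, Ne, Subgroup.map_eq_bot_iff, hker, hZ]
    exact fun h => hab (h.trans inf_le_right)
  obtain ⟨mb, hmbN, hmbc, hmb1⟩ := Perm.exists_ne_one_center (hP.to_quotient Z) (N.map π)
  obtain ⟨m, hm, rfl⟩ := hmbN
  haveI hn : (Subgroup.zpowers (π m)).Normal := ⟨fun x hx g => by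
    rw [Subgroup.mem_center_iff.1 ((Subgroup.zpowers_le.2 hmbc) hx) g, mul_inv_cancel_right]; exact hx⟩
  obtain ⟨M, hM⟩ : ∃ M : Subgroup P, M = (Subgroup.zpowers (π m)).comap π := ⟨_, rfl⟩
  haveI : M.Normal := hM ▸ Subgroup.Normal.comap hn π
  have hMform : ∀ x ∈ M, ∃ i : ℤ, ∃ y ∈ Z, x = m ^ i * y := fun x hx => by
    obtain ⟨i, hi⟩ := Subgroup.mem_zpowers_iff.1 (show π x ∈ Subgroup.zpowers (π m) by rw [hM] at hx; exact hx)
    refine ⟨i, (m ^ i)⁻¹ * x, ?_, by group⟩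
    rw [← hker, MonoidHom.mem_ker, map_mul, map_inv, map_zpow, hi, inv_mul_cancel]
  have hMN : M ≤ N := fun x hx => by
    obtain ⟨i, y, hy, rfl⟩ := hMform x hx
    exact mul_mem (N.zpow_mem hm i) (hZ ▸ hy : y ∈ N ⊓ _).1
  have hMab : ∀ x ∈ M, ∀ y ∈ M, x * y = y * x := by
    intro x hx y hy
    obtain ⟨i, a, ha, rfl⟩ := hMform x hx
    obtain ⟨j, b, hb, rfl⟩ := hMform y hy
    have hc : ∀ c ∈ Z, ∀ n ∈ N, Commute c n := fun c hc n hn =>
      (Subgroup.mem_centralizer_iff.1 (hZ ▸ hc : c ∈ N ⊓ _).2 n hn).symm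
    have hbN : b ∈ N := (hZ ▸ hb : b ∈ N ⊓ _).1
    exact ((((Commute.refl m).zpow_zpow i j).mul_right (hc b hb _ (N.zpow_mem hm i)).symm).mul_left
      (hc a ha _ (mul_mem (N.zpow_mem hm j) hbN))).eq
  obtain ⟨a, haM, ha⟩ := cyclic_of_noFour hP hno M hMab
  -- automorphisms of a cyclic group commute
  have hcen : N ≤ Subgroup.centralizer {a} := by
    rw [hN, Subgroup.commutator_le]
    intro g _ h _
    have hpow : ∀ g : P, ∃ i : ℤ, g * a * g⁻¹ = a ^ i := fun g => by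
      obtain ⟨i, hi⟩ := Subgroup.mem_zpowers_iff.1 (ha.le ((inferInstance : M.Normal).conj_mem a haM g))
      exact ⟨i, hi.symm⟩
    obtain ⟨i, hi⟩ := hpow g
    obtain ⟨j, hj⟩ := hpow h
    have e : (g * h) * a * (g * h)⁻¹ = (h * g) * a * (h * g)⁻¹ := by
      calc (g * h) * a * (g * h)⁻¹ = g * (h * a * h⁻¹) * g⁻¹ := by group
        _ = (g * a * g⁻¹) ^ j := by rw [hj, conj_zpow]
        _ = (h * a * h⁻¹) ^ i := by rw [hi, hj, ← zpow_mul, ← zpow_mul, mul_comm]
        _ = h * (g * a * g⁻¹) * h⁻¹ := by rw [hi, conj_zpow]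
        _ = (h * g) * a * (h * g)⁻¹ := by group
    rw [Subgroup.mem_centralizer_singleton_iff]
    have e2 : ⁅g, h⁆ * a * ⁅g, h⁆⁻¹ = a := by
      calc ⁅g, h⁆ * a * ⁅g, h⁆⁻¹ = (g * h) * ((h * g)⁻¹ * a * (h * g)) * (g * h)⁻¹ := by
            rw [commutatorElement_def]; group
        _ = a := by
          obtain ⟨c, hc⟩ : ∃ c, c = (h * g)⁻¹ * a * (h * g) := ⟨_, rfl⟩
          obtain ⟨l, hl⟩ := Subgroup.mem_zpowers_iff.1 (ha.le ((inferInstance : M.Normal).conj_mem a haM (h * g)⁻¹))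
          rw [inv_inv, ← hc] at hl
          rw [← hc, ← hl, ← conj_zpow, e, conj_zpow, hl, hc]; group
    rw [mul_inv_eq_iff_eq_mul] at e2
    exact e2
  have hmM : m ∈ M := by rw [hM]; exact Subgroup.mem_zpowers (π m)
  refine hmb1 (MonoidHom.mem_ker.1 (hker.symm ▸ ?_))
  rw [hZ]
  refine ⟨hm, Subgroup.mem_centralizer_iff.2 fun x hx => ?_⟩
  obtain ⟨i, hi⟩ := Subgroup.mem_zpowers_iff.1 (ha.le hmM)
  rw [← hi]
  exact ((show Commute x a from Subgroup.mem_centralizer_singleton_iff.1 (hcen hx)).zpow_right i).eq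

end Cfsg.Agent.Solv.D2
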