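import Cfsg.Agent.Lib.Solv.DerivedTwo.Pair

/-!
Gauss sums: the operator of an element acting without fixed points on `R / X` is a combination of the
operators of `R`; a quadratic relation for an element of order four restricts the values of its
quadratic form.
-/

set_option autoImplicit false
set_option linter.style.haveILetI false
set_option linter.unusedSectionVars false

namespace Cfsg.Agent.Solv.D2

attribute [local instance] Fintype.ofFinite

open scoped commutatorElement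
open Solv.CRep (rep_inv_apply rep_apply_inv)

universe u v

variable {G : Type u} [Group G] [Finite G] {k : Type*} [Field k] [IsAlgClosed k] [CharP k 2]
  {V : Type v} [AddCommGroup V] [Module k V] [FiniteDimensional k V]
  {ρ : G →* Module.End k V} {T R X : Subgroup G} {W : Submodule k V}

namespace IsExt

variable (h : IsExt ρ T R X W)

include h

theorem commutator_mem_R {r t : G} (hr : r ∈ R) (ht : t ∈ T) : ⁅r, t⁆ ∈ R := by
  rw [commutatorElement_def, mul_assoc, mul_assoc]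
  refine mul_mem hr ?_
  rw [← mul_assoc]
  exact (Subgroup.mem_normalizer_iff.1 (h.hTR ht) _).1 (inv_mem hr)

theorem bar_commutator (t : T) (r : R) :
    bar R X ⟨⁅(r : G), (t : G)⁆, h.commutator_mem_R r.2 t.2⟩ =
      bar R X r * (bact h.toIsPre t (bar R X r))⁻¹ := by
  rw [bact_bar, ← map_inv, ← map_mul]
  exact congrArg (bar R X) (Subtype.ext (by simp [commutatorElement_def, mul_assoc]))

/-- An element trivial on `W` centralises `R` modulo `X`. -/
theorem bact_of_triv {t : T} (ht : ∀ w ∈ W, ρ (t : G) w = w) : bact h.toIsPre t = 1 := by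
  rw [bact_eq_one_iff]
  intro r hr
  refine h.mem_X_of_fix (h.commutator_mem_R hr t.2) fun w hw => ?_
  have hinv : ∀ w ∈ W, ρ (t : G)⁻¹ w = w := fun w hw => by
    conv_lhs => rw [← ht w hw]
    exact rep_inv_apply ρ _ w
  simp only [commutatorElement_def, map_mul, Module.End.mul_apply]
  rw [hinv w hw, ht _ (h.invR _ (inv_mem hr) w hw), rep_apply_inv]

theorem triv_of_bact {t : T} (ht : bact h.toIsPre t = 1) : ∀ w ∈ W, ρ (t : G) w = w :=
  h.triv_of_centralizes t.2 ((bact_eq_one_iff _).1 ht)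

theorem apply_of_bact_eq {s t : T} (he : bact h.toIsPre s = bact h.toIsPre t) :
    ∀ w ∈ W, ρ (s : G) w = ρ (t : G) w := fun w hw => by
  have h1 := h.triv_of_bact (t := t⁻¹ * s) (by rw [map_mul, map_inv, he, inv_mul_cancel]) w hw
  rw [Subgroup.coe_mul, map_mul, Module.End.mul_apply, Subgroup.coe_inv] at h1
  rw [← rep_apply_inv ρ (t : G) (ρ (s : G) w), h1]

theorem conj_sum_apply {t : G} (ht : t ∈ T) :
    ∃ d : k, ∀ w ∈ W, ∑ r : R, ρ (r : G) (ρ t (ρ (r : G)⁻¹ w)) = d • w := by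
  obtain ⟨φ, hφ⟩ : ∃ φ : W →ₗ[k] V, ∀ w : W, φ w = ∑ r : R, ρ (r : G) (ρ t (ρ (r : G)⁻¹ (w : V))) :=
    ⟨(∑ r : R, ρ (r : G) * ρ t * ρ (r : G)⁻¹).comp W.subtype, fun w => by
      simp [LinearMap.sum_apply]⟩
  obtain ⟨d, hd⟩ := h.schur (φ := φ) (fun w => by
      rw [hφ]
      exact sum_mem fun r _ => h.invR _ r.2 _ (h.invT t ht _ (h.invR _ (inv_mem r.2) _ w.2)))
    (fun g hg w hw => by
      rw [hφ, hφ, map_sum]
      refine Fintype.sum_equiv (Equiv.mulLeft (⟨g, hg⟩ : R)⁻¹) _ _ fun r => ?_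
      show _ = ρ g (ρ (g⁻¹ * (r : G)) (ρ t (ρ (g⁻¹ * (r : G))⁻¹ (w : V))))
      rw [← Module.End.mul_apply (ρ g), ← map_mul, mul_inv_cancel_left]
      congr 2
      rw [← Module.End.mul_apply, ← map_mul, mul_inv_rev, inv_inv])
  exact ⟨d, fun w hw => by rw [← hd ⟨w, hw⟩, hφ]⟩

/-- The Gauss sum of an element without fixed points. -/
theorem gauss_sum {t : T} (hfpf : ∀ x, bact h.toIsPre t x = x → x = 1) :
    ∃ d : k, d ≠ 0 ∧ ∀ w ∈ W,
      ∑ q : Bar R X, ρ ⁅((q.out : R) : G), (t : G)⁆ w = d • ρ (t : G)⁻¹ w := by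
  classical
  letI : Fintype ↥R := Fintype.ofFinite ↥R
  obtain ⟨d, hd⟩ := h.conj_sum_apply t.2
  have hodd : Odd (Nat.card (barK R X)) := Odd.of_dvd_nat h.hR (Subgroup.card_subgroup_dvd_card _)
  have hcoset : ∀ (r : R) (w : V), w ∈ W →
      ρ ⁅((r : R) : G), (t : G)⁆ w = ρ ⁅(((bar R X r).out : R) : G), (t : G)⁆ w := by
    intro r w hw
    obtain ⟨x, hx⟩ := QuotientGroup.mk_out_eq_mul (barK R X) r
    have hxX := (mem_barK_iff h.toIsPre).1 x.2
    have hx2 : (t : G) * ((x : R) : G) * (t : G)⁻¹ ∈ X := (Subgroup.mem_normalizer_iff.1 (h.hTX t.2) _).1 hxX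
    have h3 : ⁅((x : R) : G), (t : G)⁆ ∈ X := by
      rw [show ⁅((x : R) : G), (t : G)⁆ = ((x : R) : G) * ((t : G) * ((x : R) : G) * (t : G)⁻¹)⁻¹ by
        rw [commutatorElement_def]; group]
      exact mul_mem hxX (inv_mem hx2)
    have hsc : sc ρ W ⁅((x : R) : G), (t : G)⁆ = (1 : k) := by
      rw [show ⁅((x : R) : G), (t : G)⁆ = ((x : R) : G) * ((t : G) * ((x : R) : G) * (t : G)⁻¹)⁻¹ by
        rw [commutatorElement_def]; group, h.sc_mul hxX (inv_mem hx2), h.sc_inv hx2,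
        h.sc_conj_of_mem hxX hx2 (h.invT t t.2), mul_inv_cancel₀ (h.sc_ne_zero hxX)]
    rw [QuotientGroup.mk'_apply, hx, Subgroup.coe_mul,
      show ⁅(r : G) * ((x : R) : G), (t : G)⁆ =
        ((r : G) * ⁅((x : R) : G), (t : G)⁆ * (r : G)⁻¹) * ⁅(r : G), (t : G)⁆ by
        simp only [commutatorElement_def]; group, map_mul, Module.End.mul_apply,
      h.sc_spec (h.toIsPre.conj_mem r.2 h3) _ (h.invR _ (h.commutator_mem_R r.2 t.2) w hw),
      h.sc_conj_of_mem h3 (h.toIsPre.conj_mem r.2 h3) (h.invR _ r.2), hsc, one_smul]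
  have hsum : ∀ w ∈ W, ∑ q : Bar R X, ρ ⁅((q.out : R) : G), (t : G)⁆ w = d • ρ (t : G)⁻¹ w := by
    intro w hw
    rw [← hd _ (h.invT _ (inv_mem t.2) w hw)]
    refine Eq.trans ?_ (Fintype.sum_fiberwise (fun r : R => bar R X r) _)
    refine Finset.sum_congr rfl fun q _ => ?_
    rw [Finset.sum_congr rfl (fun r _ => show _ = ρ ⁅((q.out : R) : G), (t : G)⁆ w by
        rw [← Module.End.mul_apply, ← Module.End.mul_apply, ← Module.End.mul_apply, ← map_mul, ← map_mul,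
          ← map_mul, ← commutatorElement_def, hcoset r.1 w hw, r.2]),
      Finset.sum_const, Finset.card_univ, ← Nat.card_eq_fintype_card,
      show Nat.card {r : R // bar R X r = q} = Nat.card (barK R X) from ?_,
      ← Nat.cast_smul_eq_nsmul k, cast_odd hodd, one_smul]
    exact Nat.card_congr
      { toFun := fun r => ⟨q.out⁻¹ * r.1, QuotientGroup.eq.1 (q.out_eq.trans r.2.symm)⟩
        invFun := fun x => ⟨q.out * x.1, by
          rw [QuotientGroup.mk'_apply, QuotientGroup.mk_mul_of_mem _ x.2]; exact q.out_eq⟩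
        left_inv := fun r => Subtype.ext (mul_inv_cancel_left _ _)
        right_inv := fun x => Subtype.ext (inv_mul_cancel_left _ _) }
  refine ⟨d, fun hd0 => ?_, hsum⟩
  have h1 := h.toIsPre.indep le_rfl h.hne h.invR (fun q : Bar R X => ⁅((q.out : R) : G), (t : G)⁆)
    Finset.univ (fun q _ => h.commutator_mem_R q.out.2 t.2) (fun q _ q' _ hqq' hmem => hqq' ?_)
    (fun _ => (1 : k)) (fun w hw => by simp only [one_smul]; rw [hsum w hw, hd0, zero_smul])
    1 (Finset.mem_univ _)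
  · exact one_ne_zero h1
  have h2 := (bar_eq h.toIsPre).2 (show (((⟨_, h.commutator_mem_R q.out.2 t.2⟩ : R)) : G)⁻¹ *
    ((⟨_, h.commutator_mem_R q'.out.2 t.2⟩ : R) : G) ∈ X from hmem)
  rw [h.bar_commutator, h.bar_commutator, QuotientGroup.mk'_apply, QuotientGroup.mk'_apply,
    QuotientGroup.out_eq', QuotientGroup.out_eq'] at h2
  have h3 : bact h.toIsPre t (q'⁻¹ * q) = q'⁻¹ * q := by
    rw [map_mul, map_inv]
    calc (bact h.toIsPre t q')⁻¹ * bact h.toIsPre t q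
        = q'⁻¹ * (q' * (bact h.toIsPre t q')⁻¹) * bact h.toIsPre t q := by group
      _ = q'⁻¹ * q := by rw [← h2]; group
  exact (inv_mul_eq_one.1 (hfpf _ h3)).symm

/-- The quadratic form of a square root of the inversion takes at most two values. -/
theorem gauss {a i : T} (ha : ∀ x, bact h.toIsPre a x = x⁻¹) (hi : bact h.toIsPre (i * i) = bact h.toIsPre a)
    (hz : ∀ w ∈ W, ρ (a : G) (ρ (i : G) w - w) = ρ (i : G) w - w) :
    ∀ x₁ x₂ x₃ : Bar R X, x₁ ≠ 1 → x₂ ≠ 1 → x₃ ≠ 1 →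
      (pb ρ W x₁ (bact h.toIsPre i x₁) : k) = pb ρ W x₂ (bact h.toIsPre i x₂) ∨
      (pb ρ W x₁ (bact h.toIsPre i x₁) : k) = pb ρ W x₃ (bact h.toIsPre i x₃) ∨
      (pb ρ W x₂ (bact h.toIsPre i x₂) : k) = pb ρ W x₃ (bact h.toIsPre i x₃) := by
  classical
  obtain ⟨σ, hσ⟩ : ∃ σ, σ = bact h.toIsPre i := ⟨_, rfl⟩
  rw [← hσ]
  have hodd := odd_bar h.toIsPre
  have hσ2 : ∀ x, σ (σ x) = x⁻¹ := fun x => by rw [hσ, ← MulAut.mul_apply, ← map_mul, hi, ha]
  have hσ4 : ∀ x, σ (σ (σ (σ x))) = x := fun x => by rw [hσ2, hσ2, inv_inv]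
  have hinv1 : ∀ x : Bar R X, x⁻¹ = x → x = 1 := fun x hx => by
    have h2 : x ^ 2 = 1 := by rw [pow_two]; nth_rewrite 1 [← hx]; exact inv_mul_cancel x
    obtain ⟨m, hm⟩ := hodd
    have h3 := pow_card_eq_one' (x := x)
    rw [hm, pow_succ, pow_mul, h2, one_pow, one_mul] at h3
    exact h3
  have hfa : ∀ x, bact h.toIsPre a x = x → x = 1 := fun x hx => hinv1 x (by rw [ha] at hx; exact hx)
  have hfi : ∀ x, bact h.toIsPre i x = x → x = 1 := fun x hx => by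
    rw [← hσ] at hx
    exact hinv1 x (by rw [← hσ2, hx, hx])
  have hi3 : bact h.toIsPre (i * (i * i)) = σ * (σ * σ) := by rw [map_mul, map_mul, hσ]
  have hfi3 : ∀ x, bact h.toIsPre (i * (i * i)) x = x → x = 1 := fun x hx => hfi x (by
    rw [hi3, MulAut.mul_apply, MulAut.mul_apply] at hx
    rw [← hσ]
    nth_rewrite 1 [← hx]
    rw [hσ4])
  obtain ⟨d₁, hd₁, hs₁⟩ := h.gauss_sum hfi
  obtain ⟨d₂, hd₂, hs₂⟩ := h.gauss_sum hfa
  obtain ⟨d₃, hd₃, hs₃⟩ := h.gauss_sum hfi3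
  have haa : bact h.toIsPre (a * a) = 1 := MulEquiv.ext fun x => by
    rw [map_mul, MulAut.mul_apply, ha, ha, inv_inv, MulAut.one_apply]
  have hi4 : bact h.toIsPre (i * i * (i * i)) = 1 := by rw [map_mul, hi, ← map_mul, haa]
  have hI2 : ∀ w ∈ W, ρ (i : G) (ρ (i : G) w) = ρ (a : G) w := fun w hw => by
    rw [← Module.End.mul_apply, ← map_mul]
    exact h.apply_of_bact_eq hi w hw
  have hW : ∀ (g : T) (w : V), w ∈ W → ρ (g : G) w ∈ W := fun g => h.invT g g.2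
  -- the relation
  have hrel : ∀ w ∈ W, w + d₁⁻¹ • ∑ q : Bar R X, ρ ⁅((q.out : R) : G), (i : G)⁆ w +
      d₂⁻¹ • ∑ q : Bar R X, ρ ⁅((q.out : R) : G), (a : G)⁆ w +
      d₃⁻¹ • ∑ q : Bar R X, ρ ⁅((q.out : R) : G), ((i * (i * i) : T) : G)⁆ w = 0 := by
    intro w hw
    rw [hs₁ w hw, hs₂ w hw, hs₃ w hw, inv_smul_smul₀ hd₁, inv_smul_smul₀ hd₂, inv_smul_smul₀ hd₃]
    obtain ⟨u, hu, rfl⟩ : ∃ u ∈ W, ρ ((i * (i * i) : T) : G) u = w :=
      ⟨_, hW (i * (i * i))⁻¹ w hw, by rw [Subgroup.coe_inv, rep_apply_inv]⟩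
    have e := hz u hu
    rw [← hI2 _ (sub_mem (hW i u hu) hu), map_sub, map_sub] at e
    have e1 : ρ ((i * (i * i) : T) : G) u = ρ (i : G) (ρ (i : G) (ρ (i : G) u)) := by
      simp [map_mul]
    have e2 : ρ (a : G)⁻¹ (ρ (i : G) (ρ (i : G) (ρ (i : G) u))) = ρ (i : G) u := by
      rw [hI2 _ (hW i u hu), rep_inv_apply]
    rw [rep_inv_apply, e1, rep_inv_apply, e2]
    have e3 : ρ (i : G) (ρ (i : G) (ρ (i : G) u)) + ρ (i : G) (ρ (i : G) u) + ρ (i : G) u + u = 0 := by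
      have hn : ∀ p q : V, p - q = p + q := fun p q => by
        rw [sub_eq_add_neg, neg_eq_of_add_eq_zero_right (add_self_zero k q)]
      rw [hn, hn] at e
      rw [add_assoc (_ + _), ← e, add_self_zero k]
    rw [← e3]
  -- equation at each coset
  have hy : ∀ x : Bar R X, x ≠ 1 → ∃ γ : k, γ ≠ 0 ∧ d₁⁻¹ * γ ^ 2 + d₂⁻¹ * γ + d₃⁻¹ = 0 ∧
      (pb ρ W x (σ x) : k) * γ ^ 2 = 1 := by
    intro x hx
    -- inverted representatives
    have hinvert : ∀ r : G, r ∈ R → ∀ w ∈ W,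
        ρ ((a : G) * ⁅r, (a : G)⁆ * (a : G)⁻¹ * ⁅r, (a : G)⁆) w = w := by
      intro r hr w hw
      have e := h.triv_of_bact haa
      have e' : ∀ w ∈ W, ρ ((a : G)⁻¹ * (a : G)⁻¹) w = w := fun w hw => by
        have := h.triv_of_bact (t := (a * a)⁻¹) (by rw [map_inv, haa, inv_one]) w hw
        simpa [mul_inv_rev] using this
      rw [show (a : G) * ⁅r, (a : G)⁆ * (a : G)⁻¹ * ⁅r, (a : G)⁆ =
        ((a : G) * r * (a : G) * r⁻¹) * (((a : G)⁻¹ * (a : G)⁻¹) * (r * (a : G) * r⁻¹ * (a : G)⁻¹)) by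
        rw [commutatorElement_def]; group, map_mul, Module.End.mul_apply,
        map_mul ρ ((a : G)⁻¹ * (a : G)⁻¹), Module.End.mul_apply]
      have h5 : ρ (r * (a : G) * r⁻¹ * (a : G)⁻¹) w ∈ W := by
        rw [← commutatorElement_def]; exact h.invR _ (h.commutator_mem_R hr a.2) w hw
      rw [e' _ h5, ← Module.End.mul_apply, ← map_mul,
        show (a : G) * r * (a : G) * r⁻¹ * (r * (a : G) * r⁻¹ * (a : G)⁻¹) =
          (a : G) * r * ((a : G) * (a : G)) * (r⁻¹ * (a : G)⁻¹) by group]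
      simp only [map_mul ρ ((a : G) * r * ((a : G) * (a : G))), map_mul ρ ((a : G) * r),
        Module.End.mul_apply]
      have h6 : ρ (r⁻¹ * (a : G)⁻¹) w ∈ W := by
        rw [map_mul, Module.End.mul_apply]
        exact h.invR _ (inv_mem hr) _ (h.invT _ (inv_mem a.2) w hw)
      rw [show ρ ((a : G) * (a : G)) (ρ (r⁻¹ * (a : G)⁻¹) w) = ρ (r⁻¹ * (a : G)⁻¹) w from e _ h6,
        ← Module.End.mul_apply, ← map_mul, show (a : G) * r * (r⁻¹ * (a : G)⁻¹) = 1 by group, map_one,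
        Module.End.one_apply]
    obtain ⟨c, hc⟩ : ∃ c : Bar R X, c * c = x := ⟨x ^ ((Nat.card (Bar R X) + 1) / 2), by
      obtain ⟨m, hm⟩ := hodd
      rw [← pow_add, show (Nat.card (Bar R X) + 1) / 2 + (Nat.card (Bar R X) + 1) / 2 =
        Nat.card (Bar R X) + 1 by omega, pow_succ, pow_card_eq_one', one_mul]⟩
    obtain ⟨r, hr⟩ : ∃ r : R, (r : G) = ⁅((c.out : R) : G), (a : G)⁆ :=
      ⟨⟨_, h.commutator_mem_R c.out.2 a.2⟩, rfl⟩
    have hbr : bar R X r = x := by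
      rw [show r = ⟨_, h.commutator_mem_R c.out.2 a.2⟩ from Subtype.ext hr, h.bar_commutator,
        QuotientGroup.mk'_apply, QuotientGroup.out_eq', ha, inv_inv, hc]
    obtain ⟨r', hr'⟩ : ∃ r' : R, (r' : G) = (i : G) * r * (i : G)⁻¹ :=
      ⟨⟨_, conj_mem_R h.toIsPre i r⟩, rfl⟩
    have hbr' : bar R X r' = σ x := by
      rw [← hbr, hσ, bact_bar]; exact congrArg (bar R X) (Subtype.ext hr')
    obtain ⟨y, hy'⟩ : ∃ y, y = x * (σ x)⁻¹ := ⟨_, rfl⟩
    have hy1 : y ≠ 1 := fun hh => hx (hfi x (by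
      rw [← hσ]; rw [hy', mul_inv_eq_one] at hh; exact hh.symm))
    obtain ⟨c₀, hc₀⟩ : ∃ c : Bar R X, c * c = y := ⟨y ^ ((Nat.card (Bar R X) + 1) / 2), by
      obtain ⟨m, hm⟩ := hodd
      rw [← pow_add, show (Nat.card (Bar R X) + 1) / 2 + (Nat.card (Bar R X) + 1) / 2 =
        Nat.card (Bar R X) + 1 by omega, pow_succ, pow_card_eq_one', one_mul]⟩
    obtain ⟨y₀, hy₀⟩ : ∃ y₀ : R, (y₀ : G) = ⁅((c₀.out : R) : G), (a : G)⁆ :=
      ⟨⟨_, h.commutator_mem_R c₀.out.2 a.2⟩, rfl⟩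
    have hby₀ : bar R X y₀ = y := by
      rw [show y₀ = ⟨_, h.commutator_mem_R c₀.out.2 a.2⟩ from Subtype.ext hy₀, h.bar_commutator,
        QuotientGroup.mk'_apply, QuotientGroup.out_eq', ha, inv_inv, hc₀]
    have hx₁ : (y₀ : G)⁻¹ * ((r : G) * (r' : G)⁻¹) ∈ X :=
      (bar_eq h.toIsPre (s := r * r'⁻¹)).1 (by rw [hby₀, map_mul, map_inv, hbr, hbr', hy'])
    obtain ⟨x₁, hx₁'⟩ : ∃ x₁ : G, x₁ = (y₀ : G)⁻¹ * ((r : G) * (r' : G)⁻¹) := ⟨_, rfl⟩
    rw [← hx₁'] at hx₁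
    obtain ⟨γ, hγ⟩ : ∃ γ : k, γ = sc ρ W x₁ := ⟨_, rfl⟩
    have hγ0 : γ ≠ 0 := hγ ▸ h.sc_ne_zero hx₁
    obtain ⟨p, hp⟩ : ∃ p : k, p = pair ρ W (r : G) (r' : G) := ⟨_, rfl⟩
    have hpx : (pb ρ W x (σ x) : k) = p := by rw [hp, ← hbr, ← h.pb_bar r r', hbr, hbr']
    have hz₁ : ∀ w ∈ W, ρ ((r : G) * (r' : G)⁻¹) w = γ • ρ (y₀ : G) w := fun w hw => by
      rw [show (r : G) * (r' : G)⁻¹ = (y₀ : G) * x₁ by rw [hx₁']; group, map_mul, Module.End.mul_apply,
        h.sc_spec hx₁ w hw, hγ, map_smul]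
    have hz₃ : ∀ w ∈ W, ρ ((r' : G)⁻¹ * (r : G)) w = (p * γ) • ρ (y₀ : G) w := fun w hw => by
      have hc2 := h.comm_apply (inv_mem r'.2) r.2 hw
      rw [← Module.End.mul_apply, ← map_mul] at hc2
      rw [hc2, ← Module.End.mul_apply, ← map_mul, hz₁ w hw, smul_smul]
      congr 2
      have e := h.pair_mul_left r'.2 (inv_mem r'.2) r.2
      rw [mul_inv_cancel, h.pair_X_left r.2 (one_mem X), h.pair_swap r.2 r'.2, ← hp] at e
      have hp0 : p ≠ 0 := hp ▸ h.sc_ne_zero (h.toIsPre.comm_mem r.2 r'.2)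
      field_simp at e
      exact e.symm
    have hinvr : ∀ w ∈ W, ρ ((a : G) * r * (a : G)⁻¹) w = ρ (r : G)⁻¹ w := fun w hw => by
      have e := hinvert _ c.out.2 _ (h.invR _ (inv_mem r.2) w hw)
      rw [← hr, map_mul, Module.End.mul_apply, rep_apply_inv] at e
      exact e
    have hinvy : ∀ w ∈ W, ρ ((a : G) * y₀ * (a : G)⁻¹) w = ρ (y₀ : G)⁻¹ w := fun w hw => by
      have e := hinvert _ c₀.out.2 _ (h.invR _ (inv_mem y₀.2) w hw)
      rw [← hy₀, map_mul, Module.End.mul_apply, rep_apply_inv] at e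
      exact e
    have hinvr' : ∀ w ∈ W, ρ ((a : G) * r' * (a : G)⁻¹) w = ρ (r' : G)⁻¹ w := fun w hw => by
      have e1 : ∀ v ∈ W, ρ (a : G) (ρ (i : G) v) = ρ (i : G) (ρ (a : G) v) := fun v hv => by
        rw [← hI2 _ (hW i v hv), ← hI2 v hv]
      have e2 : ∀ v ∈ W, ρ (i : G)⁻¹ (ρ (a : G)⁻¹ v) = ρ (a : G)⁻¹ (ρ (i : G)⁻¹ v) := fun v hv => by
        have hv' : ρ (a : G)⁻¹ (ρ (i : G)⁻¹ v) ∈ W := h.invT _ (inv_mem a.2) _ (h.invT _ (inv_mem i.2) v hv)
        have e3 := e1 _ hv'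
        rw [rep_apply_inv, rep_apply_inv] at e3
        apply Solv.CRep.rep_injective ρ (i : G)
        rw [rep_apply_inv]
        apply Solv.CRep.rep_injective ρ (a : G)
        rw [rep_apply_inv, e3]
      simp only [hr', map_mul, Module.End.mul_apply]
      have e7 := hinvr _ (h.invT _ (inv_mem i.2) w hw)
      simp only [map_mul, Module.End.mul_apply] at e7
      rw [e2 w hw, e1 _ (h.invR _ r.2 _ (h.invT _ (inv_mem a.2) _ (h.invT _ (inv_mem i.2) w hw))), e7]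
      simp only [mul_inv_rev, inv_inv, map_mul, Module.End.mul_apply]
    have hγp : γ ^ 2 * p = 1 := by
      obtain ⟨w, hw, hw0⟩ := h.exists_ne
      obtain ⟨u, hu⟩ : ∃ u, u = ρ (a : G) w := ⟨_, rfl⟩
      have huW : u ∈ W := hu ▸ hW a w hw
      -- conjugate the first relation by `a`
      have hl : ρ ((a : G) * ((r : G) * (r' : G)⁻¹) * (a : G)⁻¹) u = ρ ((r : G)⁻¹ * (r' : G)) u := by
        rw [show (a : G) * ((r : G) * (r' : G)⁻¹) * (a : G)⁻¹ =
          ((a : G) * r * (a : G)⁻¹) * ((a : G) * r' * (a : G)⁻¹)⁻¹ by group,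
          map_mul ρ ((a : G) * r * (a : G)⁻¹), map_mul ρ (r : G)⁻¹, Module.End.mul_apply, Module.End.mul_apply]
        have e : ρ ((a : G) * r' * (a : G)⁻¹)⁻¹ u = ρ (r' : G) u := by
          have e2 := hinvr' _ (h.invR _ r'.2 u huW)
          rw [rep_inv_apply] at e2
          apply Solv.CRep.rep_injective ρ ((a : G) * r' * (a : G)⁻¹)
          rw [rep_apply_inv, e2]
        rw [e, hinvr _ (h.invR _ r'.2 u huW)]
      have hr0 : ρ ((a : G) * ((r : G) * (r' : G)⁻¹) * (a : G)⁻¹) u = γ • ρ (y₀ : G)⁻¹ u := by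
        rw [← hinvy u huW, hu]
        simp only [map_mul, Module.End.mul_apply, rep_inv_apply]
        rw [← Module.End.mul_apply (ρ (r : G)), ← map_mul, hz₁ w hw, map_smul]
      rw [hl] at hr0
      -- compare with the first relation
      have e1 := hz₁ _ (h.invR _ (inv_mem y₀.2) u huW)
      rw [rep_apply_inv] at e1
      have e2 : ρ ((r : G) * (r' : G)⁻¹) (ρ ((r : G)⁻¹ * (r' : G)) u) = (γ * γ) • u := by
        rw [hr0, map_smul, e1, smul_smul]
      have hu0 : u ≠ 0 := fun hz => hw0 ((rep_inv_apply ρ (a : G) w).symm.trans (by rw [← hu, hz, map_zero]))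
      have hcomm := h.comm_apply r.2 (inv_mem r'.2) (h.invR _ (mul_mem (inv_mem r.2) r'.2) u huW)
      rw [← Module.End.mul_apply, ← map_mul, e2, ← Module.End.mul_apply (ρ (r' : G)⁻¹), ← map_mul,
        ← Module.End.mul_apply _ (ρ ((r : G)⁻¹ * (r' : G))), ← map_mul,
        show (r' : G)⁻¹ * (r : G) * ((r : G)⁻¹ * (r' : G)) = 1 by group, map_one,
        Module.End.one_apply] at hcomm
      have hpi : pair ρ W (r : G) (r' : G)⁻¹ = p⁻¹ := by
        have e := h.pair_mul_right r.2 r'.2 (inv_mem r'.2)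
        rw [mul_inv_cancel, h.pair_X_right r.2 (one_mem X), ← hp] at e
        exact eq_inv_of_mul_eq_one_right e.symm
      rw [hpi] at hcomm
      have e6 := smul_left_injective k hu0 hcomm
      have hp0 : p ≠ 0 := hp ▸ h.sc_ne_zero (h.toIsPre.comm_mem r.2 r'.2)
      rw [pow_two, e6, inv_mul_cancel₀ hp0]
    refine ⟨γ, hγ0, ?_, by rw [hpx, mul_comm, hγp]⟩
    -- collect the coefficient of `y`
    let f : Bar R X → G := fun z => if z = y then (y₀ : G) else ((z.out : R) : G)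
    have hfR : ∀ z, f z ∈ R := fun z => by
      dsimp only [f]; split_ifs; exacts [y₀.2, z.out.2]
    have hfbar : ∀ z, bar R X ⟨f z, hfR z⟩ = z := fun z => by
      by_cases hzy : z = y
      · rw [show (⟨f z, hfR z⟩ : R) = y₀ from Subtype.ext (if_pos hzy), hby₀, hzy]
      · rw [show (⟨f z, hfR z⟩ : R) = z.out from Subtype.ext (if_neg hzy), QuotientGroup.mk'_apply,
          QuotientGroup.out_eq']
    -- each Gauss sum as a combination
    have hmove : ∀ (t : T), (∀ x, bact h.toIsPre t x = x → x = 1) →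
        ∀ (q₀ : Bar R X) (c : k), q₀ * (bact h.toIsPre t q₀)⁻¹ = y →
          (∀ w ∈ W, ρ ⁅((q₀.out : R) : G), (t : G)⁆ w = c • ρ (y₀ : G) w) →
          ∃ α : Bar R X → k, α y = c ∧
            ∀ w ∈ W, ∑ q : Bar R X, ρ ⁅((q.out : R) : G), (t : G)⁆ w = ∑ z, α z • ρ (f z) w := by
      intro t hfp q₀ c hq₀ hcw
      obtain ⟨e, he⟩ : ∃ e : Bar R X ≃ Bar R X, ∀ q, e q = q * (bact h.toIsPre t q)⁻¹ := by
        refine ⟨Equiv.ofBijective (fun q => q * (bact h.toIsPre t q)⁻¹) ?_, fun _ => rfl⟩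
        refine (Finite.injective_iff_bijective).1 fun q q' hq => ?_
        have h3 : bact h.toIsPre t (q'⁻¹ * q) = q'⁻¹ * q := by
          rw [map_mul, map_inv]
          calc (bact h.toIsPre t q')⁻¹ * bact h.toIsPre t q
              = q'⁻¹ * (q' * (bact h.toIsPre t q')⁻¹) * bact h.toIsPre t q := by group
            _ = q'⁻¹ * q := by rw [← hq]; group
        exact (inv_mul_eq_one.1 (hfp _ h3)).symm
      have hmem : ∀ q : Bar R X, (f (e q))⁻¹ * ⁅((q.out : R) : G), (t : G)⁆ ∈ X := fun q =>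
        (bar_eq h.toIsPre (r := ⟨f (e q), hfR _⟩) (s := ⟨_, h.commutator_mem_R q.out.2 t.2⟩)).1 (by
          rw [hfbar, h.bar_commutator, he, QuotientGroup.mk'_apply, QuotientGroup.out_eq'])
      refine ⟨fun z => sc ρ W ((f z)⁻¹ * ⁅(((e.symm z).out : R) : G), (t : G)⁆), ?_, fun w hw => ?_⟩
      · obtain ⟨u, hu, hu0⟩ := h.exists_ne
        have heq : e.symm y = q₀ := e.symm_apply_eq.2 (by rw [he, hq₀])
        show sc ρ W _ = c
        rw [heq]
        refine h.sc_eq ?_ hu hu0 ?_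
        · have := hmem q₀
          rwa [show e q₀ = y by rw [he, hq₀]] at this
        · rw [map_mul, Module.End.mul_apply, hcw u hu, map_smul, show f y = (y₀ : G) from if_pos rfl,
            rep_inv_apply]
      · refine Fintype.sum_equiv e _ _ fun q => ?_
        dsimp only
        rw [e.symm_apply_apply]
        conv_lhs => rw [← mul_inv_cancel_left (f (e q)) ⁅((q.out : R) : G), (t : G)⁆, map_mul,
          Module.End.mul_apply, h.sc_spec (hmem q) w hw, map_smul]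
    have hout : ∀ (t : T) (s : R), ∀ w ∈ W,
        ρ ⁅(((bar R X s).out : R) : G), (t : G)⁆ w = ρ ⁅(s : G), (t : G)⁆ w := by
      intro t s w hw
      obtain ⟨x, hx⟩ := QuotientGroup.mk_out_eq_mul (barK R X) s
      have hxX := (mem_barK_iff h.toIsPre).1 x.2
      have hx2 : (t : G) * ((x : R) : G) * (t : G)⁻¹ ∈ X :=
        (Subgroup.mem_normalizer_iff.1 (h.hTX t.2) _).1 hxX
      have e : ⁅((x : R) : G), (t : G)⁆ = ((x : R) : G) * ((t : G) * ((x : R) : G) * (t : G)⁻¹)⁻¹ := by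
        rw [commutatorElement_def]; group
      have h3 : ⁅((x : R) : G), (t : G)⁆ ∈ X := e ▸ mul_mem hxX (inv_mem hx2)
      rw [QuotientGroup.mk'_apply, hx, Subgroup.coe_mul,
        show ⁅(s : G) * ((x : R) : G), (t : G)⁆ =
          ((s : G) * ⁅((x : R) : G), (t : G)⁆ * (s : G)⁻¹) * ⁅(s : G), (t : G)⁆ by
          simp only [commutatorElement_def]; group, map_mul, Module.End.mul_apply,
        h.sc_spec (h.toIsPre.conj_mem s.2 h3) _ (h.invR _ (h.commutator_mem_R s.2 t.2) w hw),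
        h.sc_conj_of_mem h3 (h.toIsPre.conj_mem s.2 h3) (h.invR _ s.2), e, h.sc_mul hxX (inv_mem hx2),
        h.sc_inv hx2, h.sc_conj_of_mem hxX hx2 (h.invT t t.2), mul_inv_cancel₀ (h.sc_ne_zero hxX),
        one_smul]
    obtain ⟨α₁, hα₁, hA₁⟩ := hmove i hfi x γ (by rw [← hσ, hy']) fun w hw => by
      rw [← hbr, hout i r w hw, ← hz₁ w hw, commutatorElement_def, hr']
      congr 2; group
    obtain ⟨α₂, hα₂, hA₂⟩ := hmove a hfa c₀ 1 (by rw [ha, inv_inv, hc₀]) fun w hw => by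
      rw [hy₀, one_smul]
    obtain ⟨α₃, hα₃, hA₃⟩ := hmove (i * (i * i)) hfi3 (σ x)⁻¹ (p * γ)
      (by rw [hi3, MulAut.mul_apply, MulAut.mul_apply, map_inv, map_inv, map_inv, inv_inv, hσ4, hy', mul_comm])
      fun w hw => by
        rw [← hbr', ← map_inv, hout _ r'⁻¹ w hw, ← hz₃ w hw]
        have e4 : ∀ v ∈ W, ρ ((i : G) * i * (i * i)) v = v := fun v hv => by
          simpa using h.triv_of_bact hi4 v hv
        have e4' : ∀ v ∈ W, ρ ((i : G) * i * (i * i))⁻¹ v = v := fun v hv => by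
          conv_lhs => rw [← e4 v hv]
          exact rep_inv_apply ρ _ v
        rw [show ⁅((r'⁻¹ : R) : G), ((i * (i * i) : T) : G)⁆ = (r' : G)⁻¹ *
            (((i : G) * i * (i * i)) * ((r : G) * ((i : G) * i * (i * i))⁻¹)) by
          simp only [commutatorElement_def, InvMemClass.coe_inv, Subgroup.coe_mul, inv_inv, hr']; group,
          map_mul ρ (r' : G)⁻¹, map_mul ρ ((i : G) * i * (i * i)), map_mul ρ (r : G),
          Module.End.mul_apply, Module.End.mul_apply, Module.End.mul_apply,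
          e4' w hw, e4 _ (h.invR _ r.2 w hw), ← Module.End.mul_apply, ← map_mul]
    have hsum : ∀ w ∈ W, ∑ z : Bar R X, ((if z = 1 then sc ρ W ((f 1)⁻¹) else 0) + d₁⁻¹ * α₁ z +
        d₂⁻¹ * α₂ z + d₃⁻¹ * α₃ z) • ρ (f z) w = 0 := by
      intro w hw
      refine Eq.trans ?_ (hrel w hw)
      simp only [add_smul, Finset.sum_add_distrib, mul_smul, ← Finset.smul_sum, ← hA₁ w hw, ← hA₂ w hw,
        ← hA₃ w hw, ite_smul, zero_smul, Finset.sum_ite_eq', Finset.mem_univ, if_true]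
      congr 3
      have h1 : f 1 ∈ X := (bar_eq_one h.toIsPre (r := ⟨f 1, hfR 1⟩)).1 (hfbar 1)
      rw [← map_smul, ← h.sc_spec (inv_mem h1) w hw, rep_apply_inv]
    have hcoef := h.toIsPre.indep le_rfl h.hne h.invR f Finset.univ (fun z _ => hfR z)
      (fun z _ z' _ hzz' hmem => hzz' (by
        have e := (bar_eq h.toIsPre (r := ⟨f z, hfR z⟩) (s := ⟨f z', hfR z'⟩)).2 hmem
        rwa [hfbar, hfbar] at e)) _ hsum y (Finset.mem_univ _)
    rw [if_neg hy1, zero_add, hα₁, hα₂, hα₃, mul_one] at hcoef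
    have hpγ : p * γ * γ = 1 := by rw [mul_assoc, ← pow_two, mul_comm, hγp]
    calc d₁⁻¹ * γ ^ 2 + d₂⁻¹ * γ + d₃⁻¹ = (d₁⁻¹ * γ + d₂⁻¹ + d₃⁻¹ * (p * γ)) * γ := by
          rw [add_mul, add_mul, mul_assoc d₃⁻¹, hpγ]; ring
      _ = 0 := by rw [hcoef, zero_mul]
  intro x₁ x₂ x₃ h₁ h₂ h₃
  obtain ⟨γ₁, hγ₁, e₁, q₁⟩ := hy x₁ h₁
  obtain ⟨γ₂, hγ₂, e₂, q₂⟩ := hy x₂ h₂
  obtain ⟨γ₃, hγ₃, e₃, q₃⟩ := hy x₃ h₃
  have key : ∀ {u v : k} {pu pv : k}, u ≠ 0 → pu * u ^ 2 = 1 → pv * v ^ 2 = 1 → u = v → pu = pv :=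
    fun hu h1 h2 huv => by subst huv; exact mul_right_cancel₀ (pow_ne_zero 2 hu) (h1.trans h2.symm)
  by_cases h12 : γ₁ = γ₂
  · exact Or.inl (key hγ₁ q₁ q₂ h12)
  by_cases h13 : γ₁ = γ₃
  · exact Or.inr (Or.inl (key hγ₁ q₁ q₃ h13))
  refine Or.inr (Or.inr (key hγ₂ q₂ q₃ ?_))
  have f12 : d₁⁻¹ * (γ₁ + γ₂) + d₂⁻¹ = 0 := (mul_eq_zero.1
    (show (γ₁ - γ₂) * (d₁⁻¹ * (γ₁ + γ₂) + d₂⁻¹) = 0 by linear_combination e₁ - e₂)).resolve_left
      (sub_ne_zero.2 h12)
  have f13 : d₁⁻¹ * (γ₁ + γ₃) + d₂⁻¹ = 0 := (mul_eq_zero.1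
    (show (γ₁ - γ₃) * (d₁⁻¹ * (γ₁ + γ₃) + d₂⁻¹) = 0 by linear_combination e₁ - e₃)).resolve_left
      (sub_ne_zero.2 h13)
  exact sub_eq_zero.1 ((mul_eq_zero.1 (show d₁⁻¹ * (γ₂ - γ₃) = 0 by linear_combination f12 - f13)).resolve_left
    (inv_ne_zero hd₁))

end IsExt

end Cfsg.Agent.Solv.D2
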