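import Cfsg.Agent.Lib.Solv.DerivedTwo.Sub
import Cfsg.Agent.Lib.Solv.DerivedTwo.Four

/-!
The key lemma: if the product of the augmentation operators of the derived series vanishes on a simple
module and the last term has no fixed point on `R / X`, there is only one step and `R / X` is a plane.
-/

set_option autoImplicit false
set_option linter.style.haveILetI false
set_option linter.unusedSectionVars false
set_option maxHeartbeats 1000000

namespace Cfsg.Agent.Solv.D2

attribute [local instance] Fintype.ofFinite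

open scoped commutatorElement
open Solv.CRep (rep_inv_apply rep_apply_inv)

universe u v

variable {G : Type u} [Group G] [Finite G] {k : Type*} [Field k] [IsAlgClosed k] [CharP k 2]
  {V : Type v} [AddCommGroup V] [Module k V] [FiniteDimensional k V]
  {ρ : G →* Module.End k V} {T R X : Subgroup G} {W : Submodule k V}

/-- A nonabelian 2-group has at least eight elements. -/
theorem comm_of_card_le_four {P : Type*} [Group P] [Finite P] (hP : IsPGroup 2 P) (h4 : Nat.card P ≤ 4)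
    (a b : P) : a * b = b * a := by
  haveI : Fact (Nat.Prime 2) := ⟨Nat.prime_two⟩
  obtain ⟨j, hj⟩ := hP.exists_card_eq
  have hj3 : j < 3 := by
    by_contra hc
    have := Nat.pow_le_pow_right (n := 2) two_pos (show 3 ≤ j by omega)
    omega
  interval_cases j
  · haveI : Subsingleton P := (Nat.card_eq_one_iff_unique.1 (by simpa using hj)).1
    exact Subsingleton.elim _ _
  · haveI : IsCyclic P := isCyclic_of_prime_card (p := 2) (by simpa using hj)
    obtain ⟨g, hg⟩ := IsCyclic.exists_generator (α := P)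
    obtain ⟨i, rfl⟩ := hg a
    obtain ⟨i', rfl⟩ := hg b
    exact ((Commute.refl g).zpow_zpow i i').eq
  · exact (IsPGroup.commGroupOfCardEqPrimeSq (p := 2) (G := P) hj).mul_comm a b

namespace IsExt

variable (h : IsExt ρ T R X W)

include h

theorem exists_moved {n : ℕ} (hfpf : ∀ x, (∀ a : T, (a : G) ∈ dser T n → bact h.toIsPre a x = x) → x = 1)
    {x : Bar R X} (hx : x ≠ 1) : ∃ a : T, (a : G) ∈ dser T n ∧ bact h.toIsPre a x ≠ x := by
  by_contra hc
  push Not at hc
  exact hx (hfpf x hc)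

/-- If the product through the derived subgroup vanishes, its elements square to the identity. -/
theorem sq_derived (hprod : prod ρ T W 2 = ⊥) {c : T} (hc : (c : G) ∈ dser T 1) :
    bact h.toIsPre (c * c) = 1 := by
  refine h.bact_of_triv fun w hw => ?_
  rw [prod_succ, aug_eq_bot] at hprod
  have h2 := hprod _ hc _ (mem_aug (ρ := ρ) (show (c : G) ∈ dser T 0 from c.2) hw)
  rw [map_sub] at h2
  rw [Subgroup.coe_mul, map_mul, Module.End.mul_apply]
  have h3 : ρ (c : G) (ρ (c : G) w) = ρ (c : G) w + (ρ (c : G) w - w) := by rw [← h2]; abel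
  rw [h3, ← add_sub_assoc, add_self_zero k, zero_sub, neg_eq_iff_add_eq_zero, add_self_zero k]

/-- An invariant isotropic subgroup is trivial. -/
theorem isotropic_trivial {n : ℕ}
    (hfpf : ∀ x, (∀ a : T, (a : G) ∈ dser T n → bact h.toIsPre a x = x) → x = 1)
    (hprod : prod ρ T W (n + 1) = ⊥) {I : Subgroup (Bar R X)}
    (hinv : ∀ t : T, (t : G) ∈ T → ∀ y ∈ I, bact h.toIsPre t y ∈ I)
    (hiso : ∀ a ∈ I, ∀ b ∈ I, pb ρ W a b = (1 : k)) {x : Bar R X} (hx : x ∈ I) : x = 1 := by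
  by_contra hx1
  obtain ⟨a, ha, hax⟩ := h.exists_moved hfpf hx1
  obtain ⟨RI, hRI⟩ : ∃ RI, RI = pre R X I := ⟨_, rfl⟩
  obtain ⟨Z, hZ⟩ : ∃ Z : Subgroup G, ∀ g, g ∈ Z ↔ g ∈ X ∧ sc ρ W g = (1 : k) :=
    ⟨{ carrier := {g | g ∈ X ∧ sc ρ W g = (1 : k)}
       one_mem' := ⟨one_mem X, h.sc_one⟩
       mul_mem' := fun {a b} ha hb => ⟨mul_mem ha.1 hb.1, by rw [h.sc_mul ha.1 hb.1, ha.2, hb.2, one_mul]⟩
       inv_mem' := fun {a} ha => ⟨inv_mem ha.1, by rw [h.sc_inv ha.1, ha.2, inv_one]⟩ }, fun _ => Iff.rfl⟩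
  have hle : ⁅RI, RI⁆ ≤ Z := Subgroup.commutator_le.2 fun r hr s hs => by
    obtain ⟨hrR, hr⟩ := mem_pre.1 (hRI ▸ hr)
    obtain ⟨hsR, hs⟩ := mem_pre.1 (hRI ▸ hs)
    refine (hZ _).2 ⟨h.toIsPre.comm_mem hrR hsR, ?_⟩
    show pair ρ W r s = 1
    rw [← h.pb_bar ⟨r, hrR⟩ ⟨s, hsR⟩]
    exact hiso _ hr _ hs
  have hcom : ∀ c ∈ ⁅RI, RI⁆, ∀ w ∈ W, ρ c w = w := fun c hc w hw => by
    obtain ⟨hcX, hc1⟩ := (hZ c).1 (hle hc)
    rw [h.sc_spec hcX w hw, hc1, one_smul]
  obtain ⟨r, rfl⟩ := QuotientGroup.mk'_surjective (barK R X) x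
  have hrI : (r : G) ∈ RI := hRI ▸ mem_pre.2 ⟨r.2, hx⟩
  obtain ⟨w, hw, hne⟩ : ∃ w ∈ W, ρ ⁅(r : G), (a : G)⁆ w ≠ w := by
    by_contra hall
    push Not at hall
    have h1 := (bar_eq_one h.toIsPre (r := ⟨_, h.commutator_mem_R r.2 a.2⟩)).2
      (h.mem_X_of_fix (h.commutator_mem_R r.2 a.2) hall)
    rw [h.bar_commutator, mul_inv_eq_one] at h1
    exact hax h1.symm
  refine prod_moved_ne_bot ρ h.hT (hRI ▸ le_normalizer_pre h.toIsPre le_rfl hinv)
    (Odd.of_dvd_nat h.hR (Subgroup.card_dvd_of_le (hRI ▸ pre_le I))) h.invT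
    (fun x hx => h.invR x ((hRI ▸ pre_le I : RI ≤ R) hx)) hcom ha hrI hw hne ?_
  exact le_bot_iff.1 (hprod ▸ prod_mono le_rfl inf_le_left _)

/-- A proper invariant subgroup gives a smaller configuration with one step and no room for its orthogonal
complement. -/
theorem no_invariant {n : ℕ} (hn : n ≠ 0)
    (hfpf : ∀ x, (∀ a : T, (a : G) ∈ dser T n → bact h.toIsPre a x = x) → x = 1)
    (hprod : prod ρ T W (n + 1) = ⊥)
    (ih : ∀ {R' : Subgroup G} {W' : Submodule k V}, Nat.card R' < Nat.card R → ∀ h' : IsExt ρ T R' X W',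
      (∀ x, (∀ a : T, (a : G) ∈ dser T n → bact h'.toIsPre a x = x) → x = 1) →
      (∃ x : Bar R' X, x ≠ 1) → prod ρ T W' (n + 1) = ⊥ → n = 1)
    {H : Subgroup (Bar R X)} (hinv : ∀ t, ∀ x ∈ H, bact h.toIsPre t x ∈ H) : H = ⊥ ∨ H = ⊤ := by
  by_contra hc
  push Not at hc
  obtain ⟨hH0, hH1⟩ := hc
  have hinvH : ∀ t : T, (t : G) ∈ T → ∀ x ∈ H, bact h.toIsPre t x ∈ H := fun t _ => hinv t
  have hinvK := h.orth_invariant hinvH
  have hK0 := h.orth_ne_bot hH1
  obtain ⟨K, hK⟩ : ∃ K, K = h.orth H := ⟨_, rfl⟩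
  rw [← hK] at hinvK hK0
  -- nondegenerate
  have hHK : ∀ x, x ∈ H → x ∈ K → x = 1 := fun x hxH hxK =>
    h.isotropic_trivial hfpf hprod (I := H ⊓ K) (fun t ht y hy => ⟨hinvH t ht y hy.1, hinvK t ht y hy.2⟩)
      (fun a ha b hb => h.mem_orth.1 (hK ▸ ha.2) b hb.1) (x := x) ⟨hxH, hxK⟩
  have hndH : ∀ a ∈ H, (∀ b ∈ H, pb ρ W a b = (1 : k)) → a = 1 := fun a ha hb =>
    hHK a ha (hK ▸ h.mem_orth.2 hb)
  -- the smaller configuration
  have hne0 : W ≠ ⊥ := h.hne
  obtain ⟨W₀, hW₀, h₀⟩ := exists_invariant_simple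
    (h.restrict hndH le_rfl hinvH le_rfl hne0 h.invT fun r hr => h.invR r (pre_le H hr)) hne0
  have hfix₀ : ∀ a : T, ∀ x, inc H (bact h₀.toIsPre a x) = bact h.toIsPre a (inc H x) := fun a x =>
    inc_bact h.toIsPre h₀.toIsPre a a.2 x
  have hfpf₀ : ∀ x, (∀ a : T, (a : G) ∈ dser T n → bact h₀.toIsPre a x = x) → x = 1 := fun x hx =>
    inc_injective h.toIsPre h₀.toIsPre ((hfpf _ fun a ha => by rw [← hfix₀, hx a ha]).trans (map_one _).symm)
  obtain ⟨y, hy, hy1⟩ : ∃ y, y ∈ H ∧ y ≠ 1 := by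
    obtain ⟨y, hy⟩ := Subgroup.ne_bot_iff_exists_ne_one.1 hH0
    exact ⟨y, y.2, fun e => hy (Subtype.ext e)⟩
  obtain ⟨y', hy'⟩ := exists_inc hy
  have hy'1 : y' ≠ 1 := fun e => hy1 (by rw [← hy', e, map_one])
  have hn1 := ih (card_pre_lt hH1) h₀ hfpf₀ ⟨y', hy'1⟩ (le_bot_iff.1 (hprod ▸ prod_mono le_rfl hW₀ _))
  subst hn1
  -- the intertwiners commute with `T`
  obtain ⟨a, ha, hmove⟩ := h₀.exists_moved hfpf₀ hy'1
  have hamove : ∃ w ∈ W₀, ρ (a : G) w ≠ w := by
    by_contra hall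
    push Not at hall
    exact hmove (by rw [h₀.bact_of_triv hall]; rfl)
  have hzero : ∀ m ∈ T, ∀ w ∈ W₀, ρ (a : G) (ρ m w - w) = ρ m w - w := fun m hm w hw => by
    have h2 := hprod
    rw [prod_succ, aug_eq_bot] at h2
    exact h2 _ ha _ (mem_aug (ρ := ρ) hm (hW₀ hw))
  have hcommute : ∀ Φ : W₀ →ₗ[k] V, (∀ w, Φ w ∈ W) → Intertwines ρ (pre R X H) W₀ Φ → ∀ m ∈ T,
      ∀ (w : W₀) (hw : ρ m w ∈ W₀), Φ ⟨ρ m w, hw⟩ = ρ m (Φ w) := by
    rcases h₀.commute_or_exists (U := W) h.invT (show (a : G) ∈ ⁅T, T⁆ from ha) hzero hamove with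
      h1 | ⟨Φ₀, -, -, -, -, w₁, hw₁, hw₁'⟩
    · exact h1
    · have : Φ₀ w₁ ∈ prod ρ T W (1 + 1) := hw₁'
      rw [hprod, Submodule.mem_bot] at this
      exact absurd this hw₁
  -- so `T` fixes the orthogonal complement
  have hndK : ∀ x ∈ K, (∀ b ∈ K, pb ρ W x b = (1 : k)) → x = 1 := fun x hx hb =>
    h.isotropic_trivial hfpf hprod (I := K ⊓ h.orth K)
      (fun t ht y hy => ⟨hinvK t ht y hy.1, h.orth_invariant hinvK t ht y hy.2⟩)
      (fun a ha b hb' => h.mem_orth.1 ha.2 b hb'.1) (x := x) ⟨hx, h.mem_orth.2 hb⟩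
  obtain ⟨w₀, W₂, hw₀, hW₂, h₂, hval⟩ :=
    h.partner (H := H) (fun x hx b hb => h.mem_orth.1 (hK ▸ hx) b hb) hndK le_rfl hinvK h₀ hW₀
  have htriv : ∀ t : T, bact h₂.toIsPre t = 1 := fun t => h₂.bact_of_triv fun w hw => by
    obtain ⟨Φ, hΦ, hΦ', rfl⟩ := hval w hw
    rw [← hcommute Φ hΦ hΦ' t t.2 w₀ (h₀.invT _ t.2 _ w₀.2)]
    congr 1
    exact Subtype.ext (hw₀ t t.2)
  obtain ⟨x, hx, hx1⟩ : ∃ y, y ∈ K ∧ y ≠ 1 := by
    obtain ⟨y, hy⟩ := Subgroup.ne_bot_iff_exists_ne_one.1 hK0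
    exact ⟨y, y.2, fun e => hy (Subtype.ext e)⟩
  obtain ⟨x', rfl⟩ := exists_inc hx
  refine hx1 (hfpf _ fun b _ => ?_)
  have e := inc_bact h.toIsPre h₂.toIsPre b b.2 x'
  rw [htriv] at e
  exact e.symm

/-- One side of a normal four group. -/
theorem four_half {n : ℕ} (hn : n ≠ 0)
    (hfpf : ∀ x, (∀ a : T, (a : G) ∈ dser T n → bact h.toIsPre a x = x) → x = 1)
    (hprod : prod ρ T W (n + 1) = ⊥)
    (ih : ∀ {R' : Subgroup G} {W' : Submodule k V}, Nat.card R' < Nat.card R →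
      ∀ h' : IsExt ρ (dser T 1) R' X W',
      (∀ x, (∀ a : (dser T 1 : Subgroup G), (a : G) ∈ dser (dser T 1) (n - 1) → bact h'.toIsPre a x = x) →
        x = 1) →
      (∃ x : Bar R' X, x ≠ 1) → prod ρ (dser T 1) W' (n - 1 + 1) = ⊥ →
        n - 1 = 1 ∧ Nat.card (Bar R' X) = 9)
    {TC : Subgroup G} (hTC : TC ≤ T) (hTC1 : dser T 1 ≤ TC) (b : T)
    (hb2 : bact h.toIsPre b * bact h.toIsPre b = 1) (hb1 : bact h.toIsPre b ≠ 1)
    (hTCb : ∀ t : T, (t : G) ∈ TC → bact h.toIsPre t * bact h.toIsPre b = bact h.toIsPre b * bact h.toIsPre t)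
    (hne : fixSub (bact h.toIsPre b) ≠ ⊥) :
    n = 2 ∧ (∀ a ∈ fixSub (bact h.toIsPre b), (∀ c ∈ fixSub (bact h.toIsPre b), pb ρ W a c = (1 : k)) → a = 1) ∧
      ∃ W₀ ≤ W, W₀ ≤ aug ρ T W ∧ ∃ h₀ : IsExt ρ TC (pre R X (fixSub (bact h.toIsPre b))) X W₀,
        Nat.card (Bar (pre R X (fixSub (bact h.toIsPre b))) X) = 9 := by
  obtain ⟨H, hH⟩ : ∃ H, H = fixSub (bact h.toIsPre b) := ⟨_, rfl⟩
  rw [← hH] at hne ⊢
  have hnd : ∀ a ∈ H, (∀ c ∈ H, pb ρ W a c = (1 : k)) → a = 1 := by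
    intro a ha hall
    refine h.pb_nd fun c => ?_
    obtain ⟨c₁, c₂, hc₁, hc₂, rfl⟩ := exists_split (odd_bar h.toIsPre) _ hb2 c
    rw [h.pb_mul_right, hall c₁ (hH ▸ mem_fixSub.2 hc₁), one_mul]
    refine h.pb_eq_one_of_sq ?_
    rw [pow_two]
    nth_rewrite 1 [← h.pb_bact b a c₂]
    rw [mem_fixSub.1 (hH ▸ ha), hc₂, ← h.pb_mul_right, inv_mul_cancel, h.pb_one_right]
  have hinv : ∀ t : T, (t : G) ∈ TC → ∀ x ∈ H, bact h.toIsPre t x ∈ H := fun t ht x hx => by
    rw [hH, mem_fixSub] at hx ⊢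
    rw [← MulAut.mul_apply, ← hTCb t ht, MulAut.mul_apply, hx]
  obtain ⟨Wp, hWp⟩ : ∃ Wp, Wp = W.map (ρ (b : G) - 1) := ⟨_, rfl⟩
  have hmem : ∀ {v}, v ∈ Wp ↔ ∃ w ∈ W, ρ (b : G) w - w = v := fun {v} => by
    rw [hWp, Submodule.mem_map]; rfl
  have hWpW : Wp ≤ W := fun v hv => by
    obtain ⟨w, hw, rfl⟩ := hmem.1 hv
    exact W.sub_mem (h.invT _ b.2 w hw) hw
  have hWpA : Wp ≤ aug ρ T W := fun v hv => by
    obtain ⟨w, hw, rfl⟩ := hmem.1 hv
    exact mem_aug b.2 hw
  have hWp0 : Wp ≠ ⊥ := fun h0 => hb1 (h.bact_of_triv fun w hw => by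
    have : ρ (b : G) w - w ∈ Wp := hmem.2 ⟨w, hw, rfl⟩
    rw [h0, Submodule.mem_bot] at this
    exact sub_eq_zero.1 this)
  have hpT : ∀ t ∈ TC, ∀ v ∈ Wp, ρ t v ∈ Wp := fun t ht v hv => by
    obtain ⟨w, hw, rfl⟩ := hmem.1 hv
    refine hmem.2 ⟨ρ t w, h.invT t (hTC ht) w hw, ?_⟩
    have e := h.apply_of_bact_eq (s := b * ⟨t, hTC ht⟩) (t := ⟨t, hTC ht⟩ * b)
      (by rw [map_mul, map_mul, hTCb ⟨t, hTC ht⟩ ht]) w hw
    simp only [Subgroup.coe_mul, map_mul, Module.End.mul_apply] at e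
    rw [map_sub, e]
  have hpR : ∀ r ∈ pre R X H, ∀ v ∈ Wp, ρ r v ∈ Wp := fun r hr v hv => by
    obtain ⟨w, hw, rfl⟩ := hmem.1 hv
    obtain ⟨hrR, hr⟩ := mem_pre.1 hr
    refine hmem.2 ⟨ρ r w, h.invR r hrR w hw, ?_⟩
    rw [map_sub, h.apply_comm (r := ⟨r, hrR⟩) (mem_fixSub.1 (hH ▸ hr)) w hw]
  obtain ⟨W₀, hW₀, h₀⟩ := exists_invariant_simple (h.restrict hnd hTC hinv hWpW hWp0 hpT hpR) hWp0
  have h₁ := h₀.restrictT hTC1
  have hfpf₁ : ∀ x, (∀ a : (dser T 1 : Subgroup G), (a : G) ∈ dser (dser T 1) (n - 1) →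
      bact h₁.toIsPre a x = x) → x = 1 := fun x hx =>
    inc_injective h.toIsPre h₁.toIsPre ((hfpf _ fun a ha => by
      have ha' : (a : G) ∈ dser T 1 := dser_anti T (Nat.one_le_iff_ne_zero.2 hn) ha
      have e := hx ⟨a, ha'⟩ (by rw [dser_dser, show 1 + (n - 1) = n by omega]; exact ha)
      conv_rhs => rw [← e]
      exact (inc_bact h.toIsPre h₁.toIsPre ⟨a, ha'⟩ a.2 x).symm).trans (map_one _).symm)
  have hx1 : ∃ x : Bar (pre R X H) X, x ≠ 1 := by
    obtain ⟨y, hy⟩ := Subgroup.ne_bot_iff_exists_ne_one.1 hne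
    obtain ⟨x, hx⟩ := exists_inc y.2
    exact ⟨x, fun e => hy (Subtype.ext (by rw [← hx, e, map_one]; rfl))⟩
  have hH1 : H ≠ ⊤ := fun ht => hb1 (MulEquiv.ext fun x => mem_fixSub.1 (hH ▸ ht ▸ Subgroup.mem_top x))
  have hprod₁ : prod ρ (dser T 1) W₀ (n - 1 + 1) = ⊥ := le_bot_iff.1 (by
    rw [show n - 1 + 1 = n by omega]
    refine (prod_mono le_rfl (hW₀.trans hWpA) n).trans ?_
    rw [← hprod, Nat.add_comm n 1, prod_shift]
    exact le_rfl)
  obtain ⟨e1, e2⟩ := ih (card_pre_lt hH1) h₁ hfpf₁ hx1 hprod₁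
  exact ⟨by omega, hnd, W₀, hW₀.trans hWpW, hW₀.trans hWpA, h₀, e2⟩

/-- Two planes swapped by a four group are impossible. -/
theorem four_false {H K : Subgroup (Bar R X)}
    (hfpf : ∀ x, (∀ a : T, (a : G) ∈ dser T 2 → bact h.toIsPre a x = x) → x = 1)
    (hprod : prod ρ T W 3 = ⊥) {TC : Subgroup G} (hTC : TC ≤ T) (hTC1 : dser T 1 ≤ TC)
    (hinvK : ∀ t : T, (t : G) ∈ TC → ∀ x ∈ K, bact h.toIsPre t x ∈ K)
    (horth : ∀ a ∈ K, ∀ b ∈ H, pb ρ W a b = (1 : k))
    (hnd : ∀ a ∈ K, (∀ b ∈ K, pb ρ W a b = (1 : k)) → a = 1)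
    {W₀ : Submodule k V} (hW₀ : W₀ ≤ W) (hW₀A : W₀ ≤ aug ρ T W)
    (h₀ : IsExt ρ TC (pre R X H) X W₀) (h9 : Nat.card (Bar (pre R X H) X) = 9)
    (hK9 : Nat.card K = 9) {m : T} (hm : (m : G) ∈ TC) (hmH : ∀ x ∈ H, bact h.toIsPre m x = x) :
    ∀ x ∈ K, bact h.toIsPre (m * m) x = x := by
  classical
  obtain ⟨w₀, W₂, hw₀, hW₂, h₂, hval⟩ := h.partner horth hnd hTC hinvK h₀ hW₀
  have h92 : Nat.card (Bar (pre R X K) X) = 9 := (card_inc h.toIsPre h₂.toIsPre).trans hK9
  obtain ⟨B, hB⟩ : ∃ B, B = dser T 1 := ⟨_, rfl⟩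
  rw [← hB] at hTC1
  have hBT : B ≤ T := hB ▸ dser_le T 1
  have hBB : ⁅B, B⁆ = dser T 2 := by rw [hB]; rfl
  have hh₁ := h₀.restrictT hTC1
  -- an element of the second derived subgroup moving `H`
  haveI : Nontrivial (Bar (pre R X H) X) := Finite.one_lt_card_iff_nontrivial.1 (by omega)
  obtain ⟨y, hy⟩ := _root_.exists_ne (1 : Bar (pre R X H) X)
  obtain ⟨a, ha, hay⟩ := h.exists_moved hfpf
    (x := inc H y) (fun e => hy (inc_injective h.toIsPre h₀.toIsPre (e.trans (map_one _).symm)))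
  have haB : (a : G) ∈ B := hB ▸ dser_anti T (by norm_num) ha
  have hamove : ∃ w ∈ W₀, ρ (a : G) w ≠ w := by
    by_contra hall
    push Not at hall
    refine hay ?_
    have e := inc_bact h.toIsPre hh₁.toIsPre ⟨a, haB⟩ a.2 y
    rw [hh₁.bact_of_triv hall, MulAut.one_apply] at e
    exact e.symm
  have h3 := hprod
  rw [prod_succ, aug_eq_bot] at h3
  have hzero : ∀ n ∈ B, ∀ w ∈ W₀, ρ (a : G) (ρ n w - w) = ρ n w - w := fun n hn w hw =>
    h3 _ ha _ (mem_aug (ρ := ρ) (hB ▸ hn) (hW₀A hw))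
  -- intertwiners into the augmentation commute with the derived subgroup
  have hcommute : ∀ Φ : W₀ →ₗ[k] V, (∀ w, Φ w ∈ aug ρ T W) → Intertwines ρ (pre R X H) W₀ Φ →
      ∀ n ∈ B, ∀ (w : W₀) (hw : ρ n w ∈ W₀), Φ ⟨ρ n w, hw⟩ = ρ n (Φ w) := by
    have hUT : ∀ t ∈ B, ∀ v ∈ aug ρ T W, ρ t v ∈ aug ρ T W := fun t ht =>
      aug_invariant (Subgroup.le_normalizer (hBT ht)) (h.invT t (hBT ht))
    rcases hh₁.commute_or_exists (U := aug ρ T W) hUT (show (a : G) ∈ ⁅B, B⁆ from hBB ▸ ha) hzero hamove with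
      h1 | ⟨Φ₀, -, -, -, -, w₁, hw₁, hw₁'⟩
    · exact h1
    · have : Φ₀ w₁ ∈ prod ρ T W 3 := by
        rw [hBB, hB] at hw₁'
        exact hw₁'
      rw [hprod, Submodule.mem_bot] at this
      exact absurd this hw₁
  -- the derived subgroup induces every automorphism of the plane `K`
  obtain ⟨n, hnB, hn⟩ : ∃ n : TC, (n : G) ∈ B ∧ bact h₂.toIsPre n = bact h₂.toIsPre ⟨m, hm⟩ := by
    obtain ⟨P, hP⟩ : ∃ P, P = (bact h₂.toIsPre).range := ⟨_, rfl⟩
    obtain ⟨PB, hPB⟩ : ∃ PB, PB = (B.subgroupOf TC).map (bact h₂.toIsPre) := ⟨_, rfl⟩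
    have hle : PB ≤ P := hP ▸ hPB ▸ Subgroup.map_le_range _ _
    have heq : PB = P := by
      by_contra hne
      have h8 : Nat.card P ≤ 8 := hP ▸ h₂.plane_card_le h92
      have hlt : Nat.card PB ≤ 4 := by
        have h2 : 2 ≤ (PB.subgroupOf P).index := by
          by_contra hlt
          have h0 := (PB.subgroupOf P).index_ne_zero_of_finite
          have h1 : (PB.subgroupOf P).index = 1 := by omega
          rw [Subgroup.index_eq_one, Subgroup.subgroupOf_eq_top] at h1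
          exact hne (le_antisymm hle h1)
        have e := (PB.subgroupOf P).card_mul_index
        rw [Nat.card_congr (Subgroup.subgroupOfEquivOfLe hle).toEquiv] at e
        nlinarith
      have hPB2 : IsPGroup 2 PB := hPB ▸ ((h.hT.to_le hTC).to_subgroup _).map _
      have hcom := comm_of_card_le_four hPB2 hlt
      haveI : Nontrivial (Bar (pre R X K) X) := Finite.one_lt_card_iff_nontrivial.1 (by omega)
      obtain ⟨x, hx⟩ := _root_.exists_ne (1 : Bar (pre R X K) X)
      refine hx (inc_injective h.toIsPre h₂.toIsPre ((hfpf _ fun c hc => ?_).trans (map_one _).symm))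
      have hle2 : dser T 2 ≤ (bact h₂.toIsPre).ker.map TC.subtype := by
        rw [← hBB, Subgroup.commutator_le]
        intro p hp q hq
        refine ⟨⁅(⟨p, hTC1 hp⟩ : ↥TC), (⟨q, hTC1 hq⟩ : ↥TC)⁆, MonoidHom.mem_ker.2 ?_, rfl⟩
        rw [map_commutatorElement, commutatorElement_eq_one_iff_mul_comm]
        have hi : ∀ r, ∀ hr : r ∈ B, bact h₂.toIsPre ⟨r, hTC1 hr⟩ ∈ PB := fun r hr =>
          hPB ▸ ⟨⟨r, hTC1 hr⟩, hr, rfl⟩
        exact congrArg Subtype.val (hcom ⟨_, hi p hp⟩ ⟨_, hi q hq⟩)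
      obtain ⟨c', hc', hcc⟩ := hle2 hc
      have e := inc_bact h.toIsPre h₂.toIsPre c' (hTC c'.2) x
      rw [MonoidHom.mem_ker.1 hc', MulAut.one_apply] at e
      conv_rhs => rw [e]
      congr 2
      exact Subtype.ext hcc.symm
    have hmP : bact h₂.toIsPre ⟨m, hm⟩ ∈ PB := heq ▸ hP ▸ ⟨_, rfl⟩
    rw [hPB] at hmP
    obtain ⟨n, hn, hn'⟩ := hmP
    exact ⟨n, hn, hn'⟩
  -- so that element squares to the identity on `W₂`
  have hsq : bact h₂.toIsPre (n * n) = 1 := h₂.bact_of_triv fun w hw => by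
    obtain ⟨Φ, hΦ, hΦ', hΦw⟩ := hval w hw
    obtain ⟨Ψ, hΨ⟩ : ∃ Ψ : W₀ →ₗ[k] V, ∀ v, Ψ v = ρ (m : G) (Φ v) - Φ v :=
      ⟨(ρ (m : G)).comp Φ - Φ, fun _ => rfl⟩
    have hΨ' : Intertwines ρ (pre R X H) W₀ Ψ := fun r hr v hv => by
      obtain ⟨hrR, hrH⟩ := mem_pre.1 hr
      rw [hΨ, hΨ, hΦ' r hr v hv, map_sub, h.apply_comm (r := ⟨r, hrR⟩) (hmH _ hrH) _ (hΦ v)]
    have e := hcommute Ψ (fun v => by rw [hΨ]; exact mem_aug m.2 (hΦ v)) hΨ' n hnB w₀
      (h₀.invT _ n.2 _ w₀.2)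
    rw [show (⟨ρ (n : G) (w₀ : V), h₀.invT _ n.2 _ w₀.2⟩ : W₀) = w₀ from Subtype.ext (hw₀ _ n.2), hΨ, hΦw,
      show ρ (m : G) w = ρ (n : G) w from (h₂.apply_of_bact_eq hn w hw).symm, map_sub] at e
    rw [Subgroup.coe_mul, map_mul, Module.End.mul_apply]
    have h4 : ρ (n : G) (ρ (n : G) w) = ρ (n : G) w + (ρ (n : G) w - w) := by
      conv_rhs => arg 2; rw [e]
      abel
    rw [h4, ← add_sub_assoc, add_self_zero k, zero_sub, neg_eq_iff_add_eq_zero, add_self_zero k]
  intro x hx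
  obtain ⟨x', rfl⟩ := exists_inc hx
  have e := inc_bact h.toIsPre h₂.toIsPre (⟨m, hm⟩ * ⟨m, hm⟩ : TC) (mul_mem m.2 m.2) x'
  rw [map_mul, ← hn, ← map_mul, hsq, MulAut.one_apply] at e
  exact e.symm

/-- The irreducible case. -/
theorem key_step {n : ℕ} (hn : n ≠ 0)
    (hfpf : ∀ x, (∀ a : T, (a : G) ∈ dser T n → bact h.toIsPre a x = x) → x = 1)
    (hne : ∃ x : Bar R X, x ≠ 1) (hprod : prod ρ T W (n + 1) = ⊥)
    (ih : ∀ {T' R' : Subgroup G} {W' : Submodule k V} {n' : ℕ}, Nat.card R' < Nat.card R →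
      ∀ h' : IsExt ρ T' R' X W',
      (∀ x, (∀ a : T', (a : G) ∈ dser T' n' → bact h'.toIsPre a x = x) → x = 1) →
      (∃ x : Bar R' X, x ≠ 1) → prod ρ T' W' (n' + 1) = ⊥ → n' = 1 ∧ Nat.card (Bar R' X) = 9) :
    n = 1 ∧ Nat.card (Bar R X) = 9 := by
  classical
  haveI : Fact (Nat.Prime 2) := ⟨Nat.prime_two⟩
  have hirr : ∀ H : Subgroup (Bar R X), (∀ t, ∀ x ∈ H, bact h.toIsPre t x ∈ H) → H = ⊥ ∨ H = ⊤ :=
    fun H hinv => h.no_invariant hn hfpf hprod (fun hlt h' hf hx hp => (ih hlt h' hf hx hp).1) hinv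
  obtain ⟨Q, hQ⟩ : ∃ Q, Q = bact h.toIsPre := ⟨_, rfl⟩
  rw [← hQ] at hfpf hirr
  obtain ⟨f, hf⟩ : ∃ f : ↥T →* Q.range, ∀ t, (f t : MulAut (Bar R X)) = Q t :=
    ⟨Q.rangeRestrict, fun _ => rfl⟩
  have hfs : Function.Surjective f := fun p => by
    obtain ⟨t, ht⟩ := p.2
    exact ⟨t, Subtype.ext ((hf t).trans ht)⟩
  have hP : IsPGroup 2 Q.range := h.hT.of_surjective f hfs
  have hdser : ∀ m (t : T), (t : G) ∈ dser T m → f t ∈ dser (⊤ : Subgroup Q.range) m := by
    intro m t ht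
    have e1 := map_dser T.subtype (⊤ : Subgroup T) m
    rw [← MonoidHom.range_eq_map, Subgroup.range_subtype] at e1
    have e2 := map_dser f (⊤ : Subgroup T) m
    rw [← MonoidHom.range_eq_map, MonoidHom.range_eq_top.2 hfs] at e2
    obtain ⟨t', ht', hte⟩ := e1.symm ▸ ht
    rw [← e2]
    exact ⟨t', ht', by rw [Subtype.ext hte]⟩
  obtain ⟨x₀, hx₀⟩ := hne
  -- the central involution
  obtain ⟨a, ha, ha'⟩ : ∃ a : T, (a : G) ∈ dser T 1 ∧ ∀ x, Q a x = x⁻¹ := by
    obtain ⟨M, hM⟩ : ∃ M, M = ((dser T n).subgroupOf T).map f := ⟨_, rfl⟩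
    haveI : ((dser T n).subgroupOf T).Normal :=
      Subgroup.normal_subgroupOf_of_le_normalizer (le_normalizer_dser T n)
    haveI : M.Normal := hM ▸ Subgroup.Normal.map inferInstance f hfs
    haveI : Nontrivial M := by
      obtain ⟨a, ha, hax⟩ : ∃ a : T, (a : G) ∈ dser T n ∧ Q a x₀ ≠ x₀ := by
        by_contra hc
        push Not at hc
        exact hx₀ (hfpf _ hc)
      refine Finite.one_lt_card_iff_nontrivial.1 (Finite.one_lt_card_iff_nontrivial.2
        (nontrivial_of_ne (⟨f a, hM ▸ ⟨a, ha, rfl⟩⟩ : M) 1 fun e => hax ?_))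
      rw [← hf, show f a = 1 from congrArg Subtype.val e]
      rfl
    obtain ⟨p, hpM, hpc, hp1⟩ := Perm.exists_ne_one_center hP M
    obtain ⟨p', hp', hp'M, hp'c⟩ : ∃ p' : Q.range, orderOf p' = 2 ∧ p' ∈ M ∧ p' ∈ Subgroup.center Q.range := by
      obtain ⟨j, hj⟩ := IsPGroup.iff_orderOf.1 hP p
      have hj0 : j ≠ 0 := fun e => hp1 (orderOf_eq_one_iff.1 (by rw [hj, e, pow_zero]))
      refine ⟨p ^ 2 ^ (j - 1), ?_, pow_mem hpM _, pow_mem hpc _⟩
      rw [orderOf_pow_of_dvd (by positivity) (hj ▸ pow_dvd_pow 2 (Nat.sub_le j 1)), hj,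
        Nat.pow_div (Nat.sub_le j 1) two_pos, show j - (j - 1) = 1 by omega, pow_one]
    obtain ⟨t, ht, rfl⟩ := hM ▸ hp'M
    refine ⟨t, dser_anti T (Nat.one_le_iff_ne_zero.2 hn) ht, fun x => ?_⟩
    have h2 : Q t * Q t = 1 := by
      have := pow_orderOf_eq_one (f t)
      rw [hp', pow_two] at this
      rw [← hf, ← Subgroup.coe_mul, this]; rfl
    have hcomm : ∀ s, Q s * Q t = Q t * Q s := fun s => by
      rw [← hf, ← hf]; exact congrArg Subtype.val (Subgroup.mem_center_iff.1 hp'c (f s))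
    refine inv_of_no_fixed (odd_bar h.toIsPre) h2 (fun y hy => ?_) x
    rcases hirr (fixSub (Q t)) (fun s y hy => by
        rw [mem_fixSub] at hy ⊢
        rw [← MulAut.mul_apply, ← hcomm, MulAut.mul_apply, hy]) with hb | ht'
    · exact Subgroup.mem_bot.1 (hb ▸ (mem_fixSub.2 hy : y ∈ fixSub (Q t)))
    · exfalso
      have h1 : f t = 1 := Subtype.ext (MulEquiv.ext fun y => by
        rw [hf]; exact mem_fixSub.1 (ht' ▸ Subgroup.mem_top y))
      rw [h1, orderOf_one] at hp'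
      omega
  obtain ⟨z, hz⟩ : ∃ z, z = Q a := ⟨_, rfl⟩
  have hzx : ∀ x, z x = x⁻¹ := fun x => hz ▸ ha' x
  have hzc : ∀ σ : MulAut (Bar R X), σ * z = z * σ := fun σ => MulEquiv.ext fun x => by
    rw [MulAut.mul_apply, MulAut.mul_apply, hzx, hzx, map_inv]
  have hzz : z * z = 1 := MulEquiv.ext fun x => by rw [MulAut.mul_apply, hzx, hzx, inv_inv, MulAut.one_apply]
  have hz1 : z ≠ 1 := fun e => hx₀ (eq_one_of_pow_two (odd_bar h.toIsPre) (by
    have h' := hzx x₀
    rw [e, MulAut.one_apply] at h'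
    rw [pow_two]; nth_rewrite 2 [h']; exact mul_inv_cancel x₀))
  by_cases hfour : HasFour Q.range
  · -- a normal four group
    obtain ⟨V4, hV4n, hV4c, hV4s⟩ := hfour
    haveI := hV4n
    have hcentralInv : ∀ p : Q.range, p * p = 1 → p ≠ 1 → p ∈ Subgroup.center Q.range → p = f a := by
      intro p hp hp1 hpc
      obtain ⟨t, rfl⟩ := hfs p
      refine Subtype.ext ?_
      rw [hf, hf, ← hz]
      have h2 : Q t * Q t = 1 := by rw [← hf, ← Subgroup.coe_mul, hp]; rfl
      refine MulEquiv.ext fun x => ?_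
      rw [hzx]
      refine inv_of_no_fixed (odd_bar h.toIsPre) h2 (fun y hy => ?_) x
      rcases hirr (fixSub (Q t)) (fun s y hy => by
          rw [mem_fixSub] at hy ⊢
          have e : Q s * Q t = Q t * Q s := by
            rw [← hf, ← hf]; exact congrArg Subtype.val (Subgroup.mem_center_iff.1 hpc (f s))
          rw [← MulAut.mul_apply, ← e, MulAut.mul_apply, hy]) with hb | ht'
      · exact Subgroup.mem_bot.1 (hb ▸ (mem_fixSub.2 hy : y ∈ fixSub (Q t)))
      · exact absurd (Subtype.ext (MulEquiv.ext fun y => by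
          rw [hf]; exact mem_fixSub.1 (ht' ▸ Subgroup.mem_top y))) hp1
    haveI : Nontrivial V4 := Finite.one_lt_card_iff_nontrivial.1 (by omega)
    obtain ⟨p, hp, hpc, hp1⟩ := Perm.exists_ne_one_center hP V4
    have hzV : f a ∈ V4 := hcentralInv p (hV4s p hp) hp1 hpc ▸ hp
    obtain ⟨q, hqV, hq⟩ : ∃ q ∈ V4, q ∉ ({1, f a} : Finset Q.range) := by
      by_contra hc
      push Not at hc
      haveI := Fintype.ofFinite V4
      have h1 : (Finset.univ : Finset V4).map ⟨Subtype.val, Subtype.val_injective⟩ ⊆ {1, f a} := fun y hy => by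
        obtain ⟨y', -, rfl⟩ := Finset.mem_map.1 hy
        exact hc y' y'.2
      have h2 := (Finset.card_le_card h1).trans Finset.card_le_two
      rw [Finset.card_map, Finset.card_univ, ← Nat.card_eq_fintype_card, hV4c] at h2
      omega
    simp only [Finset.mem_insert, Finset.mem_singleton, not_or] at hq
    obtain ⟨b, rfl⟩ := hfs q
    obtain ⟨β, hβ⟩ : ∃ β, β = Q b := ⟨_, rfl⟩
    have hβ2 : β * β = 1 := by rw [hβ, ← hf, ← Subgroup.coe_mul, hV4s _ hqV]; rfl
    have hβ1 : β ≠ 1 := fun e => hq.1 (Subtype.ext (by rw [hf, ← hβ, e]; rfl))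
    have hβz : β ≠ z := fun e => hq.2 (Subtype.ext (by rw [hf, hf, ← hβ, e, hz]))
    have hfa1 : f a ≠ 1 := fun e => hz1 (by rw [hz, ← hf, e]; rfl)
    have hV4mem : ∀ v ∈ V4, v = 1 ∨ v = f a ∨ v = f b ∨ v = f a * f b := by
      intro v hv
      by_contra hnot
      push Not at hnot
      haveI := Fintype.ofFinite V4
      have h1 : ({v, 1, f a, f b, f a * f b} : Finset Q.range) ⊆
          (Finset.univ : Finset V4).map ⟨Subtype.val, Subtype.val_injective⟩ := by
        intro y hy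
        refine Finset.mem_map.2 ⟨⟨y, ?_⟩, Finset.mem_univ _, rfl⟩
        simp only [Finset.mem_insert, Finset.mem_singleton] at hy
        rcases hy with rfl | rfl | rfl | rfl | rfl
        exacts [hv, one_mem _, hzV, hqV, mul_mem hzV hqV]
      have h2 := Finset.card_le_card h1
      have h5 : ({v, 1, f a, f b, f a * f b} : Finset Q.range).card = 5 := by
        rw [Finset.card_insert_of_notMem, Finset.card_insert_of_notMem, Finset.card_insert_of_notMem,
          Finset.card_pair]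
        · exact fun e => hfa1 (mul_eq_right.1 e.symm)
        · simp only [Finset.mem_insert, Finset.mem_singleton, not_or]
          exact ⟨fun e => hq.2 e.symm, fun e => hq.1 (mul_eq_left.1 e.symm)⟩
        · simp only [Finset.mem_insert, Finset.mem_singleton, not_or]
          refine ⟨hfa1.symm, fun e => hq.1 e.symm, fun e => hq.2 ?_⟩
          have e2 : f a * f a = 1 := hV4s _ hzV
          calc f b = f a * (f a * f b) := by rw [← mul_assoc, e2, one_mul]
            _ = f a := by rw [← e, mul_one]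
        · simp only [Finset.mem_insert, Finset.mem_singleton, not_or]
          exact hnot
      rw [h5, Finset.card_map, Finset.card_univ, ← Nat.card_eq_fintype_card, hV4c] at h2
      omega
    have hconj : ∀ s : T, Q s * β * (Q s)⁻¹ = β ∨ Q s * β * (Q s)⁻¹ = z * β := by
      intro s
      rw [hβ, hz]
      rcases hV4mem _ (hV4n.conj_mem _ hqV (f s)) with e | e | e | e
      · exact absurd (conj_eq_one_iff.1 e) hq.1
      · refine absurd ?_ hq.2
        have e3 : f a * f s = f s * f a := Subtype.ext (by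
          rw [Subgroup.coe_mul, Subgroup.coe_mul, hf, hf, ← hz, ← hzc])
        rw [mul_inv_eq_iff_eq_mul, e3] at e
        exact mul_left_cancel e
      · left; simpa only [Subgroup.coe_mul, InvMemClass.coe_inv, hf] using congrArg Subtype.val e
      · right; simpa only [Subgroup.coe_mul, InvMemClass.coe_inv, hf] using congrArg Subtype.val e
    obtain ⟨TC, hTCdef⟩ : ∃ TC : Subgroup G,
        TC = ((Subgroup.centralizer {β}).comap Q).map T.subtype := ⟨_, rfl⟩
    have hTC : TC ≤ T := hTCdef ▸ Subgroup.map_subtype_le _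
    have hTCmem : ∀ t : T, (t : G) ∈ TC ↔ Q t * β = β * Q t := fun t => by
      rw [hTCdef]
      refine ⟨?_, fun ht => ⟨t, Subgroup.mem_centralizer_singleton_iff.2 ht, rfl⟩⟩
      rintro ⟨t', ht', e⟩
      obtain rfl : t' = t := Subtype.ext e
      exact Subgroup.mem_centralizer_singleton_iff.1 ht'
    have hTC1 : dser T 1 ≤ TC := by
      rw [dser_succ, dser_zero, Subgroup.commutator_le]
      intro p hp q hq'
      refine (hTCmem ⁅(⟨p, hp⟩ : ↥T), (⟨q, hq'⟩ : ↥T)⁆).2 ?_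
      have hsign : ∀ t : T, ∃ e : MulAut (Bar R X), (∀ π, π * e = e * π) ∧ e * e = 1 ∧
          Q t * β * (Q t)⁻¹ = e * β ∧ (Q t)⁻¹ * β * Q t = e * β := by
        intro t
        obtain ⟨e, he, he2, e1⟩ : ∃ e : MulAut (Bar R X), (∀ π, π * e = e * π) ∧ e * e = 1 ∧
            Q t * β * (Q t)⁻¹ = e * β := by
          rcases hconj t with h' | h'
          · exact ⟨1, fun π => by rw [mul_one, one_mul], one_mul 1, by rw [h', one_mul]⟩
          · exact ⟨z, hzc, hzz, h'⟩
        refine ⟨e, he, he2, e1, ?_⟩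
        have e2 : β = e * (Q t * β * (Q t)⁻¹) := by rw [e1, ← mul_assoc, he2, one_mul]
        calc (Q t)⁻¹ * β * Q t = (Q t)⁻¹ * (e * (Q t * β * (Q t)⁻¹)) * Q t := by rw [← e2]
          _ = e * ((Q t)⁻¹ * (Q t * β * (Q t)⁻¹) * Q t) := by
            rw [← mul_assoc ((Q t)⁻¹) e, he, mul_assoc e, mul_assoc e]
          _ = e * β := by group
      obtain ⟨e, he, hee, e1, e1'⟩ := hsign ⟨p, hp⟩
      obtain ⟨e', he', hee', e2, e2'⟩ := hsign ⟨q, hq'⟩
      rw [← mul_inv_eq_iff_eq_mul, map_commutatorElement, commutatorElement_def]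
      obtain ⟨σ, hσ⟩ : ∃ σ, σ = Q ⟨p, hp⟩ := ⟨_, rfl⟩
      obtain ⟨τ, hτ⟩ : ∃ τ, τ = Q ⟨q, hq'⟩ := ⟨_, rfl⟩
      rw [← hσ] at e1 e1' ⊢
      rw [← hτ] at e2 e2' ⊢
      calc σ * τ * σ⁻¹ * τ⁻¹ * β * (σ * τ * σ⁻¹ * τ⁻¹)⁻¹
          = σ * (τ * (σ⁻¹ * (τ⁻¹ * β * τ) * σ) * τ⁻¹) * σ⁻¹ := by group
        _ = β := by
          rw [e2', ← mul_assoc σ⁻¹ e', he', mul_assoc e', mul_assoc e', e1',
            ← mul_assoc τ e', he', mul_assoc e', ← mul_assoc τ e, he, mul_assoc e, mul_assoc e',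
            mul_assoc e, e2, ← mul_assoc σ e', he', mul_assoc e', ← mul_assoc σ e, he, mul_assoc e,
            ← mul_assoc σ e', he', mul_assoc e', mul_assoc e', mul_assoc e, mul_assoc e', e1,
            ← mul_assoc e e', he' e, mul_assoc e', ← mul_assoc e e, hee, one_mul, ← mul_assoc, hee', one_mul]
    have hβfix : fixSub β ≠ ⊥ := fun hb => hβz (MulEquiv.ext fun x => by
      rw [hzx]
      exact inv_of_no_fixed (odd_bar h.toIsPre) hβ2
        (fun y hy => Subgroup.mem_bot.1 (hb ▸ (mem_fixSub.2 hy : y ∈ fixSub β))) x)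
    obtain ⟨b', hb'⟩ : ∃ b' : T, Q b' = z * β := ⟨a * b, by rw [map_mul, ← hz, ← hβ]⟩
    have hβ'2 : Q b' * Q b' = 1 := by
      rw [hb', mul_assoc, ← mul_assoc β, hzc, mul_assoc, hβ2, mul_one, hzz]
    have hfix' : ∀ x, x ∈ fixSub (Q b') ↔ β x = x⁻¹ := fun x => by
      rw [mem_fixSub, hb', MulAut.mul_apply, hzx, inv_eq_iff_eq_inv]
    have hβ'1 : Q b' ≠ 1 := fun e => hβz (by
      rw [hb'] at e
      calc β = z * (z * β) := by rw [← mul_assoc, hzz, one_mul]
        _ = z := by rw [e, mul_one])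
    have hβ'fix : fixSub (Q b') ≠ ⊥ := fun hb => hβ1 (MulEquiv.ext fun x => by
      have := inv_of_no_fixed (odd_bar h.toIsPre) hβ'2
        (fun y hy => Subgroup.mem_bot.1 (hb ▸ (mem_fixSub.2 hy : y ∈ fixSub (Q b')))) x
      rw [hb', MulAut.mul_apply, hzx, inv_inj] at this
      exact this)
    subst hQ
    have hih : ∀ {R' : Subgroup G} {W' : Submodule k V}, Nat.card R' < Nat.card R →
        ∀ h' : IsExt ρ (dser T 1) R' X W',
        (∀ x, (∀ c : (dser T 1 : Subgroup G), (c : G) ∈ dser (dser T 1) (n - 1) → bact h'.toIsPre c x = x) →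
          x = 1) →
        (∃ x : Bar R' X, x ≠ 1) → prod ρ (dser T 1) W' (n - 1 + 1) = ⊥ →
          n - 1 = 1 ∧ Nat.card (Bar R' X) = 9 := fun hlt h' h1 h2 h3 => ih hlt h' h1 h2 h3
    obtain ⟨hn2, hndH, W₀, hW₀, hW₀A, h₀, h9⟩ := h.four_half hn hfpf hprod hih hTC hTC1 b (hβ ▸ hβ2)
      (hβ ▸ hβ1) (fun t ht => hβ ▸ (hTCmem t).1 ht) (hβ ▸ hβfix)
    obtain ⟨-, hndK, W₀', -, -, h₀', h9'⟩ := h.four_half hn hfpf hprod hih hTC hTC1 b' hβ'2 hβ'1
      (fun t ht => by rw [hb', ← mul_assoc, hzc, mul_assoc, (hTCmem t).1 ht, mul_assoc]) hβ'fix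
    subst hn2
    rw [← hβ] at h9 h₀ hndH
    have hcH : Nat.card (fixSub β) = 9 := (card_inc h.toIsPre h₀.toIsPre).symm.trans h9
    have hcK : Nat.card (fixSub (bact h.toIsPre b')) = 9 := (card_inc h.toIsPre h₀'.toIsPre).symm.trans h9'
    have hinvK : ∀ t : T, (t : G) ∈ TC → ∀ x ∈ fixSub (bact h.toIsPre b'),
        bact h.toIsPre t x ∈ fixSub (bact h.toIsPre b') := fun t ht x hx => by
      rw [hfix'] at hx ⊢
      rw [← MulAut.mul_apply, ← (hTCmem t).1 ht, MulAut.mul_apply, hx, map_inv]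
    have horth : ∀ x ∈ fixSub (bact h.toIsPre b'), ∀ y ∈ fixSub β, pb ρ W x y = (1 : k) := by
      intro x hx y hy
      refine h.pb_eq_one_of_sq ?_
      rw [pow_two]
      nth_rewrite 1 [← h.pb_bact b x y]
      rw [← hβ, (hfix' x).1 hx, mem_fixSub.1 hy, ← h.pb_mul_left, inv_mul_cancel, h.pb_one_left]
    -- the elements of `TC` fixing the first plane
    have hker : ∀ t : T, (t : G) ∈ TC → (∀ x ∈ fixSub β, bact h.toIsPre t x = x) →
        bact h.toIsPre t = 1 ∨ bact h.toIsPre t = β := by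
      intro t ht htH
      have hsq := h.four_false hfpf hprod hTC hTC1 hinvK horth hndK hW₀ hW₀A h₀ h9 hcK ht htH
      have h2 : bact h₀'.toIsPre ⟨t, ht⟩ * bact h₀'.toIsPre ⟨t, ht⟩ = 1 := MulEquiv.ext fun x => by
        refine inc_injective h.toIsPre h₀'.toIsPre ?_
        rw [← map_mul, inc_bact h.toIsPre h₀'.toIsPre (⟨t, ht⟩ * ⟨t, ht⟩) (mul_mem t.2 t.2) x]
        exact hsq _ (inc_mem _ x)
      by_cases h1 : bact h₀'.toIsPre ⟨t, ht⟩ = 1
      · left
        refine MulEquiv.ext fun x => ?_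
        obtain ⟨x₁, x₂, hx₁, hx₂, rfl⟩ := exists_split (odd_bar h.toIsPre) β hβ2 x
        obtain ⟨y, hy⟩ := exists_inc ((hfix' x₂).2 hx₂)
        have e := inc_bact h.toIsPre h₀'.toIsPre ⟨t, ht⟩ t.2 y
        rw [h1, MulAut.one_apply, hy] at e
        rw [map_mul, htH x₁ (mem_fixSub.2 hx₁), MulAut.one_apply]
        exact congrArg (x₁ * ·) e.symm
      · right
        have hinv := h₀'.plane_involution h9' h2 h1
        refine MulEquiv.ext fun x => ?_
        obtain ⟨x₁, x₂, hx₁, hx₂, rfl⟩ := exists_split (odd_bar h.toIsPre) β hβ2 x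
        obtain ⟨y, hy⟩ := exists_inc ((hfix' x₂).2 hx₂)
        have e := inc_bact h.toIsPre h₀'.toIsPre ⟨t, ht⟩ t.2 y
        rw [hinv, map_inv, hy] at e
        rw [map_mul, htH x₁ (mem_fixSub.2 hx₁), map_mul β, hx₁, hx₂]
        exact congrArg (x₁ * ·) e.symm
    obtain ⟨C, hC⟩ : ∃ C : Subgroup (bact h.toIsPre).range, ∀ p, p ∈ C ↔ (p : MulAut (Bar R X)) * β = β * p :=
      ⟨(Subgroup.centralizer {β}).comap (bact h.toIsPre).range.subtype, fun p =>
        Subgroup.mem_centralizer_singleton_iff⟩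
    have hCcard : Nat.card C ≤ 16 := by
      obtain ⟨Zb, hZb⟩ : ∃ Zb : Subgroup C, Zb = Subgroup.zpowers ⟨f b, (hC _).2 (by rw [hf, ← hβ])⟩ := ⟨_, rfl⟩
      have hZ2 : Nat.card Zb ≤ 2 := by
        rw [hZb, Nat.card_zpowers]
        refine Nat.le_of_dvd two_pos (orderOf_dvd_of_pow_eq_one (Subtype.ext ?_))
        rw [pow_two]; exact hV4s _ hqV
      haveI : Nontrivial (fixSub β) := (Subgroup.nontrivial_iff_ne_bot _).2 hβfix
      obtain ⟨u, hu⟩ := _root_.exists_ne (1 : fixSub β)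
      have hfu : ∀ p : C, ∀ x ∈ fixSub β, ((p : (bact h.toIsPre).range) : MulAut (Bar R X)) x ∈ fixSub β :=
        fun p x hx => by
          rw [mem_fixSub] at hx ⊢
          rw [← MulAut.mul_apply, ← (hC _).1 p.2, MulAut.mul_apply, hx]
      have hinj : Nat.card (C ⧸ Zb) ≤ Nat.card {x : fixSub β // x ≠ 1} := by
        refine Nat.card_le_card_of_injective (fun c => ⟨⟨((c.out : C) : (bact h.toIsPre).range).1 u,
          hfu _ _ u.2⟩, fun e => hu (Subtype.ext ((((c.out : C) : (bact h.toIsPre).range).1).injective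
            ((congrArg Subtype.val e).trans (map_one _).symm)))⟩) ?_
        intro c d hcd
        have e : ((c.out : C) : (bact h.toIsPre).range).1 u = ((d.out : C) : (bact h.toIsPre).range).1 u :=
          congrArg (fun x => ((x.1 : fixSub β) : Bar R X)) hcd
        rw [← c.out_eq, ← d.out_eq]
        refine QuotientGroup.eq.2 ?_
        obtain ⟨t, ht⟩ := hfs ((c.out⁻¹ * d.out : C) : (bact h.toIsPre).range)
        have ht' : bact h.toIsPre t = ((c.out⁻¹ * d.out : C) : (bact h.toIsPre).range).1 := by rw [← ht, hf]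
        have htTC : (t : G) ∈ TC := (hTCmem t).2 (by rw [ht']; exact (hC _).1 (c.out⁻¹ * d.out).2)
        obtain ⟨u', hu'⟩ := exists_inc u.2
        have h1 : bact h₀.toIsPre ⟨t, htTC⟩ = 1 := by
          refine h₀.plane_semiregular h9 (u := u') (fun e' => hu (Subtype.ext (by rw [← hu', e', map_one]; rfl))) ?_
          refine inc_injective h.toIsPre h₀.toIsPre ?_
          rw [inc_bact h.toIsPre h₀.toIsPre ⟨t, htTC⟩ t.2, hu', ht', Subgroup.coe_mul, Subgroup.coe_mul,
            MulAut.mul_apply, ← e, ← MulAut.mul_apply, ← Subgroup.coe_mul, ← Subgroup.coe_mul,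
            inv_mul_cancel]
          rfl
        rcases hker t htTC (fun x hx => by
            obtain ⟨x', rfl⟩ := exists_inc hx
            rw [← inc_bact h.toIsPre h₀.toIsPre ⟨t, htTC⟩ t.2, h1, MulAut.one_apply]) with e1 | e1
        · rw [show c.out⁻¹ * d.out = 1 from Subtype.ext (Subtype.ext (ht'.symm.trans e1))]
          exact one_mem _
        · refine (SetLike.ext_iff.1 hZb _).2 (Subgroup.mem_zpowers_iff.2 ⟨1, ?_⟩)
          rw [zpow_one]
          exact Subtype.ext (Subtype.ext (((hf b).trans hβ.symm).trans (e1.symm.trans ht')))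
      rw [Nat.card_eq_fintype_card (α := {x : fixSub β // x ≠ 1}), Fintype.card_subtype_compl,
        Fintype.card_subtype_eq, ← Nat.card_eq_fintype_card, hcH] at hinj
      rw [Subgroup.card_eq_card_quotient_mul_card_subgroup Zb]
      nlinarith
    have hCidx : C.index ≤ 2 := by
      rw [Subgroup.index_eq_card]
      refine (Nat.card_le_card_of_injective (β := ({β, z * β} : Finset (MulAut (Bar R X))))
        (fun c => ⟨(c.out : MulAut (Bar R X)) * β * ((c.out : MulAut (Bar R X)))⁻¹, ?_⟩) ?_).trans ?_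
      · obtain ⟨t, ht⟩ := hfs c.out
        rw [← ht, hf, Finset.mem_insert, Finset.mem_singleton]
        exact hconj t
      · intro c d hcd
        rw [← c.out_eq, ← d.out_eq]
        refine QuotientGroup.eq.2 ((hC _).2 ?_)
        have e := congrArg Subtype.val hcd
        simp only at e
        rw [Subgroup.coe_mul, InvMemClass.coe_inv]
        calc ((c.out : MulAut (Bar R X)))⁻¹ * d.out * β
            = (c.out : MulAut (Bar R X))⁻¹ * ((d.out : MulAut (Bar R X)) * β * (d.out : MulAut (Bar R X))⁻¹) *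
              d.out := by group
          _ = β * ((c.out : MulAut (Bar R X))⁻¹ * d.out) := by rw [← e]; group
      · rw [Nat.card_eq_fintype_card, Fintype.card_coe]
        exact Finset.card_le_two
    have hQ32 : Nat.card (bact h.toIsPre).range ≤ 32 := by
      rw [← C.card_mul_index]; exact Nat.mul_le_mul hCcard hCidx
    have hq8 : Nat.card ((bact h.toIsPre).range ⧸ V4) ≤ 8 := by
      have e := Subgroup.card_eq_card_quotient_mul_card_subgroup V4
      rw [hV4c] at e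
      omega
    have hcc := card_commutator_le_two (hP.to_quotient V4) hq8
    have hcyc : ∀ u w : (bact h.toIsPre).range, u ∈ dser ⊤ 1 → w ∈ dser ⊤ 1 → u * w = w * u := by
      intro u w hu hw
      obtain ⟨π, hπ⟩ : ∃ π, π = QuotientGroup.mk' V4 := ⟨_, rfl⟩
      have hDC : dser (⊤ : Subgroup (bact h.toIsPre).range) 1 ≤ C := by
        rw [dser_succ, dser_zero, Subgroup.commutator_le]
        intro p _ q _
        obtain ⟨s, rfl⟩ := hfs p
        obtain ⟨r, rfl⟩ := hfs q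
        rw [← map_commutatorElement, hC, hf]
        exact (hTCmem _).1 (hTC1 (show (((⁅s, r⁆ : T)) : G) ∈ ⁅T, T⁆ from
          Subgroup.commutator_mem_commutator s.2 r.2))
      have hVC : ∀ v ∈ V4, ∀ c ∈ C, v * c = c * v := by
        intro v hv c hc
        have hca : f a * c = c * f a := Subtype.ext (by
          rw [Subgroup.coe_mul, Subgroup.coe_mul, hf, ← hz, hzc])
        have hcb : f b * c = c * f b := Subtype.ext (by
          rw [Subgroup.coe_mul, Subgroup.coe_mul, hf, ← hβ, (hC c).1 hc])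
        rcases hV4mem v hv with rfl | rfl | rfl | rfl
        · rw [one_mul, mul_one]
        · exact hca
        · exact hcb
        · rw [mul_assoc, hcb, ← mul_assoc, hca, mul_assoc]
      have hm : ∀ u, u ∈ dser ⊤ 1 → π u ∈ commutator ((bact h.toIsPre).range ⧸ V4) := fun u hu => by
        have e := Subgroup.mem_map_of_mem π hu
        rw [map_dser, ← MonoidHom.range_eq_map, hπ, QuotientGroup.range_mk', ← hπ] at e
        exact e
      obtain ⟨γ, hγ⟩ : ∃ γ, γ ∈ dser (⊤ : Subgroup (bact h.toIsPre).range) 1 ∧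
          ∀ u ∈ dser (⊤ : Subgroup (bact h.toIsPre).range) 1, π u = 1 ∨ π u = π γ := by
        by_cases hall : ∀ u ∈ dser (⊤ : Subgroup (bact h.toIsPre).range) 1, π u = 1
        · exact ⟨1, one_mem _, fun u hu => Or.inl (hall u hu)⟩
        push Not at hall
        obtain ⟨γ, hγ, hγ1⟩ := hall
        refine ⟨γ, hγ, fun u hu => ?_⟩
        by_contra hc
        push Not at hc
        haveI := Fintype.ofFinite (commutator ((bact h.toIsPre).range ⧸ V4))
        have h3 : ({1, ⟨π u, hm u hu⟩, ⟨π γ, hm γ hγ⟩} :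
            Finset (commutator ((bact h.toIsPre).range ⧸ V4))).card = 3 := by
          rw [Finset.card_insert_of_notMem, Finset.card_pair]
          · exact fun e => hc.2 (congrArg Subtype.val e :)
          · simp only [Finset.mem_insert, Finset.mem_singleton, not_or]
            exact ⟨fun e => hc.1 (congrArg Subtype.val e :).symm, fun e => hγ1 (congrArg Subtype.val e :).symm⟩
        have := Finset.card_le_univ ({1, ⟨π u, hm u hu⟩, ⟨π γ, hm γ hγ⟩} :
            Finset (commutator ((bact h.toIsPre).range ⧸ V4)))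
        rw [← Nat.card_eq_fintype_card, h3] at this
        omega
      have hform : ∀ u ∈ dser (⊤ : Subgroup (bact h.toIsPre).range) 1, ∃ v ∈ V4, u = v ∨ u = γ * v := by
        intro u hu
        rcases hγ.2 u hu with e | e
        · exact ⟨u, (QuotientGroup.eq_one_iff u).1 (by rw [hπ] at e; exact e), Or.inl rfl⟩
        · refine ⟨γ⁻¹ * u, (QuotientGroup.eq).1 (by rw [hπ] at e; exact e.symm), Or.inr ?_⟩
          rw [mul_inv_cancel_left]
      obtain ⟨v₁, hv₁, hu'⟩ := hform u hu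
      obtain ⟨v₂, hv₂, hw'⟩ := hform w hw
      have hwC := hDC hw
      have huC := hDC hu
      have hγC := hDC hγ.1
      rcases hu' with rfl | rfl
      · exact hVC _ hv₁ _ hwC
      rcases hw' with rfl | rfl
      · exact (hVC _ hv₂ _ huC).symm
      have c1 : Commute v₁ (γ * v₂) := hVC _ hv₁ _ hwC
      have c2 : Commute γ (γ * v₂) := (Commute.refl γ).mul_right (hVC _ hv₂ _ hγC).symm
      exact (c2.mul_left c1).eq
    exfalso
    obtain ⟨c, hc, hcx⟩ := h.exists_moved hfpf hx₀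
    have h5 : f c ∈ dser (⊤ : Subgroup (bact h.toIsPre).range) 2 := hdser 2 c hc
    have h6 : dser (⊤ : Subgroup (bact h.toIsPre).range) 2 = ⊥ := by
      rw [dser_succ, Subgroup.commutator_eq_bot_iff_le_centralizer]
      exact fun u hu => Subgroup.mem_centralizer_iff.2 fun w hw => hcyc w u hw hu
    rw [h6, Subgroup.mem_bot] at h5
    exact hcx (by rw [← hf, h5]; rfl)
  · -- no normal four group
    rcases Nat.lt_or_ge n 2 with hn2 | hn2
    swap
    · exfalso
      obtain ⟨c, hc, hcx⟩ : ∃ c : T, (c : G) ∈ dser T n ∧ Q c x₀ ≠ x₀ := by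
        by_contra hc
        push Not at hc
        exact hx₀ (hfpf _ hc)
      have h5 := dser_anti (⊤ : Subgroup Q.range) hn2 (hdser n c hc)
      rw [derived_comm_of_noFour hP hfour, Subgroup.mem_bot] at h5
      exact hcx (by rw [← hf, h5]; rfl)
    obtain rfl : n = 1 := by omega
    refine ⟨rfl, ?_⟩
    obtain ⟨D, hD⟩ : ∃ D, D = ((dser T 1).subgroupOf T).map f := ⟨_, rfl⟩
    haveI : ((dser T 1).subgroupOf T).Normal :=
      Subgroup.normal_subgroupOf_of_le_normalizer (le_normalizer_dser T 1)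
    haveI : D.Normal := hD ▸ Subgroup.Normal.map inferInstance f hfs
    have hD2 := card_le_two_of_noFour hP hfour D (fun v hv => by
      obtain ⟨c, hc, rfl⟩ := hD ▸ hv
      refine Subtype.ext ?_
      rw [← map_mul, hf, hQ, h.sq_derived hprod hc]; rfl)
    have hfa1 : f a ≠ 1 := fun e => hz1 (by rw [hz, ← hf, e]; rfl)
    have hDz : ∀ c : T, (c : G) ∈ dser T 1 → Q c = 1 ∨ Q c = z := fun c hc => by
      by_contra hcon
      push Not at hcon
      haveI := Fintype.ofFinite D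
      have h3 : ({1, ⟨f a, hD ▸ ⟨a, ha, rfl⟩⟩, ⟨f c, hD ▸ ⟨c, hc, rfl⟩⟩} : Finset D).card = 3 := by
        rw [Finset.card_insert_of_notMem, Finset.card_pair]
        · intro e
          have e2 := congrArg (fun x : D => ((x : Q.range) : MulAut (Bar R X))) e
          simp only [hf] at e2
          exact hcon.2 (by rw [hz, e2])
        · simp only [Finset.mem_insert, Finset.mem_singleton, not_or]
          refine ⟨fun e => hfa1 (congrArg Subtype.val e :).symm, fun e => hcon.1 ?_⟩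
          have e2 := congrArg (fun x : D => ((x : Q.range) : MulAut (Bar R X))) e
          simp only [hf] at e2
          exact e2.symm
      have := Finset.card_le_univ ({1, ⟨f a, hD ▸ ⟨a, ha, rfl⟩⟩, ⟨f c, hD ▸ ⟨c, hc, rfl⟩⟩} : Finset D)
      rw [← Nat.card_eq_fintype_card, h3] at this
      omega
    have hnab : ∃ s t, Q s * Q t ≠ Q t * Q s := by
      by_contra hc
      push Not at hc
      refine hfa1 (Subtype.ext ?_)
      have h5 := hdser 1 a ha
      have h6 : dser (⊤ : Subgroup Q.range) 1 = ⊥ := by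
        rw [dser_succ, dser_zero, Subgroup.commutator_eq_bot_iff_le_centralizer]
        intro u _
        refine Subgroup.mem_centralizer_iff.2 fun w _ => ?_
        obtain ⟨s, rfl⟩ := hfs u
        obtain ⟨t, rfl⟩ := hfs w
        exact Subtype.ext (by rw [Subgroup.coe_mul, Subgroup.coe_mul, hf, hf, hc t s])
      rw [h6, Subgroup.mem_bot] at h5
      rw [h5]
    subst hQ
    refine h.primitive_plane ⟨x₀, hx₀⟩ hirr hnab ?_ ?_ ?_
    · intro t ht
      by_contra hcon
      push Not at hcon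
      obtain ⟨h1, x, hx⟩ := hcon
      have htz : bact h.toIsPre t ≠ z := fun e => hx (by rw [e, hzx])
      refine hfour ⟨Subgroup.zpowers (f a) ⊔ Subgroup.zpowers (f t), ?_, ?_, ?_⟩
      all_goals
        have hcomm' : Commute (f a) (f t) := Subtype.ext (by
          rw [Subgroup.coe_mul, Subgroup.coe_mul, hf, hf, ← hz, hzc])
        have ha2 : f a * f a = 1 := Subtype.ext (by rw [Subgroup.coe_mul, hf, ← hz, hzz]; rfl)
        have ht2 : f t * f t = 1 := Subtype.ext (by rw [Subgroup.coe_mul, hf, ht]; rfl)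
      · refine ⟨fun v hv g => ?_⟩
        obtain ⟨s, rfl⟩ := hfs g
        have hsub : Subgroup.zpowers (f a) ⊔ Subgroup.zpowers (f t) ≤
            (Subgroup.zpowers (f a) ⊔ Subgroup.zpowers (f t)).comap (MulAut.conj (f s)).toMonoidHom := by
          refine sup_le (Subgroup.zpowers_le.2 ?_) (Subgroup.zpowers_le.2 ?_)
          · have e : f s * f a * (f s)⁻¹ = f a := by
              rw [mul_inv_eq_iff_eq_mul]
              exact Subtype.ext (by rw [Subgroup.coe_mul, Subgroup.coe_mul, hf, hf, ← hz, hzc])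
            rw [Subgroup.mem_comap]
            simp only [MulEquiv.toMonoidHom_eq_coe, MonoidHom.coe_coe, MulAut.conj_apply]
            rw [e]
            exact Subgroup.mem_sup_left (Subgroup.mem_zpowers _)
          · rw [Subgroup.mem_comap]
            simp only [MulEquiv.toMonoidHom_eq_coe, MonoidHom.coe_coe, MulAut.conj_apply]
            rw [show f s * f t * (f s)⁻¹ = f ⁅s, t⁆ * f t by
              rw [← map_mul, ← map_inv, ← map_mul, ← map_mul]
              congr 1; rw [commutatorElement_def]; group]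
            refine mul_mem ?_ (Subgroup.mem_sup_right (Subgroup.mem_zpowers _))
            rcases hDz ⁅s, t⁆ (Subgroup.commutator_mem_commutator s.2 t.2) with e | e
            · rw [show f ⁅s, t⁆ = 1 from Subtype.ext (by rw [hf, e]; rfl)]; exact one_mem _
            · rw [show f ⁅s, t⁆ = f a from Subtype.ext (by rw [hf, e, hf, hz])]
              exact Subgroup.mem_sup_left (Subgroup.mem_zpowers _)
        exact hsub hv
      · haveI : IsMulCommutative (Subgroup.zpowers (f a)) := inferInstance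
        have hd : Disjoint (Subgroup.zpowers (f a)) (Subgroup.zpowers (f t)) := by
          rw [Subgroup.disjoint_def]
          intro y hy hy'
          have hoa : orderOf (f a) = 2 := orderOf_eq_prime (by rw [pow_two]; exact ha2) hfa1
          obtain ⟨i, hi, rfl⟩ := (mem_zpowers_iff_mem_range_orderOf.1 hy : _) |> fun hh => by
            simpa [Finset.mem_image, hoa] using hh
          interval_cases i
          · rw [pow_zero]
          · exfalso
            rw [pow_one] at hy'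
            have hot : orderOf (f t) = 2 := orderOf_eq_prime (by rw [pow_two]; exact ht2)
              (fun e => h1 (by rw [← hf, e]; rfl))
            obtain ⟨j, hj, e⟩ := (mem_zpowers_iff_mem_range_orderOf.1 hy' : _) |> fun hh => by
              simpa [Finset.mem_image, hot] using hh
            interval_cases j
            · exact hfa1 (by rw [← e, pow_zero])
            · exact htz (by rw [hz, ← hf, ← hf, ← e, pow_one])
        have hle : Subgroup.zpowers (f t) ≤ Subgroup.normalizer (Subgroup.zpowers (f a) : Set _) :=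
          Subgroup.zpowers_le.2 (Subgroup.centralizer_le_normalizer _ (by
            refine Subgroup.mem_centralizer_iff.2 fun y hy => ?_
            obtain ⟨i, rfl⟩ := Subgroup.mem_zpowers_iff.1 hy
            exact (hcomm'.zpow_left i).eq))
        have hoa : orderOf (f a) = 2 := orderOf_eq_prime (by rw [pow_two]; exact ha2) hfa1
        have hot : orderOf (f t) = 2 := orderOf_eq_prime (by rw [pow_two]; exact ht2)
          (fun e => h1 (by rw [← hf, e]; rfl))
        refine (Nat.card_eq_of_bijective (fun p : Subgroup.zpowers (f a) × Subgroup.zpowers (f t) =>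
          (⟨p.1 * p.2, mul_mem (Subgroup.mem_sup_left p.1.2) (Subgroup.mem_sup_right p.2.2)⟩ :
            (Subgroup.zpowers (f a) ⊔ Subgroup.zpowers (f t) : Subgroup _))) ⟨?_, ?_⟩).symm.trans ?_
        · exact fun p q e => Subgroup.mul_injective_of_disjoint hd (congrArg Subtype.val e :)
        · intro y
          have hy : (y : (bact h.toIsPre).range) ∈
              ((Subgroup.zpowers (f a) ⊔ Subgroup.zpowers (f t) : Subgroup _) : Set _) := y.2
          rw [Subgroup.coe_mul_of_right_le_normalizer_left _ _ hle] at hy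
          obtain ⟨p, hp, q, hq, e⟩ := hy
          exact ⟨(⟨p, hp⟩, ⟨q, hq⟩), Subtype.ext e⟩
        · rw [Nat.card_prod, Nat.card_zpowers, Nat.card_zpowers, hoa, hot]
      · intro v hv
        obtain ⟨p, hp, q, hq, rfl⟩ : ∃ p ∈ Subgroup.zpowers (f a), ∃ q ∈ Subgroup.zpowers (f t), p * q = v := by
          have hle : Subgroup.zpowers (f t) ≤ Subgroup.normalizer (Subgroup.zpowers (f a) : Set _) :=
            Subgroup.zpowers_le.2 (Subgroup.centralizer_le_normalizer _ (by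
              refine Subgroup.mem_centralizer_iff.2 fun y hy => ?_
              obtain ⟨i, rfl⟩ := Subgroup.mem_zpowers_iff.1 hy
              exact (hcomm'.zpow_left i).eq))
          have hv' : v ∈ ((Subgroup.zpowers (f a) ⊔ Subgroup.zpowers (f t) : Subgroup _) : Set _) := hv
          rw [Subgroup.coe_mul_of_right_le_normalizer_left _ _ hle] at hv'
          exact hv'
        obtain ⟨i, rfl⟩ := Subgroup.mem_zpowers_iff.1 hp
        obtain ⟨j, rfl⟩ := Subgroup.mem_zpowers_iff.1 hq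
        have hc : Commute (f a ^ i) (f t ^ j) := hcomm'.zpow_zpow i j
        rw [show f a ^ i * f t ^ j * (f a ^ i * f t ^ j) = (f a ^ i * f a ^ i) * (f t ^ j * f t ^ j) by
          rw [mul_assoc, ← mul_assoc (f t ^ j), ← hc.eq, mul_assoc, mul_assoc],
          ← (Commute.refl (f a)).mul_zpow, ha2, ← (Commute.refl (f t)).mul_zpow, ht2, one_zpow, one_zpow, one_mul]
    · intro s t
      rcases hDz ⁅s, t⁆ (Subgroup.commutator_mem_commutator s.2 t.2) with e | e
      · exact Or.inl e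
      · exact Or.inr fun x => by rw [e, hzx]
    · intro a₁ i ha₁ w hw
      rw [h.apply_of_bact_eq (s := a₁) (t := a) (MulEquiv.ext fun x => by rw [ha₁, ha'])
        _ (W.sub_mem (h.invT _ i.2 w hw) hw)]
      rw [prod_succ, aug_eq_bot] at hprod
      exact hprod _ ha _ (mem_aug (ρ := ρ) i.2 hw)

end IsExt

namespace IsExt

/-- The key lemma. -/
theorem key {T R X : Subgroup G} {W : Submodule k V} (h : IsExt ρ T R X W) {n : ℕ}
    (hfpf : ∀ x, (∀ a : T, (a : G) ∈ dser T n → bact h.toIsPre a x = x) → x = 1)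
    (hne : ∃ x : Bar R X, x ≠ 1) (hprod : prod ρ T W (n + 1) = ⊥) :
    n = 1 ∧ Nat.card (Bar R X) = 9 := by
  induction hm : Nat.card R using Nat.strong_induction_on generalizing T R W n with
  | _ m ih =>
  by_cases hn : n = 0
  · subst hn
    obtain ⟨x, hx⟩ := hne
    refine absurd (hfpf x fun a _ => ?_) hx
    rw [prod_succ, prod_zero, dser_zero, aug_eq_bot] at hprod
    rw [h.bact_of_triv (fun w hw => hprod _ a.2 w hw), MulAut.one_apply]
  exact h.key_step hn hfpf hne hprod fun hlt h' h1 h2 h3 => ih _ (hm ▸ hlt) h' h1 h2 h3 rfl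

end IsExt

end Cfsg.Agent.Solv.D2
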