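import Cfsg.Agent.Lib.Solv.DerivedTwo.Prod
import Cfsg.Agent.Lib.Solv.FrattiniModule
import Mathlib.FieldTheory.IsAlgClosed.AlgebraicClosure

/-!
Representations over an algebraically closed field of characteristic two: elementary abelian sections, and
passing to a representation trivial on a normal 2-subgroup.
-/

set_option autoImplicit false
set_option linter.style.haveILetI false

namespace Cfsg.Agent.Solv.D2

attribute [local instance] Fintype.ofFinite

open scoped commutatorElement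

universe u

variable {G : Type u} [Group G] [Finite G]

theorem aug_comp {H : Type*} [Group H] {k : Type*} [Field k] {V : Type*} [AddCommGroup V] [Module k V]
    (f : G →* H) (ρ : H →* Module.End k V) (L : Subgroup G) (W : Submodule k V) :
    aug (ρ.comp f) L W = aug ρ (L.map f) W := by
  refine le_antisymm (aug_le.2 fun l hl w hw => mem_aug (Subgroup.mem_map_of_mem f hl) hw) (aug_le.2 ?_)
  rintro _ ⟨l, hl, rfl⟩ w hw
  exact mem_aug (ρ := ρ.comp f) hl hw

theorem prod_comp {H : Type*} [Group H] {k : Type*} [Field k] {V : Type*} [AddCommGroup V] [Module k V]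
    (f : G →* H) (ρ : H →* Module.End k V) (S : Subgroup G) (W : Submodule k V) :
    ∀ m, prod (ρ.comp f) S W m = prod ρ (S.map f) W m
  | 0 => rfl
  | m + 1 => by rw [prod_succ, prod_succ, prod_comp f ρ S W m, aug_comp, map_dser]

/-- The representation on an elementary abelian section `D / Φ`, over a given field. -/
theorem exists_section_rep (k : Type) [Field k] [CharP k 2] (Φ D : Subgroup G) [Φ.Normal] [D.Normal]
    (hΦD : Φ ≤ D) (hab : ∀ a ∈ D, ∀ b ∈ D, ⁅a, b⁆ ∈ Φ) (hsq : ∀ a ∈ D, a * a ∈ Φ) :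
    ∃ (m : ℕ) (ρ : G →* Module.End k (Fin m → k)) (sub : Subgroup G → Submodule k (Fin m → k)),
      (∀ g, ρ g = 1 ↔ ∀ d ∈ D, ⁅g, d⁆ ∈ Φ) ∧ (∀ U, D ≤ U → ⊤ ≤ sub U) ∧
      (∀ U, U ⊓ D ≤ Φ → sub U = ⊥) ∧
      ∀ A U U' : Subgroup G, (∀ l ∈ A, ∀ u ∈ U, u ∈ D → ⁅l, u⁆ ∈ U') → aug ρ A (sub U) ≤ sub U' := by
  classical
  haveI : Fact (Nat.Prime 2) := ⟨Nat.prime_two⟩
  obtain ⟨π, hπ⟩ : ∃ π, π = QuotientGroup.mk' Φ := ⟨_, rfl⟩
  have hπs : Function.Surjective π := hπ ▸ QuotientGroup.mk'_surjective Φ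
  have hπ1 : ∀ g, π g = 1 ↔ g ∈ Φ := fun g => by rw [hπ]; exact QuotientGroup.eq_one_iff g
  obtain ⟨V, hV⟩ : ∃ V, V = D.map π := ⟨_, rfl⟩
  haveI : V.Normal := hV ▸ Subgroup.Normal.map inferInstance π hπs
  have hVel : Cfsg.IsElementaryAbelian 2 V := by
    refine ⟨⟨⟨fun a b => Subtype.ext ?_⟩⟩, fun a ha => ?_⟩
    · obtain ⟨x, hx, hxa⟩ := Subgroup.mem_map.1 (hV.le a.2)
      obtain ⟨y, hy, hyb⟩ := Subgroup.mem_map.1 (hV.le b.2)
      show (a : G ⧸ Φ) * b = b * a
      rw [← hxa, ← hyb, ← commutatorElement_eq_one_iff_mul_comm, ← map_commutatorElement, hπ1]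
      exact hab x hx y hy
    · obtain ⟨x, hx, rfl⟩ := Subgroup.mem_map.1 (hV.le ha)
      rw [← map_pow, hπ1, pow_two]
      exact hsq x hx
  obtain ⟨m, ε, ρ₀, hεinj, hmem, hadd, hact⟩ := ThmB.exists_module V hVel
  obtain ⟨φ, -⟩ : ∃ φ : ZMod 2 →+* k, True := ⟨ZMod.castHom (dvd_refl 2) k, trivial⟩
  let Θ : Module.End (ZMod 2) (Fin m → ZMod 2) →+* Module.End k (Fin m → k) :=
    (Matrix.toLinAlgEquiv' : Matrix _ _ k ≃ₐ[k] _).toRingEquiv.toRingHom.comp
      (φ.mapMatrix.comp (LinearMap.toMatrixAlgEquiv' : _ ≃ₐ[ZMod 2] Matrix _ _ (ZMod 2)).toRingEquiv.toRingHom)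
  obtain ⟨j, hj⟩ : ∃ j : (Fin m → ZMod 2) → (Fin m → k), ∀ a i, j a i = φ (a i) :=
    ⟨fun a i => φ (a i), fun _ _ => rfl⟩
  have hjinj : Function.Injective j := fun a b h => funext fun i => φ.injective (by rw [← hj, ← hj, h])
  have hΘ : ∀ f a, Θ f (j a) = j (f a) := fun f a => funext fun i => by
    show Matrix.toLinAlgEquiv' ((LinearMap.toMatrixAlgEquiv' f).map φ) (j a) i = _
    rw [Matrix.toLinAlgEquiv'_apply, show j a = φ ∘ a from funext (hj a), ← RingHom.map_mulVec,
      ← Matrix.toLinAlgEquiv'_apply, Matrix.toLinAlgEquiv'_toMatrixAlgEquiv', hj]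
  have hΘinj : Function.Injective Θ := fun f g h => LinearMap.ext fun a => hjinj (by rw [← hΘ, ← hΘ, h])
  have hε0 : ε 0 = 1 := mul_eq_left.1 (by rw [← hadd, add_zero] : ε 0 * ε 0 = ε 0)
  have hεneg : ∀ a, ε (-a) = (ε a)⁻¹ := fun a =>
    eq_inv_of_mul_eq_one_left (by rw [← hadd, neg_add_cancel, hε0])
  have hstep : ∀ g : G, ∀ a, ∀ v : G, π v = ε a → π ⁅g, v⁆ = ε (ρ₀ (π g) a - a) := fun g a v hv => by
    rw [map_commutatorElement, hv, sub_eq_add_neg, hadd, hεneg, hact, commutatorElement_def]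
  have hlift : ∀ a, ∃ v ∈ D, π v = ε a := fun a => by
    have h1 : ε a ∈ V := (hmem _).2 ⟨a, rfl⟩
    rw [hV] at h1
    exact h1
  obtain ⟨T, hT⟩ : ∃ T : Subgroup G → Set (Fin m → ZMod 2), ∀ U a, a ∈ T U ↔ ∃ u ∈ U, u ∈ D ∧ π u = ε a :=
    ⟨fun U => {a | ∃ u ∈ U, u ∈ D ∧ π u = ε a}, fun _ _ => Iff.rfl⟩
  refine ⟨m, (Θ : _ →* Module.End k (Fin m → k)).comp (ρ₀.comp π), fun U => Submodule.span k (j '' T U),
    fun g => ?_, fun U hU => ?_, fun U hU => ?_, fun A U U' h => ?_⟩
  · show Θ (ρ₀ (π g)) = 1 ↔ _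
    rw [← map_one Θ, hΘinj.eq_iff]
    refine ⟨fun h d hd => ?_, fun h => LinearMap.ext fun a => sub_eq_zero.1 (hεinj ?_)⟩
    · obtain ⟨a, ha⟩ := (hmem (π d)).1 (hV ▸ Subgroup.mem_map_of_mem π hd)
      rw [← hπ1, hstep g a d ha.symm, h, Module.End.one_apply, sub_self, hε0]
    · obtain ⟨v, hv, hva⟩ := hlift a
      rw [hε0, Module.End.one_apply, ← hstep g a v hva, hπ1]
      exact h v hv
  · intro x _
    have hall : ∀ a, a ∈ T U := fun a => by
      obtain ⟨v, hv, hva⟩ := hlift a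
      exact (hT U a).2 ⟨v, hU hv, hv, hva⟩
    rw [pi_eq_sum_univ x]
    refine sum_mem fun i _ => Submodule.smul_mem _ _ (Submodule.subset_span
      ⟨fun i' => if i = i' then 1 else 0, hall _, funext fun i' => ?_⟩)
    rw [hj]
    split_ifs <;> simp
  · rw [Submodule.span_eq_bot]
    rintro _ ⟨a, ha, rfl⟩
    obtain ⟨u, hu, huD, hua⟩ := (hT U a).1 ha
    rw [(hπ1 u).2 (hU ⟨hu, huD⟩)] at hua
    rw [show a = 0 from hεinj (by rw [← hua, hε0])]
    exact funext fun i => by rw [hj]; simp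
  · refine aug_le.2 fun l hl w hw => ?_
    show Θ (ρ₀ (π l)) w - w ∈ _
    induction hw using Submodule.span_induction with
    | mem x hx =>
      obtain ⟨a, ha, rfl⟩ := hx
      obtain ⟨u, hu, huD, hua⟩ := (hT U a).1 ha
      refine Submodule.subset_span ⟨ρ₀ (π l) a - a, (hT U' _).2 ⟨⁅l, u⁆, h l hl u hu huD, ?_, hstep l a u hua⟩, ?_⟩
      · rw [commutatorElement_def]
        exact mul_mem ((inferInstance : D.Normal).conj_mem u huD l) (inv_mem huD)
      · rw [hΘ]
        exact funext fun i => by simp [hj, map_sub]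
    | zero => rw [map_zero, sub_zero]; exact zero_mem _
    | add x y _ _ hx hy => rw [map_add, add_sub_add_comm]; exact add_mem hx hy
    | smul c x _ hx => rw [map_smul, ← smul_sub]; exact Submodule.smul_mem _ c hx

variable {k : Type} [Field k] [CharP k 2]

/-- An element of odd order acting as an involution acts trivially. -/
theorem eq_one_of_odd {M : Type*} [Monoid M] (f : G →* M) {x : G} (hx : Odd (orderOf x))
    (h : f x * f x = 1) : f x = 1 := by
  obtain ⟨i, hi⟩ := hx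
  have h2 : f x ^ (2 * i + 1) = 1 := by rw [← map_pow, ← hi, pow_orderOf_eq_one, map_one]
  rwa [pow_succ, pow_mul, pow_two, h, one_pow, one_mul] at h2

/-- A representation with a normal 2-subgroup in the kernel and the same elements of odd order. -/
theorem exists_semi (S D : Subgroup G) [D.Normal] (hD : IsPGroup 2 D) (n : ℕ) :
    ∀ (d : ℕ) (ρ : G →* Module.End k (Fin d → k)), prod ρ S ⊤ n = ⊥ →
      ∃ (d' : ℕ) (ρ' : G →* Module.End k (Fin d' → k)), prod ρ' S ⊤ n = ⊥ ∧ (∀ x ∈ D, ρ' x = 1) ∧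
        ∀ x, Odd (orderOf x) → ρ' x = 1 → ρ x = 1 := by
  intro d
  induction d using Nat.strong_induction_on with
  | _ d ih =>
  intro ρ hρ
  by_cases htriv : ∀ x ∈ D, ρ x = 1
  · exact ⟨d, ρ, hρ, htriv, fun _ _ h => h⟩
  -- transport to coordinates
  have trans : ∀ (W : Type) [AddCommGroup W] [Module k W] [FiniteDimensional k W] (σ : G →* Module.End k W),
      ∃ τ : G →* Module.End k (Fin (Module.finrank k W) → k), ∃ e : W ≃ₗ[k] (Fin (Module.finrank k W) → k),
        ∀ g w, τ g (e w) = e (σ g w) := by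
    intro W _ _ _ σ
    obtain ⟨e, -⟩ : ∃ e : W ≃ₗ[k] (Fin (Module.finrank k W) → k), True :=
      ⟨(Module.finBasis k W).equivFun, trivial⟩
    exact ⟨(e.conjRingEquiv.toRingHom.toMonoidHom).comp σ, e, fun g w => by simp [LinearEquiv.conj_apply]⟩
  obtain ⟨U, hU⟩ : ∃ U : Submodule k (Fin d → k), ∀ v, v ∈ U ↔ ∀ x ∈ D, ρ x v = v :=
    ⟨{ carrier := {v | ∀ x ∈ D, ρ x v = v}
       add_mem' := fun {a b} ha hb x hx => by rw [map_add, ha x hx, hb x hx]
       zero_mem' := fun x _ => map_zero _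
       smul_mem' := fun c a ha x hx => by rw [map_smul, ha x hx] }, fun _ => Iff.rfl⟩
  have hUinv : ∀ g, U ≤ U.comap (ρ g) := fun g v hv => by
    rw [hU] at hv
    rw [Submodule.mem_comap, hU]
    intro x hx
    rw [← Module.End.mul_apply, ← map_mul, show x * g = g * (g⁻¹ * x * g) by group, map_mul,
      Module.End.mul_apply, hv _ (by simpa using (inferInstance : D.Normal).conj_mem x hx g⁻¹)]
  have hU0 : U ≠ ⊥ := by
    obtain ⟨x, hx, hne⟩ : ∃ x ∈ D, ρ x ≠ 1 := by simpa using htriv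
    intro hb
    have hW : (⊤ : Submodule k (Fin d → k)) ≠ ⊥ := fun h0 => hne (LinearMap.ext fun v => by
      have hv : v ∈ (⊤ : Submodule k (Fin d → k)) := trivial
      rw [h0, Submodule.mem_bot] at hv
      rw [hv, map_zero, map_zero])
    obtain ⟨v, -, hv0, hfix⟩ := exists_fixed ρ D hD ⊤ hW fun _ _ _ _ => trivial
    have : v ∈ U := (hU v).2 hfix
    rw [hb, Submodule.mem_bot] at this
    exact hv0 this
  let σU : G →* Module.End k U :=
    { toFun := fun g => (ρ g).restrict fun v hv => hUinv g hv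
      map_one' := LinearMap.ext fun w => Subtype.ext (by simp)
      map_mul' := fun g g' => LinearMap.ext fun w => Subtype.ext (by simp) }
  let σQ : G →* Module.End k ((Fin d → k) ⧸ U) :=
    { toFun := fun g => U.mapQ U (ρ g) (hUinv g)
      map_one' := by
        apply Submodule.linearMap_qext
        ext v
        simp
      map_mul' := fun g g' => by
        apply Submodule.linearMap_qext
        ext v
        simp [map_mul] }
  have hlt : Module.finrank k ((Fin d → k) ⧸ U) < d := by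
    have h1 := U.finrank_quotient_add_finrank
    rw [Module.finrank_fintype_fun_eq_card, Fintype.card_fin] at h1
    have h2 : 0 < Module.finrank k U := Nat.pos_of_ne_zero (mt Submodule.finrank_eq_zero.1 hU0)
    omega
  obtain ⟨τQ, eQ, heQ⟩ := trans _ σQ
  have hQ : prod τQ S ⊤ n = ⊥ := by
    have h1 := prod_map (ρ := ρ) (ρ' := τQ) (eQ.toLinearMap.comp U.mkQ) (S := S)
      (fun l _ v => (heQ l (U.mkQ v)).symm) ⊤ n
    rw [hρ, Submodule.map_bot, Submodule.map_top,
      LinearMap.range_eq_top.2 (show Function.Surjective (eQ.toLinearMap.comp U.mkQ) from fun y => by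
        obtain ⟨x, hx⟩ := eQ.surjective y
        obtain ⟨v, hv⟩ := Submodule.mkQ_surjective U x
        exact ⟨v, by rw [LinearMap.comp_apply, hv]; exact hx⟩)] at h1
    exact h1.symm
  obtain ⟨d₂, τ₂, h2prod, h2D, h2odd⟩ := ih _ hlt τQ hQ
  let σP : G →* Module.End k (U × (Fin d₂ → k)) :=
    { toFun := fun g => (σU g).prodMap (τ₂ g)
      map_one' := by rw [map_one, map_one]; rfl
      map_mul' := fun g g' => by rw [map_mul, map_mul]; rfl }
  obtain ⟨τ, e, he⟩ := trans _ σP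
  refine ⟨_, τ, ?_, fun x hx => LinearMap.ext fun z => ?_, fun x hx h => ?_⟩
  · have hP : prod σP S ⊤ n = ⊥ := by
      refine (Submodule.eq_bot_iff _).2 fun p hp => Prod.ext ?_ ?_
      · have hUp : prod σU S ⊤ n = ⊥ := by
          have h1 := prod_map (ρ := σU) (ρ' := ρ) U.subtype (S := S) (fun l _ v => rfl) ⊤ n
          rw [eq_bot_iff]
          intro v hv
          have h2 : (v : Fin d → k) ∈ prod ρ S ((⊤ : Submodule k U).map U.subtype) n := h1 ▸ ⟨v, hv, rfl⟩
          have h3 := prod_mono (ρ := ρ) le_rfl (le_top : (⊤ : Submodule k U).map U.subtype ≤ ⊤) n h2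
          rw [hρ, Submodule.mem_bot] at h3
          exact Submodule.mem_bot _ |>.2 (Subtype.ext h3)
        have h1 := prod_map (ρ := σP) (ρ' := σU) (LinearMap.fst k _ _) (S := S) (fun l _ v => rfl) ⊤ n
        rw [Submodule.map_top, LinearMap.range_eq_top.2 (LinearMap.fst_surjective), hUp] at h1
        exact (Submodule.mem_bot k).1 (h1 ▸ ⟨p, hp, rfl⟩)
      · have h1 := prod_map (ρ := σP) (ρ' := τ₂) (LinearMap.snd k _ _) (S := S) (fun l _ v => rfl) ⊤ n
        rw [Submodule.map_top, LinearMap.range_eq_top.2 (LinearMap.snd_surjective), h2prod] at h1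
        exact (Submodule.mem_bot k).1 (h1 ▸ ⟨p, hp, rfl⟩)
    have h1 := prod_map (ρ := σP) (ρ' := τ) e.toLinearMap (S := S) (fun l _ v => (he l v).symm) ⊤ n
    rw [hP, Submodule.map_bot, Submodule.map_top, LinearMap.range_eq_top.2 e.surjective] at h1
    exact h1.symm
  · obtain ⟨⟨u, v⟩, rfl⟩ := e.surjective z
    rw [he, Module.End.one_apply]
    congr 1
    exact Prod.ext (Subtype.ext ((hU _).1 u.2 x hx)) (by
      show τ₂ x v = v
      rw [h2D x hx]; rfl)
  · have h0 : ∀ p, σP x p = p := fun p => e.injective (by rw [← he, h, Module.End.one_apply])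
    have hU1 : ∀ u ∈ U, ρ x u = u := fun u hu =>
      congrArg Subtype.val (congrArg Prod.fst (h0 (⟨u, hu⟩, 0)))
    have hτ : τ₂ x = 1 := LinearMap.ext fun v => congrArg Prod.snd (h0 (0, v))
    have hQ1 := h2odd x hx hτ
    have hdiff : ∀ v, ρ x v - v ∈ U := fun v => (Submodule.Quotient.eq U).1 (eQ.injective (by
      have := heQ x (U.mkQ v)
      rw [hQ1, Module.End.one_apply] at this
      exact this.symm))
    refine eq_one_of_odd ρ hx (LinearMap.ext fun v => ?_)
    rw [Module.End.mul_apply, Module.End.one_apply]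
    have h3 := hU1 _ (hdiff v)
    rw [map_sub] at h3
    have h4 : ρ x (ρ x v) = ρ x v + (ρ x v - v) := by rw [← h3]; abel
    have h5 : ∀ a : Fin d → k, a + a = 0 := fun a => by
      rw [← two_smul k a, show (2 : k) = 0 from CharP.cast_eq_zero k 2, zero_smul]
    rw [h4, ← add_sub_assoc, h5, zero_sub, neg_eq_iff_add_eq_zero, h5]

end Cfsg.Agent.Solv.D2
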