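import Cfsg.Agent.Lib.Solv.DerivedTwo.Facts
import Cfsg.Agent.Lib.Solv.DerivedTwo.Section
import Cfsg.Agent.Lib.Solv.PLength
import Cfsg.Agent.Lib.Fusion.Cores
import Cfsg.Agent.Lib.Solv.PSolvHall

/-!
The 2-length of a 2-soluble group is at most the derived length of its Sylow 2-subgroups.
-/

set_option autoImplicit false
set_option linter.style.haveILetI false
set_option linter.unusedSectionVars false
set_option maxHeartbeats 1000000

namespace Cfsg.Agent.Solv.D2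

attribute [local instance] Fintype.ofFinite

open scoped commutatorElement

universe u

variable {G : Type u} [Group G] [Finite G]

/-- The coefficient field. -/
abbrev Coef : Type := AlgebraicClosure (ZMod 2)

instance : Fact (Nat.Prime 2) := ⟨Nat.prime_two⟩

theorem hasPSeries_of_surjective {H : Type u} [Group H] [Finite H] {k : ℕ} (f : G →* H)
    (hf : Function.Surjective f) (h : PLen.HasPSeries 2 k G) : PLen.HasPSeries 2 k H := by
  obtain ⟨A, h0, htop, hn, hle, hok⟩ := h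
  refine ⟨fun n => (A n).map f, by dsimp only; rw [h0, Subgroup.map_bot], fun n hn' => ?_,
    fun n => (hn n).map _ hf, fun n => Subgroup.map_mono (hle n), fun n => ?_⟩
  · dsimp only; rw [htop n hn', Subgroup.map_top_of_surjective _ hf]
  · haveI := hn n
    exact (hok n).of_dvd (PLen.relIndex_map_dvd _ (hle n))

/-- The representation on the Frattini section of the 2-core. -/
theorem frattini_rep (hG : Cfsg.IsPSolvable 2 G) (hbot : Cfsg.pPrimeCore 2 G = ⊥) (S : Sylow 2 G) (n : ℕ)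
    (hdl : dser (S : Subgroup G) (n + 1) = ⊥) [(Cfsg.pCore 2 G).Normal] :
    ∃ (d : ℕ) (ρ : G ⧸ Cfsg.pCore 2 G →* Module.End Coef (Fin d → Coef)), (∀ g, ρ g = 1 → g = 1) ∧
      prod ρ ((S : Subgroup G).map (QuotientGroup.mk' (Cfsg.pCore 2 G))) ⊤ (n + 1) = ⊥ ∧
      ((∀ l ∈ dser (S : Subgroup G) n, ∀ u ∈ dser (S : Subgroup G) (n - 1), Commute l u) →
        aug ρ (dser ((S : Subgroup G).map (QuotientGroup.mk' (Cfsg.pCore 2 G))) n)
          (prod ρ ((S : Subgroup G).map (QuotientGroup.mk' (Cfsg.pCore 2 G))) ⊤ (n - 1)) = ⊥) := by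
  classical
  obtain ⟨Φ, hΦn, V, hVn, hΦD, hV, hVmem, hCV, -⟩ := ThmB.exists_frattini_section hG hbot
  have hπ1 : ∀ g, QuotientGroup.mk' Φ g = 1 ↔ g ∈ Φ := fun g => QuotientGroup.eq_one_iff g
  have hab : ∀ a ∈ Cfsg.pCore 2 G, ∀ b ∈ Cfsg.pCore 2 G, ⁅a, b⁆ ∈ Φ := fun a ha b hb => by
    rw [← hπ1, map_commutatorElement, commutatorElement_eq_one_iff_mul_comm]
    exact congrArg Subtype.val (hV.1.is_comm.comm ⟨_, (hVmem a).2 ha⟩ ⟨_, (hVmem b).2 hb⟩)
  have hsq : ∀ a ∈ Cfsg.pCore 2 G, a * a ∈ Φ := fun a ha => by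
    rw [← hπ1, map_mul, ← pow_two]
    exact hV.2 _ ((hVmem a).2 ha)
  obtain ⟨d, ρ₁, sub, hker, htop, hbot', hstep⟩ := exists_section_rep Coef Φ (Cfsg.pCore 2 G) hΦD hab hsq
  have hD : ∀ g, ρ₁ g = 1 ↔ g ∈ Cfsg.pCore 2 G := fun g => by
    rw [hker]
    refine ⟨fun h => (hVmem g).1 (hCV (Subgroup.mem_centralizer_iff.2 fun v hv => ?_)),
      fun hg x hx => hab g hg x hx⟩
    obtain ⟨x, rfl⟩ := QuotientGroup.mk'_surjective Φ v
    have h1 := (hπ1 _).2 (h x ((hVmem x).1 hv))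
    rw [map_commutatorElement, commutatorElement_eq_one_iff_mul_comm] at h1
    exact h1.symm
  obtain ⟨ρ, hρ⟩ : ∃ ρ : G ⧸ Cfsg.pCore 2 G →* Module.End Coef (Fin d → Coef),
      ρ.comp (QuotientGroup.mk' (Cfsg.pCore 2 G)) = ρ₁ :=
    ⟨QuotientGroup.lift _ ρ₁ fun g hg => MonoidHom.mem_ker.2 ((hD g).2 hg), rfl⟩
  obtain ⟨S', hS'⟩ : ∃ S' : Subgroup G, S' = (S : Subgroup G) := ⟨_, rfl⟩
  rw [← hS'] at hdl ⊢
  have hDS : Cfsg.pCore 2 G ≤ S' := hS' ▸ Fusion.pCore_le_sylow S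
  have hle : ∀ i, prod ρ₁ S' ⊤ i ≤ sub (dser S' i) := by
    intro i
    induction i with
    | zero => exact htop _ hDS
    | succ i ih =>
      refine (aug_mono le_rfl ih).trans (hstep _ _ _ fun l hl u hu _ => ?_)
      exact Subgroup.commutator_mem_commutator hl hu
  refine ⟨d, ρ, fun g hg => ?_, ?_, fun hcomm => ?_⟩
  · obtain ⟨g, rfl⟩ := QuotientGroup.mk'_surjective (Cfsg.pCore 2 G) g
    refine (QuotientGroup.eq_one_iff g).2 ((hD g).1 ?_)
    rw [← hρ]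
    exact hg
  · rw [← prod_comp, hρ]
    refine le_bot_iff.1 ((hle _).trans (le_of_eq (hbot' _ ?_)))
    rw [hdl]
    exact inf_le_left.trans bot_le
  · rw [← map_dser, ← aug_comp, ← prod_comp, hρ]
    refine le_bot_iff.1 ((aug_mono le_rfl (hle _)).trans ((hstep _ _ ⊥ fun l hl u hu _ => ?_).trans
      (le_of_eq (hbot' _ (inf_le_left.trans bot_le)))))
    rw [(commutatorElement_eq_one_iff_commute.2 (hcomm l hl u hu) : ⁅l, u⁆ = 1)]
    exact one_mem _

/-- The bound for a group with trivial 2-core and a faithful representation with vanishing product. -/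
theorem core_bound : ∀ (n : ℕ) (G : Type u) [Group G] [Finite G], Cfsg.IsPSolvable 2 G → Cfsg.pCore 2 G = ⊥ →
    ∀ (S : Sylow 2 G) (d : ℕ) (ρ : G →* Module.End Coef (Fin d → Coef)), (∀ g, ρ g = 1 → g = 1) →
      dser (S : Subgroup G) (n + 1) = ⊥ → prod ρ (S : Subgroup G) ⊤ (n + 1) = ⊥ →
        PLen.HasPSeries 2 n G := by
  intro n
  induction n with
  | zero =>
    intro G _ _ hG hcore S d ρ hρ _ hprod
    have h0 := (core_facts hG hcore ρ hρ S hprod).1 rfl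
    refine PLen.hasPSeries_of_coprime 0 ?_
    rw [Nat.coprime_comm, Nat.prime_two.coprime_iff_not_dvd]
    exact fun hdvd => S.ne_bot_of_dvd_card hdvd h0
  | succ m ih =>
    intro G _ _ hG hcore S d ρ hρ hdl hprod
    classical
    obtain ⟨-, hsq, hinv, -, hconj⟩ := core_facts hG hcore ρ hρ S hprod
    rw [Nat.add_sub_cancel] at hinv
    replace hinv := hinv (Nat.le_add_left 1 m)
    haveI := Cfsg.pPrimeCore_normal 2 G
    obtain ⟨π, hπ⟩ : ∃ π, π = QuotientGroup.mk' (Cfsg.pPrimeCore 2 G) := ⟨_, rfl⟩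
    have hπs : Function.Surjective π := hπ ▸ QuotientGroup.mk'_surjective _
    have hπker : ∀ g, π g = 1 ↔ g ∈ Cfsg.pPrimeCore 2 G := fun g => by rw [hπ]; exact QuotientGroup.eq_one_iff g
    have hinj : ∀ s ∈ (S : Subgroup G), π s = 1 → s = 1 := fun s hs h1 => by
      obtain ⟨j, hj⟩ := S.isPGroup' ⟨s, hs⟩
      exact congrArg Subtype.val (eq_one_of_two_pow (Nat.coprime_two_right.1 (pPrimeCore_coprime 2))
        (x := (⟨s, (hπker s).1 h1⟩ : Cfsg.pPrimeCore 2 G)) (e := j) (Subtype.ext (congrArg Subtype.val hj :)))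
    have hbot : Cfsg.pPrimeCore 2 (G ⧸ Cfsg.pPrimeCore 2 G) = ⊥ := Fusion.pPrimeCore_quotient_eq_bot
    have hG1 : Cfsg.IsPSolvable 2 (G ⧸ Cfsg.pPrimeCore 2 G) :=
      isPSolvable_map Fact.out hG _ (QuotientGroup.mk'_surjective _)
    obtain ⟨S₁, hS₁⟩ : ∃ S₁ : Sylow 2 (G ⧸ Cfsg.pPrimeCore 2 G),
        (S₁ : Subgroup (G ⧸ Cfsg.pPrimeCore 2 G)) = (S : Subgroup G).map π :=
      ⟨S.mapSurjective hπs, rfl⟩
    have hL : ∀ i, dser (↑S₁ : Subgroup (G ⧸ Cfsg.pPrimeCore 2 G)) i = (dser (S : Subgroup G) i).map π := fun i => by rw [hS₁, map_dser]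
    have hdl₁ : dser (↑S₁ : Subgroup (G ⧸ Cfsg.pPrimeCore 2 G)) (m + 1 + 1) = ⊥ := by rw [hL, hdl, Subgroup.map_bot]
    haveI := Cfsg.pCore_normal 2 (G ⧸ Cfsg.pPrimeCore 2 G)
    obtain ⟨D, hD⟩ : ∃ D, D = Cfsg.pCore 2 (G ⧸ Cfsg.pPrimeCore 2 G) := ⟨_, rfl⟩
    haveI hDn : D.Normal := hD ▸ inferInstance
    have hDS : D ≤ (↑S₁ : Subgroup (G ⧸ Cfsg.pPrimeCore 2 G)) := hD ▸ Fusion.pCore_le_sylow S₁
    -- the facts modulo the core of odd order
    have hinv₁ : ∀ w ∈ dser (↑S₁ : Subgroup (G ⧸ Cfsg.pPrimeCore 2 G)) m, ∀ x ∈ dser (↑S₁ : Subgroup (G ⧸ Cfsg.pPrimeCore 2 G)) m, w * w = 1 → Commute w x := by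
      intro w hw x hx hww
      rw [hL] at hw hx
      obtain ⟨w, hw, rfl⟩ := hw
      obtain ⟨x, hx, rfl⟩ := hx
      refine (hinv w hw x hx (hinj _ (mul_mem (dser_le _ m hw) (dser_le _ m hw)) ?_)).map π
      rw [map_mul]; exact hww
    have hsq₁ : ∀ a ∈ dser (↑S₁ : Subgroup (G ⧸ Cfsg.pPrimeCore 2 G)) (m + 1), a * a = 1 := by
      intro a ha
      rw [hL] at ha
      obtain ⟨a, ha, rfl⟩ := ha
      rw [← map_mul, hsq a ha, map_one]
    -- the last term lies in the 2-core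
    have hMD : dser (↑S₁ : Subgroup (G ⧸ Cfsg.pPrimeCore 2 G)) (m + 1) ≤ D := by
      obtain ⟨d', ρ', hρ', hprod', hskip'⟩ := frattini_rep hG1 hbot S₁ (m + 1) hdl₁
      have hG' : Cfsg.IsPSolvable 2 ((G ⧸ Cfsg.pPrimeCore 2 G) ⧸ Cfsg.pCore 2 (G ⧸ Cfsg.pPrimeCore 2 G)) :=
        isPSolvable_map Fact.out hG1 _ (QuotientGroup.mk'_surjective _)
      obtain ⟨-, -, -, hskip, -⟩ := core_facts hG' Fusion.pCore_quotient_eq_bot ρ' hρ'
        (S₁.mapSurjective (QuotientGroup.mk'_surjective _)) (n := m + 1) hprod'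
      have h0 := hskip (hskip' fun l hl u hu =>
        hinv₁ l (dser_anti _ (Nat.le_succ m) hl) u (by rwa [Nat.add_sub_cancel] at hu) (hsq₁ l hl))
      intro x hx
      rw [hD, ← QuotientGroup.eq_one_iff]
      have h1 : QuotientGroup.mk' (Cfsg.pCore 2 (G ⧸ Cfsg.pPrimeCore 2 G)) x ∈
          dser ((S₁.mapSurjective (QuotientGroup.mk'_surjective (Cfsg.pCore 2 (G ⧸ Cfsg.pPrimeCore 2 G))) :
            Sylow 2 _) : Subgroup _) (m + 1) := by
        show _ ∈ dser (((↑S₁ : Subgroup (G ⧸ Cfsg.pPrimeCore 2 G))).map (QuotientGroup.mk' _)) (m + 1)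
        rw [← map_dser]
        exact ⟨x, hx, rfl⟩
      rw [h0] at h1
      exact Subgroup.mem_bot.1 h1
    -- its conjugates commute
    have hcommconj : ∀ a ∈ dser (↑S₁ : Subgroup (G ⧸ Cfsg.pPrimeCore 2 G)) (m + 1), ∀ b ∈ dser (↑S₁ : Subgroup (G ⧸ Cfsg.pPrimeCore 2 G)) (m + 1), ∀ g,
        Commute a (g * b * g⁻¹) := by
      intro a ha b hb g
      have hmem : g * b * g⁻¹ ∈ (↑S₁ : Subgroup (G ⧸ Cfsg.pPrimeCore 2 G)) := hDS (hDn.conj_mem b (hMD hb) g)
      rw [hS₁] at hmem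
      rw [hL] at ha hb
      obtain ⟨a, ha, rfl⟩ := ha
      obtain ⟨b, hb, rfl⟩ := hb
      obtain ⟨w, hw, hwe⟩ := hmem
      obtain ⟨g, rfl⟩ := hπs g
      rw [← hwe]
      refine (hconj a ha b hb g w hw ((hπker _).1 ?_)).map π
      rw [map_mul, map_inv, map_mul, map_mul, map_inv, hwe, inv_mul_cancel]
    obtain ⟨N, hN⟩ : ∃ N : Subgroup (G ⧸ Cfsg.pPrimeCore 2 G), N = Subgroup.normalClosure
      ((dser (↑S₁ : Subgroup (G ⧸ Cfsg.pPrimeCore 2 G)) (m + 1) : Subgroup _) : Set (G ⧸ Cfsg.pPrimeCore 2 G)) := ⟨_, rfl⟩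
    haveI hNn : N.Normal := hN ▸ Subgroup.normalClosure_normal
    have hMN : dser (↑S₁ : Subgroup (G ⧸ Cfsg.pPrimeCore 2 G)) (m + 1) ≤ N := hN ▸ Subgroup.le_normalClosure
    have hND : N ≤ D := hN ▸ Subgroup.normalClosure_le_normal hMD
    have hgen : ∀ x ∈ Group.conjugatesOfSet ((dser (↑S₁ : Subgroup (G ⧸ Cfsg.pPrimeCore 2 G)) (m + 1) : Subgroup _) : Set (G ⧸ Cfsg.pPrimeCore 2 G)),
        ∀ y ∈ Group.conjugatesOfSet ((dser (↑S₁ : Subgroup (G ⧸ Cfsg.pPrimeCore 2 G)) (m + 1) : Subgroup _) : Set (G ⧸ Cfsg.pPrimeCore 2 G)), x * y = y * x := by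
      intro x hx y hy
      obtain ⟨a, ha, hax⟩ := Group.mem_conjugatesOfSet_iff.1 hx
      obtain ⟨b, hb, hby⟩ := Group.mem_conjugatesOfSet_iff.1 hy
      obtain ⟨g, rfl⟩ := isConj_iff.1 hax
      obtain ⟨h, rfl⟩ := isConj_iff.1 hby
      have e := (hcommconj a ha b hb (g⁻¹ * h)).eq
      calc g * a * g⁻¹ * (h * b * h⁻¹) = g * (a * ((g⁻¹ * h) * b * (g⁻¹ * h)⁻¹)) * g⁻¹ := by group
        _ = g * (((g⁻¹ * h) * b * (g⁻¹ * h)⁻¹) * a) * g⁻¹ := by rw [e]
        _ = h * b * h⁻¹ * (g * a * g⁻¹) := by group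
    have hN' : N = Subgroup.closure (Group.conjugatesOfSet ((dser (↑S₁ : Subgroup (G ⧸ Cfsg.pPrimeCore 2 G)) (m + 1) : Subgroup _) : Set (G ⧸ Cfsg.pPrimeCore 2 G))) := hN
    haveI hNc : IsMulCommutative N := hN' ▸ Subgroup.isMulCommutative_closure hgen
    have hNab : ∀ x ∈ N, ∀ y ∈ N, x * y = y * x := fun x hx y hy =>
      congrArg Subtype.val (hNc.is_comm.comm ⟨x, hx⟩ ⟨y, hy⟩)
    have hN2 : ∀ x ∈ N, x * x = 1 := by
      intro x hx
      have hcl : ∀ y ∈ Subgroup.closure (Group.conjugatesOfSet ((dser (↑S₁ : Subgroup (G ⧸ Cfsg.pPrimeCore 2 G)) (m + 1) : Subgroup _) : Set (G ⧸ Cfsg.pPrimeCore 2 G))),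
          y * y = 1 := by
        intro y hy
        induction hy using Subgroup.closure_induction with
        | mem z hz =>
          obtain ⟨a, ha, haz⟩ := Group.mem_conjugatesOfSet_iff.1 hz
          obtain ⟨g, rfl⟩ := isConj_iff.1 haz
          rw [show g * a * g⁻¹ * (g * a * g⁻¹) = g * (a * a) * g⁻¹ by group, hsq₁ a ha, mul_one, mul_inv_cancel]
        | one => exact one_mul 1
        | mul a b ha hb ha2 hb2 =>
          rw [show a * b * (a * b) = a * (b * a) * b by group, hNab b (hN'.symm ▸ hb) a (hN'.symm ▸ ha),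
            show a * (a * b) * b = (a * a) * (b * b) by group, ha2, hb2, one_mul]
        | inv a _ ha2 => rw [← mul_inv_rev, ha2, inv_one]
      exact hcl x (hN'.le hx)
    -- the Frattini section
    obtain ⟨Φ, hΦn, V, hVn, hΦD, hV, hVmem, hCV, -⟩ := ThmB.exists_frattini_section hG1 hbot
    rw [← hD] at hΦD hVmem
    have hπ1 : ∀ g, QuotientGroup.mk' Φ g = 1 ↔ g ∈ Φ := fun g => QuotientGroup.eq_one_iff g
    haveI : (Φ ⊔ N).Normal := Subgroup.sup_normal Φ N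
    obtain ⟨da, ρa, suba, hkera, htopa, hbota, hstepa⟩ := exists_section_rep Coef (Φ ⊔ N) D (sup_le hΦD hND)
      (fun a ha b hb => Subgroup.mem_sup_left ((hπ1 _).1 (by
        rw [map_commutatorElement, commutatorElement_eq_one_iff_mul_comm]
        exact congrArg Subtype.val (hV.1.is_comm.comm ⟨_, (hVmem a).2 ha⟩ ⟨_, (hVmem b).2 hb⟩))))
      (fun a ha => Subgroup.mem_sup_left ((hπ1 _).1 (by
        rw [map_mul, ← pow_two]; exact hV.2 _ ((hVmem a).2 ha))))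
    obtain ⟨db, ρb, subb, hkerb, htopb, hbotb, hstepb⟩ := exists_section_rep Coef ⊥ N bot_le
      (fun a ha b hb => Subgroup.mem_bot.2 (commutatorElement_eq_one_iff_mul_comm.2 (hNab a ha b hb)))
      (fun a ha => Subgroup.mem_bot.2 (hN2 a ha))
    have hproda : prod ρa (↑S₁ : Subgroup (G ⧸ Cfsg.pPrimeCore 2 G)) ⊤ (m + 1) = ⊥ := by
      have hle : ∀ i, prod ρa (↑S₁ : Subgroup (G ⧸ Cfsg.pPrimeCore 2 G)) ⊤ i ≤ suba (dser (↑S₁ : Subgroup (G ⧸ Cfsg.pPrimeCore 2 G)) i) := by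
        intro i
        induction i with
        | zero => exact htopa _ hDS
        | succ i ihi => exact (aug_mono le_rfl ihi).trans (hstepa _ _ _ fun l hl u hu _ =>
            Subgroup.commutator_mem_commutator hl hu)
      exact le_bot_iff.1 ((hle _).trans (le_of_eq (hbota _ (inf_le_left.trans (hMN.trans le_sup_right)))))
    have hprodb : prod ρb (↑S₁ : Subgroup (G ⧸ Cfsg.pPrimeCore 2 G)) ⊤ (m + 1) = ⊥ := by
      have hle : ∀ i, prod ρb (↑S₁ : Subgroup (G ⧸ Cfsg.pPrimeCore 2 G)) ⊤ i ≤ subb (dser (↑S₁ : Subgroup (G ⧸ Cfsg.pPrimeCore 2 G)) i) := by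
        intro i
        induction i with
        | zero => exact htopb _ (hND.trans hDS)
        | succ i ihi => exact (aug_mono le_rfl ihi).trans (hstepb _ _ _ fun l hl u hu _ =>
            Subgroup.commutator_mem_commutator hl hu)
      refine le_bot_iff.1 ((aug_mono le_rfl (hle m)).trans ((hstepb _ _ ⊥ fun l hl u hu huN => ?_).trans
        (le_of_eq (hbotb _ inf_le_left))))
      rw [Subgroup.mem_bot, commutatorElement_eq_one_iff_mul_comm]
      exact (hinv₁ u hu l hl (hN2 u huN)).eq.symm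
    -- the bound for each section
    have bound : ∀ (e : ℕ) (σ : G ⧸ Cfsg.pPrimeCore 2 G →* Module.End Coef (Fin e → Coef)),
        prod σ (↑S₁ : Subgroup (G ⧸ Cfsg.pPrimeCore 2 G)) ⊤ (m + 1) = ⊥ → (∀ a ∈ dser (↑S₁ : Subgroup (G ⧸ Cfsg.pPrimeCore 2 G)) (m + 1), σ a = 1) →
        ∃ J : Subgroup (G ⧸ Cfsg.pPrimeCore 2 G), ∃ _ : J.Normal,
          PLen.HasPSeries 2 m ((G ⧸ Cfsg.pPrimeCore 2 G) ⧸ J) ∧
            ∀ x ∈ J, Odd (orderOf x) → σ x = 1 := by
      intro e σ hσ htriv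
      haveI := Cfsg.pCore_normal 2 (G ⧸ Cfsg.pPrimeCore 2 G)
      obtain ⟨τ₀, hτ₀⟩ : ∃ τ₀, τ₀ = QuotientGroup.mk' σ.ker := ⟨_, rfl⟩
      have hτ₀s : Function.Surjective τ₀ := hτ₀ ▸ QuotientGroup.mk'_surjective _
      obtain ⟨τ, hτ⟩ : ∃ τ : ((G ⧸ Cfsg.pPrimeCore 2 G) ⧸ σ.ker) →* Module.End Coef (Fin e → Coef),
          τ.comp τ₀ = σ := ⟨QuotientGroup.lift σ.ker σ le_rfl, by rw [hτ₀]; rfl⟩
      have hτker : ∀ q, τ q = 1 → q = 1 := fun q hq => by
        obtain ⟨x, rfl⟩ := hτ₀s q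
        rw [hτ₀]
        refine (QuotientGroup.eq_one_iff x).2 (MonoidHom.mem_ker.2 ?_)
        rw [← hτ]; exact hq
      haveI := Cfsg.pCore_normal 2 ((G ⧸ Cfsg.pPrimeCore 2 G) ⧸ σ.ker)
      obtain ⟨T, hT⟩ : ∃ T : Sylow 2 ((G ⧸ Cfsg.pPrimeCore 2 G) ⧸ σ.ker),
          (↑T : Subgroup ((G ⧸ Cfsg.pPrimeCore 2 G) ⧸ σ.ker)) = (↑S₁ : Subgroup (G ⧸ Cfsg.pPrimeCore 2 G)).map τ₀ := ⟨S₁.mapSurjective hτ₀s, rfl⟩
      have hTd : dser (↑T : Subgroup ((G ⧸ Cfsg.pPrimeCore 2 G) ⧸ σ.ker)) (m + 1) = ⊥ := by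
        rw [hT, ← map_dser, Subgroup.map_eq_bot_iff, hτ₀, QuotientGroup.ker_mk']
        exact fun a ha => MonoidHom.mem_ker.2 (htriv a ha)
      have hTp : prod τ (↑T : Subgroup ((G ⧸ Cfsg.pPrimeCore 2 G) ⧸ σ.ker)) ⊤ (m + 1) = ⊥ := by rw [hT, ← prod_comp, hτ, hσ]
      obtain ⟨D', hD'⟩ : ∃ D', D' = Cfsg.pCore 2 ((G ⧸ Cfsg.pPrimeCore 2 G) ⧸ σ.ker) := ⟨_, rfl⟩
      haveI : D'.Normal := hD' ▸ inferInstance
      have hD'p : IsPGroup 2 D' := hD' ▸ pCore_isPGroup 2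
      obtain ⟨e'', τ', hτ'p, hτ'D, hτ'odd⟩ := exists_semi (↑T : Subgroup ((G ⧸ Cfsg.pPrimeCore 2 G) ⧸ σ.ker)) D' hD'p (m + 1) e τ hTp
      have hker' : ∀ q, τ' q = 1 → q ∈ D' := fun q hq => by
        have hp : IsPGroup 2 τ'.ker := by
          intro x
          obtain ⟨i, l, hl, hxl⟩ := Nat.exists_eq_pow_mul_and_not_dvd (orderOf_pos (x : _ ⧸ σ.ker)).ne' 2 (by norm_num)
          refine ⟨i, Subtype.ext ?_⟩
          rw [SubmonoidClass.coe_pow, OneMemClass.coe_one]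
          refine hτker _ (hτ'odd _ ?_ (by rw [map_pow, MonoidHom.mem_ker.1 x.2, one_pow]))
          rw [orderOf_pow_of_dvd (by positivity) (hxl ▸ dvd_mul_right _ _), hxl,
            Nat.mul_div_cancel_left _ (by positivity)]
          exact Nat.odd_iff.2 (by omega)
        exact (hD' ▸ normal_le_pCore hp : τ'.ker ≤ D') (MonoidHom.mem_ker.2 hq)
      obtain ⟨υ, hυ⟩ : ∃ υ : (((G ⧸ Cfsg.pPrimeCore 2 G) ⧸ σ.ker) ⧸ D') →* Module.End Coef (Fin e'' → Coef),
          υ.comp (QuotientGroup.mk' D') = τ' :=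
        ⟨QuotientGroup.lift D' τ' fun q hq => MonoidHom.mem_ker.2 (hτ'D q hq), rfl⟩
      have hser : PLen.HasPSeries 2 m (((G ⧸ Cfsg.pPrimeCore 2 G) ⧸ σ.ker) ⧸ D') := by
        refine ih _ (isPSolvable_map Fact.out (isPSolvable_map Fact.out hG1 _ (QuotientGroup.mk'_surjective _)) _
          (QuotientGroup.mk'_surjective _)) (by subst hD'; exact Fusion.pCore_quotient_eq_bot)
          (T.mapSurjective (QuotientGroup.mk'_surjective _)) e'' υ (fun q hq => ?_) ?_ ?_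
        · obtain ⟨q, rfl⟩ := QuotientGroup.mk'_surjective D' q
          refine (QuotientGroup.eq_one_iff q).2 (hker' q ?_)
          rw [← hυ]; exact hq
        · show dser ((↑T : Subgroup ((G ⧸ Cfsg.pPrimeCore 2 G) ⧸ σ.ker)).map (QuotientGroup.mk' D')) (m + 1) = ⊥
          rw [← map_dser, hTd, Subgroup.map_bot]
        · show prod υ ((↑T : Subgroup ((G ⧸ Cfsg.pPrimeCore 2 G) ⧸ σ.ker)).map (QuotientGroup.mk' D')) ⊤ (m + 1) = ⊥
          rw [← prod_comp, hυ, hτ'p]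
      obtain ⟨f, hf⟩ : ∃ f, f = (QuotientGroup.mk' D').comp τ₀ := ⟨_, rfl⟩
      have hfs : Function.Surjective f := by
        intro q
        obtain ⟨q, rfl⟩ := QuotientGroup.mk'_surjective D' q
        obtain ⟨x, rfl⟩ := hτ₀s q
        exact ⟨x, by rw [hf, MonoidHom.comp_apply]⟩
      refine ⟨f.ker, inferInstance, hasPSeries_of_surjective
        (QuotientGroup.quotientKerEquivOfSurjective f hfs).symm.toMonoidHom
        (QuotientGroup.quotientKerEquivOfSurjective f hfs).symm.surjective hser, fun x hx hodd => ?_⟩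
      have h1 : τ₀ x ∈ D' := by
        rw [MonoidHom.mem_ker, hf] at hx
        exact (QuotientGroup.eq_one_iff _).1 hx
      obtain ⟨j, hj⟩ := hD'p ⟨_, h1⟩
      have h2 : τ₀ x = 1 := orderOf_eq_one_iff.1 (Nat.eq_one_of_dvd_coprimes
        (Nat.Coprime.pow_left j (Nat.coprime_two_left.2 hodd))
        (orderOf_dvd_of_pow_eq_one (congrArg Subtype.val hj :)) (orderOf_map_dvd τ₀ x))
      rw [← hτ, MonoidHom.comp_apply, h2, map_one]
    obtain ⟨Ja, hJan, hJa, hJa'⟩ := bound da ρa hproda fun a ha => (hkera a).2 fun x _ => by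
      refine Subgroup.mem_sup_right ?_
      rw [commutatorElement_def, mul_assoc, mul_assoc]
      refine mul_mem (hMN ha) ?_
      rw [← mul_assoc]
      exact hNn.conj_mem _ (inv_mem (hMN ha)) x
    obtain ⟨Jb, hJbn, hJb, hJb'⟩ := bound db ρb hprodb fun a ha => (hkerb a).2 fun x hx =>
      Subgroup.mem_bot.2 (commutatorElement_eq_one_iff_mul_comm.2 (hNab a (hMN ha) x hx))
    haveI := hJan
    haveI := hJbn
    have hJD : Ja ⊓ Jb ≤ D := by
      rw [hD]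
      haveI : (Ja ⊓ Jb).Normal := Subgroup.normal_inf_normal Ja Jb
      refine normal_le_pCore fun x => ?_
      obtain ⟨i, l, hl, hxl⟩ := Nat.exists_eq_pow_mul_and_not_dvd (orderOf_pos (x : G ⧸ Cfsg.pPrimeCore 2 G)).ne' 2 (by norm_num)
      refine ⟨i, Subtype.ext ?_⟩
      rw [SubmonoidClass.coe_pow, OneMemClass.coe_one]
      obtain ⟨y, hy⟩ : ∃ y, y = (x : G ⧸ Cfsg.pPrimeCore 2 G) ^ 2 ^ i := ⟨_, rfl⟩
      rw [← hy]
      have hyodd : Odd (orderOf y) := by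
        rw [hy, orderOf_pow_of_dvd (by positivity) (hxl ▸ dvd_mul_right _ _), hxl,
          Nat.mul_div_cancel_left _ (by positivity)]
        exact Nat.odd_iff.2 (by omega)
      have hya := (hkera y).1 (hJa' y (hy ▸ pow_mem x.2.1 _) hyodd)
      have hyb := (hkerb y).1 (hJb' y (hy ▸ pow_mem x.2.2 _) hyodd)
      have hyV : QuotientGroup.mk' Φ y ∈ V := by
        refine hCV (Subgroup.mem_centralizer_iff.2 fun v hv => ?_)
        obtain ⟨z, rfl⟩ := QuotientGroup.mk'_surjective Φ v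
        have hz : z ∈ D := (hVmem z).1 hv
        obtain ⟨p, hp, q, hq, hpq⟩ := Subgroup.mem_sup_of_normal_left.1 (hya z hz)
        have hc : ⁅QuotientGroup.mk' Φ y, QuotientGroup.mk' Φ z⁆ = QuotientGroup.mk' Φ q := by
          rw [← map_commutatorElement, ← hpq, map_mul, (hπ1 p).2 hp, one_mul]
        have hyq : Commute (QuotientGroup.mk' Φ y) (QuotientGroup.mk' Φ q) :=
          (commutatorElement_eq_one_iff_commute.1 (Subgroup.mem_bot.1 (hyb q hq))).map _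
        obtain ⟨c, hc'⟩ : ∃ c, c = QuotientGroup.mk' Φ q := ⟨_, rfl⟩
        rw [← hc'] at hc hyq
        have hc2 : c * c = 1 := by rw [hc', ← map_mul, hN2 q hq, map_one]
        obtain ⟨Y, hY⟩ : ∃ Y, Y = QuotientGroup.mk' Φ y := ⟨_, rfl⟩
        obtain ⟨Z, hZ⟩ : ∃ Z, Z = QuotientGroup.mk' Φ z := ⟨_, rfl⟩
        rw [← hY, ← hZ] at hc ⊢
        rw [← hY] at hyq
        have hi : ∀ i : ℕ, Y ^ i * Z = c ^ i * Z * Y ^ i := by
          intro i
          induction i with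
          | zero => simp
          | succ i ih =>
            have e : Y * Z = c * Z * Y := by rw [← hc, commutatorElement_def]; group
            rw [pow_succ', mul_assoc, ih, ← mul_assoc, ← mul_assoc, (hyq.pow_right i).eq, mul_assoc (c ^ i), e,
              pow_succ]
            simp only [mul_assoc]
        have h1 := hi (orderOf y)
        rw [show Y ^ orderOf y = 1 by rw [hY, ← map_pow, pow_orderOf_eq_one, map_one], one_mul, mul_one,
          right_eq_mul] at h1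
        have h2 : c = 1 := orderOf_eq_one_iff.1 (Nat.eq_one_of_dvd_coprimes (Nat.coprime_two_left.2 hyodd)
          (orderOf_dvd_of_pow_eq_one (by rw [pow_two]; exact hc2)) (orderOf_dvd_of_pow_eq_one h1))
        rw [h2, commutatorElement_eq_one_iff_mul_comm] at hc
        exact hc.symm
      have hyD : y ∈ D := (hVmem y).1 hyV
      obtain ⟨j, hj⟩ := (hD ▸ pCore_isPGroup 2 : IsPGroup 2 D) ⟨y, hyD⟩
      exact orderOf_eq_one_iff.1 (Nat.eq_one_of_dvd_coprimes (Nat.Coprime.pow_left j (Nat.coprime_two_left.2 hyodd))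
        (orderOf_dvd_of_pow_eq_one (congrArg Subtype.val hj :)) dvd_rfl)
    have h1 := hasPSeries_of_surjective (QuotientGroup.map (Ja ⊓ Jb) D (MonoidHom.id _) hJD)
      (QuotientGroup.map_surjective_of_surjective _ _ (MonoidHom.id _) (fun y => QuotientGroup.mk'_surjective D y) hJD)
      (PLen.HasPSeries.of_two Ja Jb hJa hJb)
    exact PLen.HasPSeries.lift_pPrime _ (pPrimeCore_coprime 2)
      (PLen.HasPSeries.lift_p D (hD ▸ pCore_isPGroup 2) h1)

/-- The 2-length is at most the derived length of the Sylow 2-subgroups. -/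
theorem two_length_le (hG : Cfsg.IsPSolvable 2 G) (d : ℕ)
    (hd : ∀ P : Sylow 2 G, derivedSeries (P : Subgroup G) d = ⊥) : PLen.HasPSeries 2 d G := by
  obtain ⟨S⟩ : Nonempty (Sylow 2 G) := inferInstance
  have hS : dser (S : Subgroup G) d = ⊥ := by rw [dser_eq_map_derivedSeries, hd S, Subgroup.map_bot]
  rcases d with _ | d
  · refine PLen.hasPSeries_of_coprime 0 ?_
    rw [Nat.coprime_comm, Nat.prime_two.coprime_iff_not_dvd]
    exact fun hdvd => S.ne_bot_of_dvd_card hdvd hS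
  haveI := Cfsg.pPrimeCore_normal 2 G
  haveI := Cfsg.pCore_normal 2 (G ⧸ Cfsg.pPrimeCore 2 G)
  have hG1 : Cfsg.IsPSolvable 2 (G ⧸ Cfsg.pPrimeCore 2 G) :=
    isPSolvable_map Fact.out hG _ (QuotientGroup.mk'_surjective _)
  obtain ⟨S₁, hS₁⟩ : ∃ S₁ : Sylow 2 (G ⧸ Cfsg.pPrimeCore 2 G),
      (↑S₁ : Subgroup (G ⧸ Cfsg.pPrimeCore 2 G)) = (S : Subgroup G).map (QuotientGroup.mk' (Cfsg.pPrimeCore 2 G)) :=
    ⟨S.mapSurjective (QuotientGroup.mk'_surjective _), rfl⟩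
  have hdl : dser (↑S₁ : Subgroup (G ⧸ Cfsg.pPrimeCore 2 G)) (d + 1) = ⊥ := by rw [hS₁, ← map_dser, hS, Subgroup.map_bot]
  obtain ⟨e, ρ, hρ, hprod, -⟩ := frattini_rep hG1 Fusion.pPrimeCore_quotient_eq_bot S₁ d hdl
  refine PLen.HasPSeries.lift_pPrime _ (pPrimeCore_coprime 2)
    (PLen.HasPSeries.lift_p _ (pCore_isPGroup 2) ?_)
  refine core_bound d _ (isPSolvable_map Fact.out hG1 _ (QuotientGroup.mk'_surjective _))
    Fusion.pCore_quotient_eq_bot (S₁.mapSurjective (QuotientGroup.mk'_surjective _)) e ρ hρ ?_ hprod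
  show dser ((↑S₁ : Subgroup (G ⧸ Cfsg.pPrimeCore 2 G)).map (QuotientGroup.mk' _)) (d + 1) = ⊥
  rw [← map_dser, hdl, Subgroup.map_bot]

end Cfsg.Agent.Solv.D2
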