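import Cfsg.Agent.Lib.Solv.DerivedTwo.Ext

/-!
The commutator pairing on `R / X` and the automorphisms induced by the normalising 2-group.
-/

set_option autoImplicit false
set_option linter.style.haveILetI false
set_option linter.unusedSectionVars false

namespace Cfsg.Agent.Solv.D2

attribute [local instance] Fintype.ofFinite

open scoped commutatorElement
open Solv.CRep (rep_inv_apply rep_apply_inv)

universe u v

variable {G : Type u} [Group G] [Finite G] {k : Type*} [Field k] [IsAlgClosed k] [CharP k 2]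
  {V : Type v} [AddCommGroup V] [Module k V] [FiniteDimensional k V]

/-- The kernel of the map onto the commutative quotient `R / X`. -/
def barK (R X : Subgroup G) : Subgroup R := X.subgroupOf R ⊔ commutator R

instance barK_normal (R X : Subgroup G) : (barK R X).Normal := ⟨fun n hn g => by
  have h1 : g * n * g⁻¹ * n⁻¹ ∈ barK R X := (le_sup_right : commutator R ≤ barK R X)
    (Subgroup.commutator_mem_commutator (Subgroup.mem_top g) (Subgroup.mem_top n))
  simpa using mul_mem h1 hn⟩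

/-- The quotient `R / X`. -/
abbrev Bar (R X : Subgroup G) := ↥R ⧸ barK R X

/-- The quotient map. -/
abbrev bar (R X : Subgroup G) : ↥R →* Bar R X := QuotientGroup.mk' (barK R X)

instance barCommGroup (R X : Subgroup G) : CommGroup (Bar R X) :=
  { (inferInstance : Group (Bar R X)) with
    mul_comm := fun a b => by
      obtain ⟨a, rfl⟩ := QuotientGroup.mk'_surjective (barK R X) a
      obtain ⟨b, rfl⟩ := QuotientGroup.mk'_surjective (barK R X) b
      rw [← commutatorElement_eq_one_iff_mul_comm, ← map_commutatorElement]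
      exact (QuotientGroup.eq_one_iff _).2 ((le_sup_right : commutator R ≤ barK R X)
        (Subgroup.commutator_mem_commutator (Subgroup.mem_top a) (Subgroup.mem_top b))) }

noncomputable instance (priority := high) barFintype (R X : Subgroup G) : Fintype (Bar R X) :=
  Fintype.ofFinite _

/-- The scalar by which an element acts. -/
noncomputable def sc (ρ : G →* Module.End k V) (W : Submodule k V) (x : G) : k :=
  Classical.epsilon fun c => ∀ w ∈ W, ρ x w = c • w

/-- The commutator pairing. -/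
noncomputable def pair (ρ : G →* Module.End k V) (W : Submodule k V) (r s : G) : k := sc ρ W ⁅r, s⁆

/-- The commutator pairing on `R / X`. -/
noncomputable def pb (ρ : G →* Module.End k V) (W : Submodule k V) {R X : Subgroup G} (a b : Bar R X) : k :=
  pair ρ W ((a.out : R) : G) ((b.out : R) : G)

variable {ρ : G →* Module.End k V} {T R X : Subgroup G} {W : Submodule k V}

theorem mem_barK_iff (h : IsPre ρ T R X W) {r : R} : r ∈ barK R X ↔ (r : G) ∈ X := by
  have h1 : barK R X = X.subgroupOf R := by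
    refine sup_eq_left.2 ?_
    rw [commutator_def, ← Subgroup.map_subtype_le_map_subtype, Subgroup.map_commutator,
      ← MonoidHom.range_eq_map, Subgroup.range_subtype, Subgroup.subgroupOf_map_subtype]
    exact le_inf h.hcomm (h.hcomm.trans h.hXR)
  rw [h1, Subgroup.mem_subgroupOf]

theorem bar_eq_one (h : IsPre ρ T R X W) {r : R} : bar R X r = 1 ↔ (r : G) ∈ X := by
  rw [QuotientGroup.mk'_apply, QuotientGroup.eq_one_iff, mem_barK_iff h]

theorem bar_eq (h : IsPre ρ T R X W) {r s : R} : bar R X r = bar R X s ↔ (r : G)⁻¹ * s ∈ X := by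
  rw [QuotientGroup.mk'_apply, QuotientGroup.mk'_apply, QuotientGroup.eq, mem_barK_iff h]
  simp

theorem odd_bar (h : IsPre ρ T R X W) : Odd (Nat.card (Bar R X)) :=
  Odd.of_dvd_nat h.hR (Subgroup.card_quotient_dvd_card _)

namespace IsExt

variable (h : IsExt ρ T R X W)

include h

theorem sc_spec {x : G} (hx : x ∈ X) : ∀ w ∈ W, ρ x w = sc ρ W x • w :=
  Classical.epsilon_spec (h.hscal x hx)

theorem sc_eq {x : G} (hx : x ∈ X) {c : k} {w : V} (hw : w ∈ W) (h0 : w ≠ 0) (he : ρ x w = c • w) :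
    sc ρ W x = c :=
  smul_left_injective k h0 ((h.sc_spec hx w hw).symm.trans he)

theorem exists_ne : ∃ w ∈ W, w ≠ (0 : V) := W.exists_mem_ne_zero_of_ne_bot h.hne

theorem sc_one : sc ρ W 1 = (1 : k) := by
  obtain ⟨w, hw, h0⟩ := h.exists_ne
  exact h.sc_eq (one_mem X) hw h0 (by simp)

theorem sc_mul {x y : G} (hx : x ∈ X) (hy : y ∈ X) : sc ρ W (x * y) = sc ρ W x * sc ρ W y := by
  obtain ⟨w, hw, h0⟩ := h.exists_ne
  refine h.sc_eq (mul_mem hx hy) hw h0 ?_
  rw [map_mul, Module.End.mul_apply, h.sc_spec hy w hw, map_smul, h.sc_spec hx w hw, smul_smul, mul_comm]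

theorem sc_inv {x : G} (hx : x ∈ X) : sc ρ W x⁻¹ = (sc ρ W x)⁻¹ := by
  refine eq_inv_of_mul_eq_one_left ?_
  rw [← h.sc_mul (inv_mem hx) hx, inv_mul_cancel, h.sc_one]

theorem sc_ne_zero {x : G} (hx : x ∈ X) : sc ρ W x ≠ 0 := fun hz => by
  have e := h.sc_mul (inv_mem hx) hx
  rw [hz, mul_zero, inv_mul_cancel, h.sc_one] at e
  exact one_ne_zero e

theorem sc_conj_of_mem {g x : G} (hx : x ∈ X) (hgx : g * x * g⁻¹ ∈ X)
    (hg : ∀ w ∈ W, ρ g w ∈ W) : sc ρ W (g * x * g⁻¹) = sc ρ W x := by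
  obtain ⟨w, hw, h0⟩ := h.exists_ne
  refine h.sc_eq hgx (hg w hw) (fun hz => h0 ((rep_inv_apply ρ g w).symm.trans (by rw [hz, map_zero]))) ?_
  rw [← Module.End.mul_apply, ← map_mul, show g * x * g⁻¹ * g = g * x by group, map_mul,
    Module.End.mul_apply, h.sc_spec hx w hw, map_smul]

theorem sc_pow {x : G} (hx : x ∈ X) : ∀ n : ℕ, sc ρ W (x ^ n) = sc ρ W x ^ n
  | 0 => by rw [pow_zero, pow_zero, h.sc_one]
  | n + 1 => by rw [pow_succ, pow_succ, h.sc_mul (pow_mem hx n) hx, sc_pow hx n]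

theorem eq_one_of_sq {x : G} (hx : x ∈ X) (hsq : sc ρ W x ^ 2 = 1) : sc ρ W x = 1 := by
  have h1 : sc ρ W x ^ 2 = 1 ^ 2 := by rw [hsq, one_pow]
  exact eq_one_of_pow (j := 1) (by rw [pow_one]; exact hsq)

theorem pair_mul_right {r s s' : G} (hr : r ∈ R) (hs : s ∈ R) (hs' : s' ∈ R) :
    pair ρ W r (s * s') = pair ρ W r s * pair ρ W r s' := by
  have h1 := h.toIsPre.comm_mem hr hs
  have h2 := h.toIsPre.comm_mem hr hs'
  have h3 := h.toIsPre.conj_mem hs h2
  rw [pair, pair, pair, ← h.sc_conj_of_mem h2 h3 (h.invR s hs), ← h.sc_mul h1 h3,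
    show ⁅r, s⁆ * (s * ⁅r, s'⁆ * s⁻¹) = ⁅r, s * s'⁆ by simp only [commutatorElement_def]; group]

theorem pair_swap {r s : G} (hr : r ∈ R) (hs : s ∈ R) : pair ρ W s r = (pair ρ W r s)⁻¹ := by
  rw [pair, pair, ← commutatorElement_inv, h.sc_inv (h.toIsPre.comm_mem hr hs)]

theorem pair_self (r : G) : pair ρ W r r = 1 := by rw [pair, commutatorElement_self, h.sc_one]

theorem pair_mul_left {r r' s : G} (hr : r ∈ R) (hr' : r' ∈ R) (hs : s ∈ R) :
    pair ρ W (r * r') s = pair ρ W r s * pair ρ W r' s := by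
  rw [h.pair_swap hs (mul_mem hr hr'), h.pair_mul_right hs hr hr', mul_inv, ← h.pair_swap hs hr,
    ← h.pair_swap hs hr']

theorem pair_X_right {r x : G} (hr : r ∈ R) (hx : x ∈ X) : pair ρ W r x = 1 := by
  have h1 := h.toIsPre.conj_mem hr hx
  rw [pair, commutatorElement_def, h.sc_mul h1 (inv_mem hx), h.sc_conj_of_mem hx h1 (h.invR r hr),
    h.sc_inv hx, mul_inv_cancel₀ (h.sc_ne_zero hx)]

theorem pair_X_left {r x : G} (hr : r ∈ R) (hx : x ∈ X) : pair ρ W x r = 1 := by
  rw [h.pair_swap hr (h.hXR hx), h.pair_X_right hr hx, inv_one]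

theorem pair_conj_of_mem {g r s : G} (hr : r ∈ R) (hs : s ∈ R)
    (hg : g ∈ Subgroup.normalizer (X : Set G)) (hgW : ∀ w ∈ W, ρ g w ∈ W) :
    pair ρ W (g * r * g⁻¹) (g * s * g⁻¹) = pair ρ W r s := by
  have h1 := h.toIsPre.comm_mem hr hs
  rw [pair, pair, show ⁅g * r * g⁻¹, g * s * g⁻¹⁆ = g * ⁅r, s⁆ * g⁻¹ by
    simp only [commutatorElement_def]; group]
  exact h.sc_conj_of_mem h1 ((Subgroup.mem_normalizer_iff.1 hg _).1 h1) hgW

theorem mem_X {r : G} (hr : r ∈ R) (hp : ∀ s ∈ R, pair ρ W r s = (1 : k)) : r ∈ X :=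
  h.hnd r hr fun s hs w hw => by
    rw [h.sc_spec (h.toIsPre.comm_mem hr hs) w hw, show sc ρ W ⁅r, s⁆ = 1 from hp s hs, one_smul]

theorem mem_X_of_fix {r : G} (hr : r ∈ R) (hfix : ∀ w ∈ W, ρ r w = w) : r ∈ X :=
  h.hnd r hr fun s hs w hw => by
    simp only [commutatorElement_def, map_mul, Module.End.mul_apply]
    have hinv : ∀ w ∈ W, ρ r⁻¹ w = w := fun w hw => by
      conv_lhs => rw [← hfix w hw]
      exact rep_inv_apply ρ r w
    rw [hinv _ (h.invR _ (inv_mem hs) w hw), hfix _ (h.invR s hs _ (h.invR _ (inv_mem hs) w hw)),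
      rep_apply_inv]

theorem comm_apply {r s : G} (hr : r ∈ R) (hs : s ∈ R) {w : V} (hw : w ∈ W) :
    ρ r (ρ s w) = pair ρ W r s • ρ s (ρ r w) := by
  rw [← Module.End.mul_apply, ← map_mul, show r * s = ⁅r, s⁆ * (s * r) by
    rw [commutatorElement_def]; group, map_mul, map_mul, Module.End.mul_apply, Module.End.mul_apply]
  exact h.sc_spec (h.toIsPre.comm_mem hr hs) _ (h.invR s hs _ (h.invR r hr w hw))

theorem pb_bar (r s : R) : pb ρ W (bar R X r) (bar R X s) = pair ρ W (r : G) (s : G) := by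
  obtain ⟨x, hx⟩ := QuotientGroup.mk_out_eq_mul (barK R X) r
  obtain ⟨y, hy⟩ := QuotientGroup.mk_out_eq_mul (barK R X) s
  have hxX := (mem_barK_iff h.toIsPre).1 x.2
  have hyX := (mem_barK_iff h.toIsPre).1 y.2
  rw [pb, QuotientGroup.mk'_apply, QuotientGroup.mk'_apply, hx, hy, Subgroup.coe_mul, Subgroup.coe_mul,
    h.pair_mul_left r.2 (h.hXR hxX) (mul_mem s.2 (h.hXR hyX)), h.pair_mul_right r.2 s.2 (h.hXR hyX),
    h.pair_X_right r.2 hyX, h.pair_X_left (mul_mem s.2 (h.hXR hyX)) hxX, mul_one, mul_one]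

theorem pb_mul_left (a b c : Bar R X) : pb ρ W (a * b) c = pb ρ W a c * pb ρ W b c := by
  obtain ⟨a, rfl⟩ := QuotientGroup.mk'_surjective (barK R X) a
  obtain ⟨b, rfl⟩ := QuotientGroup.mk'_surjective (barK R X) b
  obtain ⟨c, rfl⟩ := QuotientGroup.mk'_surjective (barK R X) c
  rw [← map_mul, h.pb_bar, h.pb_bar, h.pb_bar, Subgroup.coe_mul]
  exact h.pair_mul_left a.2 b.2 c.2

theorem pb_swap (a b : Bar R X) : pb ρ W b a = (pb ρ W a b)⁻¹ := by
  obtain ⟨a, rfl⟩ := QuotientGroup.mk'_surjective (barK R X) a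
  obtain ⟨b, rfl⟩ := QuotientGroup.mk'_surjective (barK R X) b
  rw [h.pb_bar, h.pb_bar]
  exact h.pair_swap a.2 b.2

theorem pb_mul_right (a b c : Bar R X) : pb ρ W a (b * c) = pb ρ W a b * pb ρ W a c := by
  rw [h.pb_swap (b * c) a, h.pb_mul_left, mul_inv, ← h.pb_swap b a, ← h.pb_swap c a]

theorem pb_self (a : Bar R X) : pb ρ W a a = (1 : k) := h.pair_self _

theorem pb_one_right (a : Bar R X) : pb ρ W a 1 = (1 : k) := by
  obtain ⟨a, rfl⟩ := QuotientGroup.mk'_surjective (barK R X) a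
  rw [← map_one (bar R X), h.pb_bar]
  exact h.pair_X_right a.2 (one_mem X)

theorem pb_one_left (a : Bar R X) : pb ρ W 1 a = (1 : k) := by
  rw [h.pb_swap a 1, h.pb_one_right, inv_one]

theorem pb_pow_left (a b : Bar R X) : ∀ n : ℕ, pb ρ W (a ^ n) b = pb ρ W a b ^ n
  | 0 => by rw [pow_zero, pow_zero, h.pb_one_left]
  | n + 1 => by rw [pow_succ, pow_succ, h.pb_mul_left, pb_pow_left a b n]

theorem pb_pow_right (a b : Bar R X) (n : ℕ) : pb ρ W a (b ^ n) = pb ρ W a b ^ n := by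
  rw [h.pb_swap (b ^ n) a, h.pb_pow_left, h.pb_swap a b, inv_pow, inv_inv]

theorem pb_nd {a : Bar R X} (ha : ∀ b, pb ρ W a b = (1 : k)) : a = 1 := by
  obtain ⟨a, rfl⟩ := QuotientGroup.mk'_surjective (barK R X) a
  rw [bar_eq_one h.toIsPre]
  exact h.mem_X a.2 fun s hs => by rw [← h.pb_bar a ⟨s, hs⟩]; exact ha _

theorem pb_eq_one_of_sq {a b : Bar R X} (hsq : pb ρ W a b ^ 2 = (1 : k)) : pb ρ W a b = 1 := by
  obtain ⟨a, rfl⟩ := QuotientGroup.mk'_surjective (barK R X) a
  obtain ⟨b, rfl⟩ := QuotientGroup.mk'_surjective (barK R X) b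
  rw [h.pb_bar] at hsq ⊢
  exact h.eq_one_of_sq (h.toIsPre.comm_mem a.2 b.2) hsq

end IsExt

theorem conj_mem_R (h : IsPre ρ T R X W) (t : T) (r : R) : (t : G) * r * (t : G)⁻¹ ∈ R :=
  (Subgroup.mem_normalizer_iff.1 (h.hTR t.2) r).1 r.2

/-- The action of `T` on `R / X`. -/
noncomputable def bact (h : IsPre ρ T R X W) : ↥T →* MulAut (Bar R X) :=
  let f : ↥T → (Bar R X →* Bar R X) := fun t =>
    QuotientGroup.map (barK R X) (barK R X)
      { toFun := fun r => ⟨(t : G) * r * (t : G)⁻¹, conj_mem_R h t r⟩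
        map_one' := Subtype.ext (by simp)
        map_mul' := fun r s => Subtype.ext (by simp [mul_assoc]) }
      fun r hr => (mem_barK_iff h).2 ((Subgroup.mem_normalizer_iff.1 (h.hTX t.2) _).1 ((mem_barK_iff h).1 hr))
  have hf : ∀ (t : T) (r : R), f t (bar R X r) = bar R X ⟨(t : G) * r * (t : G)⁻¹, conj_mem_R h t r⟩ :=
    fun _ _ => rfl
  have hmul : ∀ (s t : T) (a : Bar R X), f (s * t) a = f s (f t a) := fun s t a => by
    obtain ⟨r, rfl⟩ := QuotientGroup.mk'_surjective (barK R X) a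
    rw [hf, hf, hf]
    exact congrArg (bar R X) (Subtype.ext (by simp [mul_assoc]))
  have hone : ∀ a, f 1 a = a := fun a => by
    obtain ⟨r, rfl⟩ := QuotientGroup.mk'_surjective (barK R X) a
    rw [hf]
    exact congrArg (bar R X) (Subtype.ext (by simp))
  { toFun := fun t =>
      { toFun := f t
        invFun := f t⁻¹
        left_inv := fun a => by rw [← hmul, inv_mul_cancel, hone]
        right_inv := fun a => by rw [← hmul, mul_inv_cancel, hone]
        map_mul' := map_mul (f t) }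
    map_one' := MulEquiv.ext hone
    map_mul' := fun s t => MulEquiv.ext (hmul s t) }

theorem bact_bar (h : IsPre ρ T R X W) (t : T) (r : R) :
    bact h t (bar R X r) = bar R X ⟨(t : G) * r * (t : G)⁻¹, conj_mem_R h t r⟩ := rfl

theorem bact_eq_one_iff (h : IsPre ρ T R X W) {t : T} :
    bact h t = 1 ↔ ∀ r ∈ R, ⁅r, (t : G)⁆ ∈ X := by
  have key : ∀ r : R, bact h t (bar R X r) = bar R X r ↔ ⁅(r : G), (t : G)⁆ ∈ X := fun r => by
    rw [bact_bar, bar_eq h]
    have e : ⁅(r : G), (t : G)⁆ = (r : G) * ((t : G) * (r : G) * (t : G)⁻¹)⁻¹ := by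
      rw [commutatorElement_def]; group
    rw [e]
    refine ⟨fun h1 => ?_, fun h1 => ?_⟩
    · have := h.conj_mem r.2 h1
      simpa [mul_assoc] using this
    · have := h.conj_mem (inv_mem r.2) h1
      simpa [mul_assoc] using this
  refine ⟨fun h1 r hr => (key ⟨r, hr⟩).1 (by rw [h1]; rfl), fun h1 => MulEquiv.ext fun a => ?_⟩
  obtain ⟨r, rfl⟩ := QuotientGroup.mk'_surjective (barK R X) a
  exact (key r).2 (h1 r r.2)

theorem IsExt.pb_bact (h : IsExt ρ T R X W) (t : T) (a b : Bar R X) :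
    pb ρ W (bact h.toIsPre t a) (bact h.toIsPre t b) = pb ρ W a b := by
  obtain ⟨a, rfl⟩ := QuotientGroup.mk'_surjective (barK R X) a
  obtain ⟨b, rfl⟩ := QuotientGroup.mk'_surjective (barK R X) b
  rw [bact_bar, bact_bar, h.pb_bar, h.pb_bar]
  exact h.pair_conj_of_mem a.2 b.2 (h.hTX t.2) (h.invT t t.2)

/-- An involutory automorphism of an abelian group of odd order splits it. -/
theorem exists_split {U : Type*} [CommGroup U] [Finite U] (hU : Odd (Nat.card U)) (σ : MulAut U)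
    (hσ : σ * σ = 1) (u : U) : ∃ a b : U, σ a = a ∧ σ b = b⁻¹ ∧ u = a * b := by
  obtain ⟨m, hm⟩ := hU
  have hh : ∀ v : U, (v * v) ^ (m + 1) = v := fun v => by
    rw [← pow_two, ← pow_mul, show 2 * (m + 1) = Nat.card U + 1 by omega, pow_succ, pow_card_eq_one', one_mul]
  have hs : ∀ v, σ (σ v) = v := fun v => by rw [← MulAut.mul_apply, hσ, MulAut.one_apply]
  refine ⟨(u * σ u) ^ (m + 1), (u * (σ u)⁻¹) ^ (m + 1), ?_, ?_, ?_⟩
  · rw [map_pow, map_mul, hs, mul_comm]
  · rw [map_pow, map_mul, map_inv, hs, ← inv_pow, mul_inv, inv_inv, mul_comm]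
  · rw [← mul_pow, mul_mul_mul_comm, mul_inv_cancel, mul_one, hh]

end Cfsg.Agent.Solv.D2
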