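import Cfsg.Agent.Lib.Solv.DerivedTwo.Gauss
import Cfsg.Agent.Lib.Solv.UniqueSub

/-!
The symplectic planes over the field of three elements: the primitive case and the 2-groups of
automorphisms of a plane.
-/

set_option autoImplicit false
set_option linter.style.haveILetI false
set_option linter.unusedSectionVars false

namespace Cfsg.Agent.Solv.D2

attribute [local instance] Fintype.ofFinite

open scoped commutatorElement
open Solv.CRep (rep_inv_apply rep_apply_inv)

universe u v

variable {G : Type u} [Group G] [Finite G] {k : Type*} [Field k] [IsAlgClosed k] [CharP k 2]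
  {V : Type v} [AddCommGroup V] [Module k V] [FiniteDimensional k V]
  {ρ : G →* Module.End k V} {T R X : Subgroup G} {W : Submodule k V}

theorem eq_one_of_pow_two {U : Type*} [CommGroup U] [Finite U] (hU : Odd (Nat.card U)) {u : U}
    (hu : u ^ 2 = 1) : u = 1 := by
  obtain ⟨m, hm⟩ := hU
  have h3 := pow_card_eq_one' (x := u)
  rwa [hm, pow_succ, pow_mul, hu, one_pow, one_mul] at h3

/-- An involutory automorphism with no fixed point inverts. -/
theorem inv_of_no_fixed {U : Type*} [CommGroup U] [Finite U] (hU : Odd (Nat.card U)) {σ : MulAut U}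
    (hσ : σ * σ = 1) (hfix : ∀ x, σ x = x → x = 1) (x : U) : σ x = x⁻¹ := by
  obtain ⟨a, b, ha, hb, rfl⟩ := exists_split hU σ hσ x
  rw [hfix a ha, one_mul, hb]

/-- The fixed points of an automorphism. -/
def fixSub {U : Type*} [CommGroup U] (σ : MulAut U) : Subgroup U where
  carrier := {x | σ x = x}
  one_mem' := map_one σ
  mul_mem' := fun {a b} (ha : σ a = a) (hb : σ b = b) => by show σ (a * b) = a * b; rw [map_mul, ha, hb]
  inv_mem' := fun {a} (ha : σ a = a) => by show σ a⁻¹ = a⁻¹; rw [map_inv, ha]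

theorem mem_fixSub {U : Type*} [CommGroup U] {σ : MulAut U} {x : U} : x ∈ fixSub σ ↔ σ x = x := Iff.rfl

/-- A nonabelian group with at most eight elements has derived subgroup of order at most two. -/
theorem card_commutator_le_two {P : Type*} [Group P] [Finite P] (hP : IsPGroup 2 P) (h8 : Nat.card P ≤ 8) :
    Nat.card (commutator P) ≤ 2 := by
  haveI : Fact (Nat.Prime 2) := ⟨Nat.prime_two⟩
  by_cases hnt : Nontrivial P
  swap
  · rw [not_nontrivial_iff_subsingleton] at hnt
    haveI : Subsingleton (commutator P) := inferInstance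
    rw [Nat.card_of_subsingleton (1 : commutator P)]
    norm_num
  obtain ⟨Z, hZ⟩ : ∃ Z, Z = Subgroup.center P := ⟨_, rfl⟩
  haveI : Z.Normal := hZ ▸ inferInstance
  haveI := hP.center_nontrivial
  have hq := hP.to_quotient Z
  have hidx := Z.card_mul_index
  have hZ1 : 2 ≤ Nat.card Z := by rw [hZ]; exact Finite.one_lt_card
  obtain ⟨j, hj⟩ := hq.exists_card_eq
  rw [← Subgroup.index_eq_card] at hj
  have hidx4 : Z.index ≤ 4 := by nlinarith
  have habq : ∀ a b : P ⧸ Z, a * b = b * a := by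
    rcases Nat.lt_or_ge j 3 with hj3 | hj3
    · interval_cases j
      · intro a b
        haveI : Subsingleton (P ⧸ Z) := (Nat.card_eq_one_iff_unique.1 (by rw [← Subgroup.index_eq_card, hj]; rfl)).1
        exact Subsingleton.elim _ _
      · intro a b
        haveI : IsCyclic (P ⧸ Z) := isCyclic_of_prime_card (p := 2) (by rw [← Subgroup.index_eq_card, hj]; rfl)
        obtain ⟨g, hg⟩ := IsCyclic.exists_generator (α := P ⧸ Z)
        obtain ⟨i, rfl⟩ := hg a
        obtain ⟨i', rfl⟩ := hg b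
        exact (Commute.refl g).zpow_zpow i i' |>.eq
      · exact (IsPGroup.commGroupOfCardEqPrimeSq (p := 2) (G := P ⧸ Z) (by rw [← Subgroup.index_eq_card, hj])).mul_comm
    · exfalso
      have := Nat.pow_le_pow_right (n := 2) two_pos hj3
      omega
  by_cases hab : ∀ a b : P, a * b = b * a
  · have : commutator P = ⊥ := by
      rw [commutator_def, Subgroup.commutator_eq_bot_iff_le_centralizer]
      exact fun x _ => Subgroup.mem_centralizer_iff.2 fun y _ => hab y x
    rw [this, Subgroup.card_bot]; norm_num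
  have hle : commutator P ≤ Z := by
    rw [commutator_def, Subgroup.commutator_le]
    intro a _ b _
    rw [← QuotientGroup.eq_one_iff]
    show QuotientGroup.mk' Z ⁅a, b⁆ = 1
    rw [map_commutatorElement, commutatorElement_eq_one_iff_mul_comm]
    exact habq _ _
  refine (Subgroup.card_le_of_le hle).trans ?_
  have hncyc : ¬ Z.index ≤ 2 := fun h2 => hab fun a b => by
    haveI : IsCyclic (P ⧸ Z) := by
      rcases Nat.lt_or_ge j 2 with hj2 | hj2
      · interval_cases j
        · haveI : Subsingleton (P ⧸ Z) :=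
            (Nat.card_eq_one_iff_unique.1 (by rw [← Subgroup.index_eq_card, hj]; rfl)).1
          exact isCyclic_of_subsingleton
        · exact isCyclic_of_prime_card (p := 2) (by rw [← Subgroup.index_eq_card, hj]; rfl)
      · have := Nat.pow_le_pow_right (n := 2) two_pos hj2
        omega
    exact commutative_of_cyclic_center_quotient (QuotientGroup.mk' Z) (by rw [QuotientGroup.ker_mk', hZ]) a b
  have : 4 ≤ Z.index := by
    rcases Nat.lt_or_ge j 2 with hj2 | hj2
    · interval_cases j <;> omega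
    · have := Nat.pow_le_pow_right (n := 2) two_pos hj2
      omega
  nlinarith

namespace IsExt

variable (h : IsExt ρ T R X W)

include h

/-- Characters of `R / X` are given by the pairing. -/
theorem exists_pb_eq (f : Bar R X → k) (h1 : f 1 = 1) (hmul : ∀ a b, f (a * b) = f a * f b) :
    ∃ a, ∀ b, pb ρ W a b = f b := by
  obtain ⟨F, hF⟩ : ∃ F : Bar R X →* k, ∀ b, F b = f b := ⟨MonoidHom.mk ⟨f, h1⟩ hmul, fun _ => rfl⟩
  let e : Bar R X → (Bar R X →* k) := fun a =>
    MonoidHom.mk ⟨fun b => pb ρ W a b, h.pb_one_right a⟩ (h.pb_mul_right a)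
  have hinj : Function.Injective e := fun a a' he => by
    have h2 : a * a'⁻¹ = 1 := h.pb_nd fun b => by
      have h3 : (pb ρ W a b : k) = pb ρ W a' b := DFunLike.congr_fun he b
      have h4 := h.pb_mul_left a' a'⁻¹ b
      rw [mul_inv_cancel, h.pb_one_left] at h4
      rw [h.pb_mul_left, h3, ← h4]
    exact mul_inv_eq_one.1 h2
  have hli := linearIndependent_monoidHom (Bar R X) k
  haveI : Finite (Bar R X →* k) := hli.finite
  have hcard : Nat.card (Bar R X →* k) ≤ Nat.card (Bar R X) := by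
    have h5 := hli.fintype_card_le_finrank
    rwa [Module.finrank_fintype_fun_eq_card, ← Nat.card_eq_fintype_card, ← Nat.card_eq_fintype_card] at h5
  obtain ⟨a, ha⟩ := (hinj.bijective_of_nat_card_le hcard).2 F
  exact ⟨a, fun b => by rw [← hF b]; exact DFunLike.congr_fun ha b⟩

theorem plane_cube (h9 : Nat.card (Bar R X) = 9) (x : Bar R X) : x ^ 3 = 1 := by
  have h1 : orderOf x ∣ 9 := h9 ▸ orderOf_dvd_natCard x
  have h2 : orderOf x ≠ 9 := by
    intro h3
    have htop : Subgroup.zpowers x = ⊤ := Subgroup.eq_top_of_card_eq _ (by rw [Nat.card_zpowers, h3, h9])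
    have hone : x = 1 := h.pb_nd fun b => by
      obtain ⟨i, rfl⟩ := (IsOfFinOrder.mem_powers_iff_mem_zpowers (isOfFinOrder_of_finite x)).2
        (show b ∈ Subgroup.zpowers x from htop ▸ Subgroup.mem_top b)
      rw [h.pb_pow_right, h.pb_self, one_pow]
    rw [hone, orderOf_one] at h3
    omega
  refine orderOf_dvd_iff_pow_eq_one.1 ?_
  obtain ⟨i, hi, hi'⟩ := (Nat.dvd_prime_pow Nat.prime_three).1 (show orderOf x ∣ 3 ^ 2 by norm_num; exact h1)
  rw [hi'] at h2 ⊢
  interval_cases i <;> simp_all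

/-- A 2-element acting on a plane is trivial or without fixed points. -/
theorem plane_semiregular (h9 : Nat.card (Bar R X) = 9) {t : T} {u : Bar R X} (hu : u ≠ 1)
    (hfix : bact h.toIsPre t u = u) : bact h.toIsPre t = 1 := by
  have hu3 : orderOf u = 3 := orderOf_eq_prime (h.plane_cube h9 u) hu
  let K : Subgroup (Bar R X) :=
    { carrier := {v | pb ρ W u v = (1 : k)}
      one_mem' := h.pb_one_right u
      mul_mem' := fun {a b} (ha : pb ρ W u a = (1 : k)) (hb : pb ρ W u b = (1 : k)) => by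
        show pb ρ W u (a * b) = (1 : k); rw [h.pb_mul_right, ha, hb, one_mul]
      inv_mem' := fun {a} (ha : pb ρ W u a = (1 : k)) => by
        have h4 := h.pb_mul_right u a a⁻¹
        rw [mul_inv_cancel, h.pb_one_right, ha, one_mul] at h4
        exact h4.symm }
  have hKle : Subgroup.zpowers u ≤ K := Subgroup.zpowers_le.2 (h.pb_self u)
  have hK : K = Subgroup.zpowers u := by
    refine (Subgroup.eq_of_le_of_card_ge hKle ?_).symm
    rw [Nat.card_zpowers, hu3]
    have h1 : Nat.card K ∣ 3 ^ 2 := by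
      rw [show (3 : ℕ) ^ 2 = Nat.card (Bar R X) by rw [h9]; norm_num]
      exact Subgroup.card_subgroup_dvd_card K
    obtain ⟨i, hi, hi'⟩ := (Nat.dvd_prime_pow Nat.prime_three).1 h1
    have : Nat.card K ≠ 9 := fun h' => hu (h.pb_nd fun b => by
      have htop : K = ⊤ := Subgroup.eq_top_of_card_eq K (h'.trans h9.symm)
      exact (htop ▸ Subgroup.mem_top b : b ∈ K))
    rw [hi'] at this ⊢
    interval_cases i <;> simp_all
  haveI : Fact (Nat.Prime 2) := ⟨Nat.prime_two⟩
  have h3 : bact h.toIsPre t ^ 3 = 1 := by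
    refine MulEquiv.ext fun v => ?_
    obtain ⟨c, hc⟩ : ∃ c, c = v⁻¹ * bact h.toIsPre t v := ⟨_, rfl⟩
    have hcK : c ∈ K := by
      have e := h.pb_bact t u v
      rw [hfix] at e
      show pb ρ W u c = (1 : k)
      rw [hc, h.pb_mul_right, e, ← h.pb_mul_right, inv_mul_cancel, h.pb_one_right]
    have hcfix : bact h.toIsPre t c = c := by
      rw [hK] at hcK
      obtain ⟨j, rfl⟩ := hcK
      rw [map_zpow, hfix]
    have hv : bact h.toIsPre t v = v * c := by rw [hc, mul_inv_cancel_left]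
    rw [pow_succ, pow_succ, pow_one, MulAut.mul_apply, MulAut.mul_apply, hv, map_mul, hcfix, hv, map_mul,
      map_mul, hcfix, hv, MulAut.one_apply, mul_assoc, mul_assoc, ← pow_two, ← pow_succ', h.plane_cube h9,
      mul_one]
  obtain ⟨j, hj⟩ := h.hT t
  have h2 : bact h.toIsPre t ^ 2 ^ j = 1 := by rw [← map_pow, hj, map_one]
  exact orderOf_eq_one_iff.1 (Nat.eq_one_of_dvd_coprimes
    (Nat.Coprime.pow_right j (by norm_num : Nat.Coprime 3 2)) (orderOf_dvd_of_pow_eq_one h3)
    (orderOf_dvd_of_pow_eq_one h2))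

theorem plane_involution (h9 : Nat.card (Bar R X) = 9) {t : T} (h2 : bact h.toIsPre t * bact h.toIsPre t = 1)
    (h1 : bact h.toIsPre t ≠ 1) (x : Bar R X) : bact h.toIsPre t x = x⁻¹ :=
  inv_of_no_fixed (odd_bar h.toIsPre) h2 (fun y hy => by
    by_contra hy1
    exact h1 (h.plane_semiregular h9 hy1 hy)) x

theorem plane_card_le (h9 : Nat.card (Bar R X) = 9) : Nat.card (bact h.toIsPre).range ≤ 8 := by
  classical
  haveI : Nontrivial (Bar R X) := Finite.one_lt_card_iff_nontrivial.1 (by omega)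
  obtain ⟨u, hu⟩ := _root_.exists_ne (1 : Bar R X)
  refine (Nat.card_le_card_of_injective (β := {x : Bar R X // x ≠ 1})
    (fun γ => ⟨γ.1 u, fun hz => hu (γ.1.injective (hz.trans (map_one γ.1).symm))⟩) ?_).trans ?_
  · rintro ⟨_, s, rfl⟩ ⟨_, t, rfl⟩ he
    have he' : bact h.toIsPre s u = bact h.toIsPre t u := congrArg Subtype.val he
    have := h.plane_semiregular h9 (t := t⁻¹ * s) hu (by
      rw [map_mul, map_inv, MulAut.mul_apply, he', MulAut.inv_def, MulEquiv.symm_apply_apply])
    rw [map_mul, map_inv, inv_mul_eq_one] at this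
    exact Subtype.ext this.symm
  · rw [Nat.card_eq_fintype_card, Fintype.card_subtype_compl, Fintype.card_subtype_eq,
      ← Nat.card_eq_fintype_card, h9]

/-- The primitive case. -/
theorem primitive_plane (hne : ∃ x : Bar R X, x ≠ 1)
    (hirr : ∀ H : Subgroup (Bar R X), (∀ t, ∀ x ∈ H, bact h.toIsPre t x ∈ H) → H = ⊥ ∨ H = ⊤)
    (hnab : ∃ s t : T, bact h.toIsPre s * bact h.toIsPre t ≠ bact h.toIsPre t * bact h.toIsPre s)
    (hinvol : ∀ t, bact h.toIsPre t * bact h.toIsPre t = 1 →
      bact h.toIsPre t = 1 ∨ ∀ x, bact h.toIsPre t x = x⁻¹)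
    (hcom : ∀ s t : T, bact h.toIsPre ⁅s, t⁆ = 1 ∨ ∀ x, bact h.toIsPre ⁅s, t⁆ x = x⁻¹)
    (hz : ∀ (a i : T), (∀ x, bact h.toIsPre a x = x⁻¹) → ∀ w ∈ W,
      ρ (a : G) (ρ (i : G) w - w) = ρ (i : G) w - w) :
    Nat.card (Bar R X) = 9 := by
  classical
  obtain ⟨Q, hQ⟩ : ∃ Q, Q = bact h.toIsPre := ⟨_, rfl⟩
  rw [← hQ] at hirr hnab hinvol hcom hz
  obtain ⟨z, hzd⟩ : ∃ z : MulAut (Bar R X), ∀ x, z x = x⁻¹ := ⟨MulEquiv.inv _, fun _ => rfl⟩
  have hodd := odd_bar h.toIsPre
  have hzz : z * z = 1 := MulEquiv.ext fun x => by rw [MulAut.mul_apply, hzd, hzd, inv_inv]; rfl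
  have hz1 : z ≠ 1 := fun hh => by
    obtain ⟨x, hx⟩ := hne
    have e := hzd x
    rw [hh, MulAut.one_apply] at e
    exact hx (eq_one_of_pow_two hodd (by rw [pow_two]; nth_rewrite 2 [e]; exact mul_inv_cancel x))
  have hzc : ∀ σ : MulAut (Bar R X), σ * z = z * σ := fun σ => MulEquiv.ext fun x => by
    rw [MulAut.mul_apply, MulAut.mul_apply, hzd, hzd, map_inv]
  have hcom' : ∀ s t : T, Q s * Q t = Q t * Q s ∨ Q s * Q t = z * (Q t * Q s) := by
    intro s t
    have e : Q ⁅s, t⁆ * (Q t * Q s) = Q s * Q t := by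
      rw [← map_mul, ← map_mul, ← map_mul]
      exact congrArg Q (by rw [commutatorElement_def]; group)
    rcases hcom s t with hh | hh
    · left; rw [← e, hh, one_mul]
    · right; rw [← e, show Q ⁅s, t⁆ = z from MulEquiv.ext fun x => by rw [hh, hzd]]
  have hinv' : ∀ t, Q t * Q t = 1 → Q t = 1 ∨ Q t = z := fun t ht =>
    (hinvol t ht).imp_right fun hh => MulEquiv.ext fun x => by rw [hh, hzd]
  -- squares are central
  have hsqc : ∀ s t, Q (s * s) * Q t = Q t * Q (s * s) := by
    intro s t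
    rw [map_mul, mul_assoc]
    rcases hcom' s t with e | e
    · rw [e, ← mul_assoc, e, mul_assoc]
    · rw [e, ← mul_assoc, hzc, mul_assoc, ← mul_assoc (Q s), e, ← mul_assoc z, ← mul_assoc z, hzz,
        one_mul, mul_assoc]
  -- central elements are scalars `±1`
  have hsq : ∀ t, Q (t * t) = 1 ∨ Q (t * t) = z := by
    by_contra hc
    push Not at hc
    obtain ⟨c₀, hc₀1, hc₀z⟩ := hc
    obtain ⟨Z, hZ⟩ : ∃ Z : Subgroup T, ∀ t, t ∈ Z ↔ ∀ s, Q t * Q s = Q s * Q t :=
      ⟨{ carrier := {t | ∀ s, Q t * Q s = Q s * Q t}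
         one_mem' := fun s => by rw [map_one, one_mul, mul_one]
         mul_mem' := fun {a b} ha hb s => by rw [map_mul, mul_assoc, hb s, ← mul_assoc, ha s, mul_assoc]
         inv_mem' := fun {a} ha s => by
           rw [map_inv, eq_comm, eq_inv_mul_iff_mul_eq, ← mul_assoc, ha s, mul_inv_cancel_right] },
        fun _ => Iff.rfl⟩
    obtain ⟨C, hCdef⟩ : ∃ C : Subgroup (MulAut (Bar R X)), C = Z.map Q := ⟨_, rfl⟩
    have hCp : IsPGroup 2 C := hCdef ▸ ((h.hT.to_subgroup Z).map Q)
    haveI : Fact (Nat.Prime 2) := ⟨Nat.prime_two⟩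
    have hCu : Solv.UniqueOrderP 2 C := by
      have key : ∀ x : C, orderOf x = 2 → (x : MulAut (Bar R X)) = z := by
        intro x hx
        obtain ⟨t, ht, hxt⟩ := Subgroup.mem_map.1 (hCdef.le x.2)
        have h2 : Q t * Q t = 1 := by
          have := pow_orderOf_eq_one x
          rw [hx, pow_two] at this
          rw [hxt]; exact congrArg Subtype.val this
        rcases hinv' t h2 with e | e
        · exfalso
          rw [hxt] at e
          rw [show x = 1 from Subtype.ext e, orderOf_one] at hx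
          omega
        · rw [← hxt, e]
      intro x y hx hy hy1
      by_cases hx1 : x = 1
      · rw [hx1]; exact one_mem _
      refine Subgroup.mem_zpowers_iff.2 ⟨1, ?_⟩
      rw [zpow_one]
      exact Subtype.ext ((key y (orderOf_eq_prime hy hy1)).trans (key x (orderOf_eq_prime hx hx1)).symm)
    obtain ⟨g, -, hg⟩ := Solv.abelian_cyclic_of_unique hCp hCu ⊤ (fun x _ y _ => Subtype.ext (by
      obtain ⟨t, ht, hxt⟩ := Subgroup.mem_map.1 (hCdef.le x.2)
      obtain ⟨s, -, hys⟩ := Subgroup.mem_map.1 (hCdef.le y.2)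
      show (x : MulAut (Bar R X)) * y = y * x
      rw [← hxt, ← hys, (hZ t).1 ht s]))
    obtain ⟨tg, htgZ, htg⟩ := Subgroup.mem_map.1 (hCdef.le g.2)
    have hgen : ∀ t ∈ Z, ∃ i : ℕ, Q t = Q tg ^ i := fun t ht => by
      have h2 : (⟨Q t, hCdef ▸ Subgroup.mem_map_of_mem Q ht⟩ : C) ∈ Subgroup.zpowers g := hg ▸ Subgroup.mem_top _
      obtain ⟨i, hi⟩ := (IsOfFinOrder.mem_powers_iff_mem_zpowers (isOfFinOrder_of_finite g)).2 h2
      exact ⟨i, by rw [htg]; exact (congrArg Subtype.val hi).symm⟩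
    obtain ⟨e, he⟩ := (((h.hT.to_subgroup (⊤ : Subgroup T)).map Q).to_le (show Subgroup.zpowers (Q tg) ≤ _ from
      Subgroup.zpowers_le.2 ⟨tg, Subgroup.mem_top _, rfl⟩)).exists_card_eq
    rw [Nat.card_zpowers] at he
    -- every noncentral element squares to an odd power of the generator
    have hodd' : ∀ t, t ∉ Z → ∃ m : ℕ, Q (t * t) = Q tg ^ (2 * m + 1) := by
      intro t ht
      obtain ⟨i, hi⟩ := hgen (t * t) ((hZ _).2 (hsqc t))
      rcases Nat.even_or_odd i with ⟨m, rfl⟩ | ⟨m, rfl⟩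
      · exfalso
        obtain ⟨m', hm'⟩ : ∃ m' : ℕ, Q tg ^ m * Q tg ^ m' = 1 :=
          ⟨orderOf (Q tg) * m - m, by
            rw [← pow_add, Nat.add_sub_cancel' (Nat.le_mul_of_pos_left m (orderOf_pos _)), pow_mul,
              pow_orderOf_eq_one, one_pow]⟩
        have hcm : ∀ j : ℕ, Q t * Q tg ^ j = Q tg ^ j * Q t := fun j =>
          ((show Commute (Q tg) (Q t) from (hZ tg).1 htgZ t).pow_left j).symm.eq
        have h2 : Q (t * tg ^ m') * Q (t * tg ^ m') = 1 := by
          rw [map_mul, map_pow, mul_assoc, ← mul_assoc (Q tg ^ m'), ← hcm, mul_assoc, ← mul_assoc,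
            ← map_mul, hi, pow_add, mul_assoc (Q tg ^ m) (Q tg ^ m), ← mul_assoc (Q tg ^ m) (Q tg ^ m') (Q tg ^ m'),
            hm', one_mul, hm']
        refine ht ((hZ t).2 fun s => ?_)
        have e3 : Q t = Q (t * tg ^ m') * Q tg ^ m := by
          rw [map_mul, map_pow, mul_assoc, show Q tg ^ m' * Q tg ^ m = 1 by
            rw [← pow_mul_comm]; exact hm', mul_one]
        have e4 : Commute (Q tg ^ m) (Q s) := (show Commute (Q tg) (Q s) from (hZ tg).1 htgZ s).pow_left m
        rcases hinv' _ h2 with e | e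
        · rw [e3, e, one_mul, e4.eq]
        · rw [e3, e, mul_assoc, e4.eq, ← mul_assoc, ← hzc, mul_assoc]
      · exact ⟨m, hi⟩
    obtain ⟨s, t, hst⟩ := hnab
    have hs : s ∉ Z := fun hh => hst ((hZ s).1 hh t)
    have ht : t ∉ Z := fun hh => hst ((hZ t).1 hh s).symm
    have hst' : s * t ∉ Z := fun hh => hst (by
      have := (hZ _).1 hh s
      rw [map_mul, mul_assoc] at this
      exact (mul_left_cancel this).symm)
    obtain ⟨ms, hms⟩ := hodd' s hs
    obtain ⟨mt, hmt⟩ := hodd' t ht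
    obtain ⟨mu, hmu⟩ := hodd' _ hst'
    have hzC : ∃ i : ℕ, z = Q tg ^ (2 * i) := by
      rcases hcom s t with hh | hh
      · refine absurd ?_ hst
        have e : Q ⁅s, t⁆ * (Q t * Q s) = Q s * Q t := by
          rw [← map_mul, ← map_mul, ← map_mul]
          exact congrArg Q (by rw [commutatorElement_def]; group)
        rw [← e, hh, one_mul]
      · obtain ⟨i, hi⟩ := hgen ⁅s, t⁆ ((hZ _).2 fun s' => by
          rw [show Q ⁅s, t⁆ = z from MulEquiv.ext fun x => by rw [hh, hzd], ← hzc])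
        have hi' : z = Q tg ^ i := by
          rw [← hi]; exact MulEquiv.ext fun x => by rw [hh, hzd]
        rcases Nat.even_or_odd i with ⟨m, rfl⟩ | hiodd
        · exact ⟨m, by rw [hi', two_mul]⟩
        exfalso
        have hord : orderOf (Q tg) ∣ 2 := by
          have h5 : (Q tg ^ i) ^ 2 = 1 := by rw [← hi', pow_two, hzz]
          rw [← pow_mul] at h5
          have h6 : orderOf (Q tg) ∣ i * 2 := orderOf_dvd_of_pow_eq_one h5
          rw [he] at h6 ⊢
          exact (Nat.Coprime.pow_left e (Nat.coprime_two_left.2 hiodd)).dvd_of_dvd_mul_left h6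
        obtain ⟨l, hl⟩ := hgen (c₀ * c₀) ((hZ _).2 (hsqc c₀))
        rcases Nat.even_or_odd l with ⟨m, rfl⟩ | ⟨m, rfl⟩
        · refine hc₀1 ?_
          rw [hl, ← two_mul, pow_mul, orderOf_dvd_iff_pow_eq_one.1 hord, one_pow]
        · refine hc₀z ?_
          obtain ⟨m', rfl⟩ := hiodd
          rw [hl, hi', pow_succ, pow_succ, pow_mul, pow_mul, orderOf_dvd_iff_pow_eq_one.1 hord, one_pow, one_pow]
    obtain ⟨iz, hiz⟩ := hzC
    have hprod : Q ((s * t) * (s * t)) = z * (Q (s * s) * Q (t * t)) := by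
      simp only [map_mul]
      rcases hcom' t s with e | e
      · exact absurd e.symm hst
      · rw [show Q s * Q t * (Q s * Q t) = Q s * (Q t * Q s) * Q t by group, e, ← mul_assoc (Q s) z, hzc]
        simp only [mul_assoc]
    rw [hmu, hms, hmt, hiz, ← pow_add, ← pow_add] at hprod
    have hmod := (pow_inj_mod.1 hprod)
    rw [he] at hmod
    rcases Nat.eq_zero_or_pos e with rfl | hepos
    · rw [pow_zero] at he
      rw [orderOf_eq_one_iff.1 he, one_pow] at hiz
      exact hz1 hiz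
    · have h2 : 2 ∣ 2 ^ e := dvd_pow_self 2 hepos.ne'
      have := Nat.ModEq.of_dvd h2 (show 2 * mu + 1 ≡ 2 * iz + (2 * ms + 1 + (2 * mt + 1)) [MOD 2 ^ e] from hmod)
      unfold Nat.ModEq at this
      omega
  obtain ⟨s, t, hst⟩ := hnab
  have hne1 : ∀ s t, ¬ Q s * Q t = Q t * Q s → Q (s * s) = z := by
    intro s t hst
    rcases hsq s with hh | hh
    · exfalso
      rw [map_mul] at hh
      rcases hinv' s hh with e | e
      · exact hst (by rw [e, one_mul, mul_one])
      · exact hst (by rw [e, ← hzc])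
    · exact hh
  obtain ⟨I, hI⟩ : ∃ I, I = Q s := ⟨_, rfl⟩
  obtain ⟨J, hJ⟩ : ∃ J, J = Q t := ⟨_, rfl⟩
  have hI2 : I * I = z := by rw [hI, ← map_mul]; exact hne1 s t hst
  have hJ2 : J * J = z := by rw [hJ, ← map_mul]; exact hne1 t s (fun e => hst e.symm)
  have hIJ : J * I = z * (I * J) := by
    rw [hI, hJ]
    rcases hcom' t s with e | e
    · exact absurd e.symm hst
    · exact e
  have hI2' : ∀ x, I (I x) = x⁻¹ := fun x => by rw [← MulAut.mul_apply, hI2, hzd]
  have hJ2' : ∀ x, J (J x) = x⁻¹ := fun x => by rw [← MulAut.mul_apply, hJ2, hzd]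
  have hIJ' : ∀ x, J (I x) = (I (J x))⁻¹ := fun x => by rw [← MulAut.mul_apply, hIJ, MulAut.mul_apply, hzd]; rfl
  -- the quadratic form
  obtain ⟨P, hP⟩ : ∃ P : Bar R X → k, ∀ x, P x = pb ρ W x (I x) := ⟨_, fun _ => rfl⟩
  have hthree : ∀ x₁ x₂ x₃ : Bar R X, x₁ ≠ 1 → x₂ ≠ 1 → x₃ ≠ 1 →
      P x₁ = P x₂ ∨ P x₁ = P x₃ ∨ P x₂ = P x₃ := by
    obtain ⟨a, ha⟩ : ∃ a : T, Q a = z := ⟨s * s, hne1 s t hst⟩
    subst hQ
    have ha' : ∀ x, bact h.toIsPre a x = x⁻¹ := fun x => by rw [ha, hzd]
    intro x₁ x₂ x₃ h1 h2 h3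
    rw [hP, hP, hP, hI]
    exact h.gauss ha' (i := s) (by rw [ha]; exact hne1 s t hst) (hz a s ha') x₁ x₂ x₃ h1 h2 h3
  have hPpow : ∀ x (m : ℕ), P (x ^ m) = P x ^ (m * m) := fun x m => by
    rw [hP, hP, map_pow, h.pb_pow_left, h.pb_pow_right, ← pow_mul]
  have hpbI : ∀ x y, (pb ρ W (I x) (I y) : k) = pb ρ W x y := fun x y => by
    rw [hI, hQ]; exact h.pb_bact s x y
  have hPmul : ∀ x y, P (x * y) = P x * P y * pb ρ W x (I y) ^ 2 := fun x y => by
    have e : (pb ρ W y (I x) : k) = pb ρ W x (I y) := by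
      rw [← hpbI y (I x), hI2']
      have h4 := h.pb_mul_right (I y) x x⁻¹
      rw [mul_inv_cancel, h.pb_one_right] at h4
      rw [eq_inv_of_mul_eq_one_right h4.symm, ← h.pb_swap (I y) x]
    rw [hP, hP, hP, map_mul, h.pb_mul_left, h.pb_mul_right, h.pb_mul_right, e]
    ring
  -- the exponent is a prime
  obtain ⟨x₀, hx₀⟩ := hne
  haveI : Nontrivial (Bar R X) := nontrivial_of_ne x₀ 1 hx₀
  obtain ⟨q, hq, hqd⟩ := Nat.exists_prime_and_dvd (Finite.one_lt_card (α := Bar R X)).ne'
  haveI := Fact.mk hq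
  have hexp : ∀ x : Bar R X, x ^ q = 1 := by
    let Rq : Subgroup (Bar R X) := (powMonoidHom q : Bar R X →* Bar R X).ker
    have hmem : ∀ x, x ∈ Rq ↔ x ^ q = 1 := fun x => by simp [Rq]
    rcases hirr Rq (fun g x hx => by rw [hmem] at hx ⊢; rw [← map_pow, hx, map_one]) with hb | ht
    · obtain ⟨y, hy⟩ := exists_prime_orderOf_dvd_card' q hqd
      have h7 : y ∈ Rq := (hmem y).2 (hy ▸ pow_orderOf_eq_one y)
      rw [hb, Subgroup.mem_bot] at h7
      rw [h7, orderOf_one] at hy
      exact absurd hy.symm hq.ne_one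
    · exact fun x => (hmem x).1 (ht ▸ Subgroup.mem_top x)
  have hq2 : q ≠ 2 := fun e => by
    subst e
    exact (Nat.not_even_iff_odd.2 hodd) (even_iff_two_dvd.2 hqd)
  have hq3 : q = 3 := by
    obtain ⟨x, hx⟩ : ∃ x, P x ≠ 1 := by
      by_contra hc
      push Not at hc
      refine hx₀ (h.pb_nd fun y => ?_)
      have e := hPmul x₀ (I⁻¹ y)
      rw [hc, hc, hc, one_mul, one_mul, MulAut.inv_def, MulEquiv.apply_symm_apply] at e
      exact h.pb_eq_one_of_sq e.symm
    have hx1 : x ≠ 1 := fun e => hx (by rw [hP, e, h.pb_one_left])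
    have hord : orderOf (P x) = q := orderOf_eq_prime (by
      rw [hP, ← h.pb_pow_left, hexp, h.pb_one_left]) hx
    by_contra hne3
    have hq5 : 5 ≤ q := by
      have := hq.two_le
      rcases Nat.lt_or_ge q 5 with hlt | hge
      · interval_cases q <;> simp_all (config := { decide := true })
      · exact hge
    have hne' : ∀ m : ℕ, ¬ q ∣ m → x ^ m ≠ 1 := fun m hm e => hm (by
      have : orderOf x = q := orderOf_eq_prime (hexp x) hx1
      rw [← this]; exact orderOf_dvd_of_pow_eq_one e)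
    have hPne : ∀ i j : ℕ, i % q ≠ j % q → P x ^ i ≠ P x ^ j := fun i j hij e => hij (by
      have hne0 : P x ≠ 0 := fun h0 => by
        have := pow_orderOf_eq_one (P x)
        rw [hord, h0, zero_pow hq.ne_zero] at this
        exact zero_ne_one this
      have h1 : Units.mk0 (P x) hne0 ^ i = Units.mk0 (P x) hne0 ^ j := Units.ext (by simpa using e)
      have h2 := pow_inj_mod.1 h1
      rwa [← orderOf_units, Units.val_mk0, hord] at h2)
    have e1 : P x ≠ P (x ^ 2) := by
      rw [hPpow]; nth_rewrite 1 [← pow_one (P x)]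
      exact hPne 1 4 (by rw [Nat.mod_eq_of_lt (show 1 < q by omega), Nat.mod_eq_of_lt (show 4 < q by omega)]; omega)
    have hx2 : x ^ 2 ≠ 1 := hne' 2 (fun hd => by have := Nat.le_of_dvd two_pos hd; omega)
    rcases Nat.lt_or_ge q 6 with hlt | hge
    · obtain rfl : q = 5 := by omega
      obtain ⟨y, hy, hy1⟩ : ∃ y, y ≠ 1 ∧ P y = 1 := by
        by_cases hu : I x * x ^ 2 = 1
        · refine ⟨x, hx1, ?_⟩
          rw [hP, eq_inv_of_mul_eq_one_left hu]
          have h4 := h.pb_mul_right x (x ^ 2)⁻¹ (x ^ 2)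
          rw [inv_mul_cancel, h.pb_one_right, h.pb_pow_right, h.pb_self, one_pow, mul_one] at h4
          exact h4.symm
        · refine ⟨_, hu, ?_⟩
          have e : I (I x * x ^ 2) = (I x * x ^ 2) ^ 2 := by
            rw [map_mul, map_pow, hI2', mul_pow, ← pow_mul]
            have h5 : x ^ (2 * 2) = x⁻¹ := eq_inv_of_mul_eq_one_left (by rw [← pow_succ]; exact hexp x)
            rw [h5, mul_comm]
          rw [hP, e, h.pb_pow_right, h.pb_self, one_pow]
      have e2 : P x ≠ P y := by rw [hy1]; exact hx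
      have e3 : P (x ^ 2) ≠ P y := by
        rw [hy1, hPpow, ← pow_zero (P x)]
        exact hPne 4 0 (by norm_num)
      rcases hthree x (x ^ 2) y hx1 hx2 hy with e | e | e
      · exact e1 e
      · exact e2 e
      · exact e3 e
    · have hq7 : 7 ≤ q := by
        rcases Nat.lt_or_ge q 7 with h' | h'
        · obtain rfl : q = 6 := by omega
          norm_num at hq
        · exact h'
      have hx3 : x ^ 3 ≠ 1 := hne' 3 (fun hd => by have := Nat.le_of_dvd (by norm_num) hd; omega)
      have e2 : P x ≠ P (x ^ 3) := by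
        rw [hPpow]; nth_rewrite 1 [← pow_one (P x)]
        refine hPne 1 9 fun e => ?_
        have h8 : q ∣ 8 := (Nat.modEq_iff_dvd' (by norm_num : 1 ≤ 9)).1 e
        have := Nat.le_of_dvd (by norm_num) h8
        interval_cases q <;> first | omega | norm_num at hq
      have e3 : P (x ^ 2) ≠ P (x ^ 3) := by
        rw [hPpow, hPpow]
        refine hPne 4 9 fun e => ?_
        have h8 : q ∣ 5 := (Nat.modEq_iff_dvd' (by norm_num : 4 ≤ 9)).1 e
        have := Nat.le_of_dvd (by norm_num) h8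
        omega
      rcases hthree x (x ^ 2) (x ^ 3) hx1 hx2 hx3 with e | e | e
      · exact e1 e
      · exact e2 e
      · exact e3 e
  subst hq3
  have hx3 : ∀ x : Bar R X, x * x = x⁻¹ := fun x =>
    eq_inv_of_mul_eq_one_left (by rw [← pow_two, ← pow_succ]; exact hexp x)
  -- an eigenvector of `I + J`
  obtain ⟨u, hu, hε⟩ : ∃ u : Bar R X, u ≠ 1 ∧ (J u = (I u)⁻¹ * u ∨ J u = (I u)⁻¹ * u⁻¹) := by
    by_cases hw : x₀ * (I x₀ * J x₀) = 1
    · refine ⟨x₀, hx₀, Or.inr ?_⟩
      rw [← mul_inv_rev, mul_comm x₀]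
      rw [← mul_assoc, mul_comm, ← mul_assoc] at hw
      have h5 : J x₀ * (x₀ * I x₀) = 1 := by rw [← mul_assoc]; exact hw
      rw [eq_inv_of_mul_eq_one_left h5, mul_comm x₀]
    · refine ⟨_, hw, Or.inl ?_⟩
      simp only [map_mul, hI2', hJ2', hIJ', mul_inv_rev, inv_inv]
      have hA : x₀ * x₀ = x₀⁻¹ := hx3 x₀
      calc J x₀ * ((I (J x₀))⁻¹ * x₀⁻¹)
          = J x₀ * (I (J x₀))⁻¹ * (x₀ * x₀) := by rw [hA]; ac_rfl
        _ = (I x₀ * (I x₀)⁻¹) * (J x₀ * (I (J x₀))⁻¹ * (x₀ * x₀)) := by rw [mul_inv_cancel, one_mul]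
        _ = _ := by ac_rfl
  -- the plane of `u`
  obtain ⟨H, hH⟩ : ∃ H : Subgroup (Bar R X), H = Subgroup.zpowers u ⊔ Subgroup.zpowers (I u) := ⟨_, rfl⟩
  have huH : u ∈ H := hH ▸ Subgroup.mem_sup_left (Subgroup.mem_zpowers u)
  have hIuH : I u ∈ H := hH ▸ Subgroup.mem_sup_right (Subgroup.mem_zpowers _)
  have hstab : ∀ σ : MulAut (Bar R X), σ u ∈ H → σ (I u) ∈ H → ∀ x ∈ H, σ x ∈ H := by
    intro σ h1 h2 x hx
    have : H ≤ H.comap σ.toMonoidHom := by
      conv_lhs => rw [hH]
      exact sup_le (Subgroup.zpowers_le.2 h1) (Subgroup.zpowers_le.2 h2)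
    exact this hx
  have hJu : J u ∈ H := by
    rcases hε with e | e <;> rw [e]
    exacts [mul_mem (inv_mem hIuH) huH, mul_mem (inv_mem hIuH) (inv_mem huH)]
  have hIH : ∀ x ∈ H, I x ∈ H := hstab I hIuH (by rw [hI2']; exact inv_mem huH)
  have hJH : ∀ x ∈ H, J x ∈ H := hstab J hJu (by rw [hIJ']; exact inv_mem (hIH _ hJu))
  have hzH : ∀ x ∈ H, z x ∈ H := fun x hx => by rw [hzd]; exact inv_mem hx
  have hHinv : ∀ g, ∀ x ∈ H, Q g x ∈ H := by
    intro g
    -- adjust to a central element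
    have hcs : ∀ g : T, Q g * I = I * Q g ∨ Q g * I = z * (I * Q g) := fun g => hI ▸ hcom' g s
    have hct : ∀ g : T, Q g * J = J * Q g ∨ Q g * J = z * (J * Q g) := fun g => hJ ▸ hcom' g t
    have hcen : ∀ g : T, Q g * I = I * Q g → Q g * J = J * Q g → ∀ x ∈ H, Q g x ∈ H := by
      intro g hgI hgJ x hx
      rcases hsq g with hh | hh
      · rw [map_mul] at hh
        rcases hinv' g hh with e | e
        · rw [e]; exact hx
        · rw [e]; exact hzH x hx
      · exfalso
        rw [map_mul] at hh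
        have h2 : Q (g * s) * Q (g * s) = 1 := by
          rw [map_mul, ← hI, show Q g * I * (Q g * I) = Q g * (I * Q g) * I by group, ← hgI,
            show Q g * (Q g * I) * I = Q g * Q g * (I * I) by group, hh, hI2, hzz]
        rcases hinv' _ h2 with e | e
        · rw [map_mul, ← hI] at e
          rw [eq_inv_of_mul_eq_one_left e] at hgJ
          have h5 : I * J = J * I := by
            have h6 := congrArg (fun w => I * w * I) hgJ
            simp only [mul_assoc, inv_mul_cancel, mul_one, mul_inv_cancel_left] at h6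
            exact h6.symm
          exact hst (hI ▸ hJ ▸ h5)
        · rw [map_mul, ← hI] at e
          have hg1 : Q g = z * I⁻¹ := by rw [← e, mul_inv_cancel_right]
          rw [hg1] at hgJ
          have h5 : I * J = J * I := by
            rw [← mul_assoc J, hzc, mul_assoc, mul_assoc] at hgJ
            exact (Commute.inv_left_iff.1 (show Commute I⁻¹ J from mul_left_cancel hgJ)).eq
          exact hst (hI ▸ hJ ▸ h5)
    have hJIz : I * J = z * (J * I) := by rw [hIJ, ← mul_assoc, hzz, one_mul]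
    rcases hcs g with gI | gI <;> rcases hct g with gJ | gJ
    · exact hcen g gI gJ
    · intro x hx
      have e1 : Q (g * s) * I = I * Q (g * s) := by rw [map_mul, ← hI, mul_assoc, ← mul_assoc I, ← gI, mul_assoc]
      have e2 : Q (g * s) * J = J * Q (g * s) := by
        rw [map_mul, ← hI, mul_assoc, hJIz, ← mul_assoc, hzc, mul_assoc, ← mul_assoc (Q g) J, gJ,
          ← mul_assoc z (z * _), ← mul_assoc z z, hzz, one_mul, mul_assoc]
      have := hcen (g * s) e1 e2 (I⁻¹ x) ?_
      · rwa [map_mul, ← hI, MulAut.mul_apply, MulAut.inv_def, MulEquiv.apply_symm_apply] at this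
      · rw [show I⁻¹ x = (I x)⁻¹ by
          apply I.injective
          rw [map_inv, hI2', inv_inv, MulAut.inv_def, MulEquiv.apply_symm_apply]]
        exact inv_mem (hIH x hx)
    · intro x hx
      have e1 : Q (g * t) * J = J * Q (g * t) := by rw [map_mul, ← hJ, mul_assoc, ← mul_assoc J, ← gJ, mul_assoc]
      have e2 : Q (g * t) * I = I * Q (g * t) := by
        rw [map_mul, ← hJ, mul_assoc, hIJ, ← mul_assoc, hzc, mul_assoc, ← mul_assoc (Q g) I, gI,
          ← mul_assoc z (z * _), ← mul_assoc z z, hzz, one_mul, mul_assoc]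
      have := hcen (g * t) e2 e1 (J⁻¹ x) ?_
      · rwa [map_mul, ← hJ, MulAut.mul_apply, MulAut.inv_def, MulEquiv.apply_symm_apply] at this
      · rw [show J⁻¹ x = (J x)⁻¹ by
          apply J.injective
          rw [map_inv, hJ2', inv_inv, MulAut.inv_def, MulEquiv.apply_symm_apply]]
        exact inv_mem (hJH x hx)
    · intro x hx
      have hK : ∀ x ∈ H, (I * J)⁻¹ x ∈ H := fun x hx => by
        rw [mul_inv_rev, MulAut.mul_apply]
        rw [show I⁻¹ x = (I x)⁻¹ by
          apply I.injective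
          rw [map_inv, hI2', inv_inv, MulAut.inv_def, MulEquiv.apply_symm_apply]]
        rw [show J⁻¹ ((I x)⁻¹) = J (I x) by
          apply J.injective
          rw [hJ2', MulAut.inv_def, MulEquiv.apply_symm_apply]]
        exact hJH _ (hIH x hx)
      have e1 : Q (g * (s * t)) * I = I * Q (g * (s * t)) := by
        rw [map_mul, map_mul, ← hI, ← hJ,
          show Q g * (I * J) * I = Q g * I * (J * I) by group, gI, hIJ,
          show z * (I * Q g) * (z * (I * J)) = z * ((I * Q g) * z) * (I * J) by group, hzc, ← mul_assoc z z,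
          hzz, one_mul, mul_assoc]
      have e2 : Q (g * (s * t)) * J = J * Q (g * (s * t)) := by
        rw [map_mul, map_mul, ← hI, ← hJ]
        nth_rewrite 1 [hJIz]
        rw [← mul_assoc (Q g) z, hzc, show z * Q g * (J * I) * J = z * (Q g * J) * (I * J) by group, gJ,
          ← mul_assoc z z, hzz, one_mul, mul_assoc]
      have := hcen (g * (s * t)) e1 e2 _ (hK x hx)
      rwa [map_mul, map_mul, ← hI, ← hJ, MulAut.mul_apply, MulAut.inv_def, MulEquiv.apply_symm_apply] at this
  have htop : H = ⊤ := (hirr H hHinv).resolve_left fun hb => hu ((Subgroup.mem_bot).1 (hb ▸ huH))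
  have hcard : Nat.card (Bar R X) ≤ 9 := by
    refine (Nat.card_le_card_of_surjective (fun p : Subgroup.zpowers u × Subgroup.zpowers (I u) =>
      (p.1 : Bar R X) * p.2) fun x => ?_).trans ?_
    · have hx : x ∈ Subgroup.zpowers u ⊔ Subgroup.zpowers (I u) := hH ▸ htop ▸ Subgroup.mem_top x
      obtain ⟨a, ha, b, hb, e⟩ := Subgroup.mem_sup.1 hx
      exact ⟨(⟨a, ha⟩, ⟨b, hb⟩), e⟩
    · rw [Nat.card_prod, Nat.card_zpowers, Nat.card_zpowers]
      have h5 : ∀ v : Bar R X, orderOf v ≤ 3 := fun v =>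
        Nat.le_of_dvd (by norm_num) (orderOf_dvd_of_pow_eq_one (hexp v))
      exact Nat.mul_le_mul (h5 u) (h5 (I u))
  have hp3 : IsPGroup 3 (Bar R X) := fun x => ⟨1, by rw [pow_one]; exact hexp x⟩
  obtain ⟨j, hj⟩ := hp3.exists_card_eq
  have hj2 : 2 ≤ j := by
    by_contra hlt
    have hcyc : IsCyclic (Bar R X) := by
      interval_cases j
      · haveI : Subsingleton (Bar R X) := (Nat.card_eq_one_iff_unique.1 (by simpa using hj)).1
        exact isCyclic_of_subsingleton
      · exact isCyclic_of_prime_card (p := 3) (by simpa using hj)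
    obtain ⟨g, hg⟩ := IsCyclic.exists_generator (α := Bar R X)
    refine hx₀ (h.pb_nd fun y => ?_)
    obtain ⟨a, rfl⟩ := (IsOfFinOrder.mem_powers_iff_mem_zpowers (isOfFinOrder_of_finite g)).2 (hg x₀)
    obtain ⟨b, rfl⟩ := (IsOfFinOrder.mem_powers_iff_mem_zpowers (isOfFinOrder_of_finite g)).2 (hg y)
    rw [h.pb_pow_left, h.pb_pow_right, h.pb_self, one_pow, one_pow]
  have hge : 9 ≤ Nat.card (Bar R X) := by
    rw [hj]
    calc 9 = 3 ^ 2 := by norm_num
      _ ≤ 3 ^ j := Nat.pow_le_pow_right (by norm_num) hj2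
  omega

end IsExt

end Cfsg.Agent.Solv.D2
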