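import Cfsg.Agent.Lib.Solv.DerivedTwo.Plane

/-!
Subgroups of `R / X`: restriction, orthogonal complements, and simple modules for an orthogonal pair.
-/

set_option autoImplicit false
set_option linter.style.haveILetI false
set_option linter.unusedSectionVars false

namespace Cfsg.Agent.Solv.D2

attribute [local instance] Fintype.ofFinite

open scoped commutatorElement
open Solv.CRep (rep_inv_apply rep_apply_inv)

universe u v

variable {G : Type u} [Group G] [Finite G] {k : Type*} [Field k] [IsAlgClosed k] [CharP k 2]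
  {V : Type v} [AddCommGroup V] [Module k V] [FiniteDimensional k V]

/-- The preimage of a subgroup of `R / X`. -/
def pre (R X : Subgroup G) (H : Subgroup (Bar R X)) : Subgroup G := (H.comap (bar R X)).map R.subtype

variable {ρ : G →* Module.End k V} {T T₀ R X : Subgroup G} {W W₀ : Submodule k V} {H K : Subgroup (Bar R X)}

theorem mem_pre {g : G} : g ∈ pre R X H ↔ ∃ hg : g ∈ R, bar R X ⟨g, hg⟩ ∈ H := by
  refine ⟨?_, fun ⟨hg, h⟩ => ⟨⟨g, hg⟩, h, rfl⟩⟩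
  rintro ⟨r, hr, rfl⟩
  exact ⟨r.2, hr⟩

theorem pre_le (H : Subgroup (Bar R X)) : pre R X H ≤ R := Subgroup.map_subtype_le _

theorem le_pre (h : IsPre ρ T R X W) : X ≤ pre R X H := fun x hx =>
  mem_pre.2 ⟨h.hXR hx, by rw [(bar_eq_one h).2 hx]; exact one_mem H⟩

theorem card_pre_lt (hH : H ≠ ⊤) : Nat.card (pre R X H) < Nat.card R := by
  refine (Subgroup.card_le_of_le (pre_le H)).lt_of_ne fun e => hH ((Subgroup.eq_top_iff' H).2 fun x => ?_)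
  obtain ⟨r, rfl⟩ := QuotientGroup.mk'_surjective (barK R X) x
  obtain ⟨hr, h⟩ := mem_pre.1 ((Subgroup.eq_of_le_of_card_ge (pre_le H) e.ge).symm ▸ r.2 : (r : G) ∈ pre R X H)
  exact h

theorem le_normalizer_pre (h : IsPre ρ T R X W) (hT₀ : T₀ ≤ T)
    (hinv : ∀ t : T, (t : G) ∈ T₀ → ∀ x ∈ H, bact h t x ∈ H) :
    T₀ ≤ Subgroup.normalizer (pre R X H : Set G) := by
  have key : ∀ t ∈ T₀, ∀ r ∈ pre R X H, t * r * t⁻¹ ∈ pre R X H := fun t ht r hr => by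
    obtain ⟨hrR, hr⟩ := mem_pre.1 hr
    exact mem_pre.2 ⟨conj_mem_R h ⟨t, hT₀ ht⟩ ⟨r, hrR⟩, hinv ⟨t, hT₀ ht⟩ ht _ hr⟩
  refine fun t ht => Subgroup.mem_normalizer_iff.2 fun r => ⟨key t ht r, fun hr => ?_⟩
  simpa [mul_assoc] using key t⁻¹ (inv_mem ht) _ hr

/-- The embedding of `pre H / X`. -/
noncomputable def inc (H : Subgroup (Bar R X)) : Bar (pre R X H) X →* Bar R X :=
  QuotientGroup.lift (barK (pre R X H) X) ((bar R X).comp (Subgroup.inclusion (pre_le H))) (by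
    refine sup_le (fun r hr => MonoidHom.mem_ker.2 ?_) (Abelianization.commutator_subset_ker _)
    exact (QuotientGroup.eq_one_iff _).2 ((le_sup_left : X.subgroupOf R ≤ barK R X) hr))

theorem inc_bar (H : Subgroup (Bar R X)) (r : pre R X H) :
    inc H (bar (pre R X H) X r) = bar R X ⟨r, pre_le H r.2⟩ := rfl

theorem inc_mem (H : Subgroup (Bar R X)) (x : Bar (pre R X H) X) : inc H x ∈ H := by
  obtain ⟨r, rfl⟩ := QuotientGroup.mk'_surjective (barK (pre R X H) X) x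
  obtain ⟨hr, h⟩ := mem_pre.1 r.2
  exact h

theorem exists_inc {x : Bar R X} (hx : x ∈ H) : ∃ y, inc H y = x := by
  obtain ⟨r, rfl⟩ := QuotientGroup.mk'_surjective (barK R X) x
  exact ⟨bar (pre R X H) X ⟨r, mem_pre.2 ⟨r.2, hx⟩⟩, rfl⟩

theorem inc_injective {T₁ : Subgroup G} {W₁ : Submodule k V} (h : IsPre ρ T R X W)
    (h₀ : IsPre ρ T₁ (pre R X H) X W₁) : Function.Injective (inc H) :=
  (injective_iff_map_eq_one _).2 fun x hx => by
    obtain ⟨r, rfl⟩ := QuotientGroup.mk'_surjective (barK (pre R X H) X) x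
    rw [inc_bar, bar_eq_one h] at hx
    exact (bar_eq_one h₀).2 hx

theorem card_inc {T₁ : Subgroup G} {W₁ : Submodule k V} (h : IsPre ρ T R X W)
    (h₀ : IsPre ρ T₁ (pre R X H) X W₁) : Nat.card (Bar (pre R X H) X) = Nat.card H :=
  Nat.card_eq_of_bijective (fun x => (⟨inc H x, inc_mem H x⟩ : H))
    ⟨fun _ _ e => inc_injective h h₀ (congrArg Subtype.val e), fun x => by
      obtain ⟨y, hy⟩ := exists_inc x.2
      exact ⟨y, Subtype.ext hy⟩⟩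

theorem inc_bact (h : IsPre ρ T R X W) (h₀ : IsPre ρ T₀ (pre R X H) X W₀) (t : T₀) (ht : (t : G) ∈ T)
    (x : Bar (pre R X H) X) : inc H (bact h₀ t x) = bact h ⟨t, ht⟩ (inc H x) := by
  obtain ⟨r, rfl⟩ := QuotientGroup.mk'_surjective (barK (pre R X H) X) x
  rfl

namespace IsExt

variable (h : IsExt ρ T R X W)

include h

theorem restrictT (hT₀ : T₀ ≤ T) : IsExt ρ T₀ R X W :=
  ⟨h.toIsPre.mono hT₀ le_rfl h.hne (fun t ht => h.invT t (hT₀ ht)) h.invR, h.hne, h.hsimple⟩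

/-- The conditions for a nondegenerate invariant subgroup of `R / X`. -/
theorem restrict (hnd : ∀ a ∈ H, (∀ b ∈ H, pb ρ W a b = (1 : k)) → a = 1) (hT₀ : T₀ ≤ T)
    (hinv : ∀ t : T, (t : G) ∈ T₀ → ∀ x ∈ H, bact h.toIsPre t x ∈ H) (hW₀ : W₀ ≤ W) (hne : W₀ ≠ ⊥)
    (hinvT : ∀ t ∈ T₀, ∀ w ∈ W₀, ρ t w ∈ W₀) (hinvR : ∀ r ∈ pre R X H, ∀ w ∈ W₀, ρ r w ∈ W₀) :
    IsPre ρ T₀ (pre R X H) X W₀ where
  hT := h.hT.to_le hT₀
  hR := Odd.of_dvd_nat h.hR (Subgroup.card_dvd_of_le (pre_le H))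
  hXR := le_pre h.toIsPre
  hTR := le_normalizer_pre h.toIsPre hT₀ hinv
  hTX := hT₀.trans h.hTX
  hcomm := (Subgroup.commutator_mono (pre_le H) (pre_le H)).trans (h.hcomm.trans le_rfl)
  invT := hinvT
  invR := hinvR
  hscal x hx := by
    obtain ⟨c, hc⟩ := h.hscal x hx
    exact ⟨c, fun w hw => hc w (hW₀ hw)⟩
  hnd r hr hfix := by
    obtain ⟨hrR, hrH⟩ := mem_pre.1 hr
    refine (bar_eq_one h.toIsPre (r := ⟨r, hrR⟩)).1 (hnd _ hrH fun b hb => ?_)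
    obtain ⟨s, rfl⟩ := QuotientGroup.mk'_surjective (barK R X) b
    obtain ⟨w, hw, h0⟩ := W₀.exists_mem_ne_zero_of_ne_bot hne
    rw [h.pb_bar, pair]
    exact h.sc_eq (h.toIsPre.comm_mem hrR s.2) (hW₀ hw) h0
      ((hfix s (mem_pre.2 ⟨s.2, hb⟩) w hw).trans (one_smul k w).symm)

/-- An element fixing a coset commutes with it on `W`. -/
theorem apply_comm {t : T} {r : R} (hfix : bact h.toIsPre t (bar R X r) = bar R X r) :
    ∀ w ∈ W, ρ (r : G) (ρ (t : G) w) = ρ (t : G) (ρ (r : G) w) := by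
  have hX : ⁅(r : G), (t : G)⁆ ∈ X := by
    rw [← bar_eq_one h.toIsPre (r := ⟨_, h.commutator_mem_R r.2 t.2⟩), h.bar_commutator, hfix, mul_inv_cancel]
  obtain ⟨c, hcs⟩ := h.hscal _ hX
  have h1 : ∀ w ∈ W, ρ (r : G) (ρ (t : G) w) = c • ρ (t : G) (ρ (r : G) w) := fun w hw => by
    rw [← Module.End.mul_apply, ← map_mul, show (r : G) * t = ⁅(r : G), (t : G)⁆ * (t * r) by
      rw [commutatorElement_def]; group, map_mul, map_mul, Module.End.mul_apply, Module.End.mul_apply]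
    exact hcs _ (h.invT _ t.2 _ (h.invR _ r.2 w hw))
  have h2 : ∀ i : ℕ, ∀ w ∈ W,
      ρ (r : G) (ρ ((t : G) ^ i) w) = c ^ i • ρ ((t : G) ^ i) (ρ (r : G) w) := by
    intro i
    induction i with
    | zero => intro w _; simp
    | succ i ih =>
      intro w hw
      rw [pow_succ, map_mul, Module.End.mul_apply, ih _ (h.invT _ t.2 w hw), h1 w hw, map_smul,
        smul_smul, ← pow_succ]
      rfl
  obtain ⟨j, hj⟩ := h.hT t
  obtain ⟨w₀, hw₀, h0⟩ := h.exists_ne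
  have h3 := h2 (2 ^ j) w₀ hw₀
  rw [show (t : G) ^ 2 ^ j = 1 from congrArg Subtype.val hj, map_one, Module.End.one_apply,
    Module.End.one_apply] at h3
  have hr0 : ρ (r : G) w₀ ≠ 0 := fun hz => h0 ((rep_inv_apply ρ _ w₀).symm.trans (by rw [hz, map_zero]))
  have hc1 : c = 1 := eq_one_of_pow (j := j) (smul_left_injective k hr0 (h3.symm.trans (one_smul k _).symm))
  intro w hw
  rw [h1 w hw, hc1, one_smul]

/-- The orthogonal complement. -/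
noncomputable def orth (H : Subgroup (Bar R X)) : Subgroup (Bar R X) where
  carrier := {a | ∀ b ∈ H, pb ρ W a b = (1 : k)}
  one_mem' := fun b _ => h.pb_one_left b
  mul_mem' := fun {a a'} ha ha' b hb => by rw [h.pb_mul_left, ha b hb, ha' b hb, one_mul]
  inv_mem' := fun {a} ha b hb => by
    have e := h.pb_mul_left a a⁻¹ b
    rw [mul_inv_cancel, h.pb_one_left, ha b hb, one_mul] at e
    exact e.symm

theorem mem_orth {a : Bar R X} : a ∈ h.orth H ↔ ∀ b ∈ H, pb ρ W a b = (1 : k) := Iff.rfl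

theorem orth_invariant (hinv : ∀ t : T, (t : G) ∈ T₀ → ∀ x ∈ H, bact h.toIsPre t x ∈ H) :
    ∀ t : T, (t : G) ∈ T₀ → ∀ x ∈ h.orth H, bact h.toIsPre t x ∈ h.orth H := by
  intro t ht x hx b hb
  have h1 : bact h.toIsPre t (bact h.toIsPre t⁻¹ b) = b := by
    rw [← MulAut.mul_apply, ← map_mul, mul_inv_cancel, map_one, MulAut.one_apply]
  rw [← h1, h.pb_bact]
  exact hx _ (hinv t⁻¹ (by simpa using inv_mem ht) b hb)

theorem orth_ne_bot (hH : H ≠ ⊤) : h.orth H ≠ ⊥ := by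
  intro hb
  obtain ⟨e, he⟩ : ∃ e : Bar R X → (H →* k), ∀ a (b : H), e a b = pb ρ W a b :=
    ⟨fun a => MonoidHom.mk ⟨fun b => pb ρ W a b, h.pb_one_right a⟩ fun b b' => h.pb_mul_right a b b',
      fun _ _ => rfl⟩
  have hinj : Function.Injective e := fun a a' hee => by
    have h2 : a * a'⁻¹ ∈ h.orth H := fun b hb' => by
      have h3 : (pb ρ W a b : k) = pb ρ W a' b := by rw [← he a ⟨b, hb'⟩, hee, he]
      have h4 := h.pb_mul_left a' a'⁻¹ b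
      rw [mul_inv_cancel, h.pb_one_left] at h4
      rw [h.pb_mul_left, h3, ← h4]
    rw [hb, Subgroup.mem_bot] at h2
    exact mul_inv_eq_one.1 h2
  have hli := linearIndependent_monoidHom H k
  haveI : Finite (H →* k) := hli.finite
  have hcard : Nat.card (H →* k) ≤ Nat.card H := by
    have h5 := hli.fintype_card_le_finrank
    rwa [Module.finrank_fintype_fun_eq_card, ← Nat.card_eq_fintype_card, ← Nat.card_eq_fintype_card] at h5
  exact hH (Subgroup.eq_top_of_le_card H ((Nat.card_le_card_of_injective e hinj).trans hcard))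

/-- For orthogonal subgroups, the values of the intertwiners at a fixed vector contain a simple module of
the second one. -/
theorem partner (horth : ∀ a ∈ K, ∀ b ∈ H, pb ρ W a b = (1 : k))
    (hnd : ∀ a ∈ K, (∀ b ∈ K, pb ρ W a b = (1 : k)) → a = 1) (hT₀ : T₀ ≤ T)
    (hinvK : ∀ t : T, (t : G) ∈ T₀ → ∀ x ∈ K, bact h.toIsPre t x ∈ K)
    (h₀ : IsExt ρ T₀ (pre R X H) X W₀) (hW₀ : W₀ ≤ W) :
    ∃ (w₀ : W₀) (W₂ : Submodule k V), (∀ t ∈ T₀, ρ t (w₀ : V) = w₀) ∧ W₂ ≤ W ∧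
      IsExt ρ T₀ (pre R X K) X W₂ ∧ ∀ w ∈ W₂, ∃ Φ : W₀ →ₗ[k] V,
        (∀ v, Φ v ∈ W) ∧ Intertwines ρ (pre R X H) W₀ Φ ∧ Φ w₀ = w := by
  obtain ⟨v₀, hv₀, hv₀0, hfix⟩ := exists_fixed ρ T₀ h₀.hT W₀ h₀.hne h₀.invT
  obtain ⟨w₀, hw₀⟩ : ∃ w₀ : W₀, (w₀ : V) = v₀ := ⟨⟨v₀, hv₀⟩, rfl⟩
  obtain ⟨W₁, hW₁⟩ : ∃ W₁ : Submodule k V, ∀ w, w ∈ W₁ ↔ ∃ Φ : W₀ →ₗ[k] V,
      (∀ v, Φ v ∈ W) ∧ Intertwines ρ (pre R X H) W₀ Φ ∧ Φ w₀ = w :=
    ⟨{ carrier := {w | ∃ Φ : W₀ →ₗ[k] V, (∀ v, Φ v ∈ W) ∧ Intertwines ρ (pre R X H) W₀ Φ ∧ Φ w₀ = w}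
       add_mem' := by
         rintro a b ⟨Φ, hΦ, hΦ', rfl⟩ ⟨Ψ, hΨ, hΨ', rfl⟩
         exact ⟨Φ + Ψ, fun v => W.add_mem (hΦ v) (hΨ v), fun r hr w hw => by
           rw [LinearMap.add_apply, LinearMap.add_apply, hΦ' r hr w hw, hΨ' r hr w hw, map_add], rfl⟩
       zero_mem' := ⟨0, fun _ => W.zero_mem, fun r _ w _ => by simp, rfl⟩
       smul_mem' := by
         rintro c a ⟨Φ, hΦ, hΦ', rfl⟩
         exact ⟨c • Φ, fun v => W.smul_mem c (hΦ v), fun r hr w hw => by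
           rw [LinearMap.smul_apply, LinearMap.smul_apply, hΦ' r hr w hw, map_smul], rfl⟩ }, fun _ => Iff.rfl⟩
  have hW₁W : W₁ ≤ W := fun w hw => by
    obtain ⟨Φ, hΦ, -, rfl⟩ := (hW₁ w).1 hw
    exact hΦ _
  have hne : W₁ ≠ ⊥ := fun hb => by
    have h1 : v₀ ∈ W₁ := (hW₁ _).2 ⟨W₀.subtype, fun v => hW₀ v.2, fun r _ w _ => rfl, hw₀⟩
    rw [hb, Submodule.mem_bot] at h1
    exact hv₀0 h1
  have hinvT : ∀ t ∈ T₀, ∀ w ∈ W₁, ρ t w ∈ W₁ := by
    intro t ht w hw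
    obtain ⟨Φ, hΦ, hΦ', rfl⟩ := (hW₁ w).1 hw
    obtain ⟨bk, hbk⟩ : ∃ bk : W₀ →ₗ[k] W₀, ∀ v : W₀, (bk v : V) = ρ t⁻¹ (v : V) :=
      ⟨((ρ t⁻¹).comp W₀.subtype).codRestrict W₀ fun v => h₀.invT _ (inv_mem ht) _ v.2, fun _ => rfl⟩
    refine (hW₁ _).2 ⟨(ρ t).comp (Φ.comp bk), fun v => h.invT t (hT₀ ht) _ (hΦ _), fun r hr v hv => ?_, ?_⟩
    · have hr' : t⁻¹ * r * t ∈ pre R X H := conj_mem_of_normalizer (h₀.hTR ht) hr
      simp only [LinearMap.comp_apply]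
      rw [show bk ⟨ρ r v, hv⟩ = ⟨ρ (t⁻¹ * r * t) (bk v : V), h₀.invR _ hr' _ (bk v).2⟩ from Subtype.ext (by
          rw [hbk]
          show ρ t⁻¹ (ρ r v) = ρ (t⁻¹ * r * t) (bk v : V)
          rw [hbk, ← Module.End.mul_apply, ← map_mul, ← Module.End.mul_apply, ← map_mul, mul_inv_cancel_right]),
        hΦ' _ hr', ← Module.End.mul_apply, ← map_mul, ← Module.End.mul_apply, ← map_mul]
      congr 2; group
    · simp only [LinearMap.comp_apply]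
      congr 2
      refine Subtype.ext ?_
      rw [hbk, hw₀]
      conv_lhs => rw [← hfix t ht]
      exact rep_inv_apply ρ t v₀
  have hinvR : ∀ s ∈ pre R X K, ∀ w ∈ W₁, ρ s w ∈ W₁ := by
    intro s hs w hw
    obtain ⟨Φ, hΦ, hΦ', rfl⟩ := (hW₁ w).1 hw
    obtain ⟨hsR, hsK⟩ := mem_pre.1 hs
    refine (hW₁ _).2 ⟨(ρ s).comp Φ, fun v => h.invR s hsR _ (hΦ _), fun r hr v hv => ?_, rfl⟩
    obtain ⟨hrR, hrH⟩ := mem_pre.1 hr
    rw [LinearMap.comp_apply, LinearMap.comp_apply, hΦ' r hr v hv, h.comm_apply hsR hrR (hΦ v),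
      ← h.pb_bar ⟨s, hsR⟩ ⟨r, hrR⟩, horth _ hsK _ hrH, one_smul]
  obtain ⟨W₂, hW₂, h₂⟩ := exists_invariant_simple (h.restrict hnd hT₀ hinvK hW₁W hne hinvT hinvR) hne
  exact ⟨w₀, W₂, fun t ht => by rw [hw₀]; exact hfix t ht, hW₂.trans hW₁W, h₂, fun w hw => (hW₁ w).1 (hW₂ hw)⟩

end IsExt

end Cfsg.Agent.Solv.D2
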