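import Cfsg.Agent.Lib.Solv.DerivedTwo.Prod

/-!
Weight spaces of a subgroup of odd order acting through an abelian quotient, in characteristic two.
-/

set_option autoImplicit false
set_option linter.style.haveILetI false

namespace Cfsg.Agent.Solv.D2

attribute [local instance] Fintype.ofFinite

open scoped commutatorElement

universe u v

variable {G : Type u} [Group G] [Finite G] {k : Type*} [Field k] {V : Type v} [AddCommGroup V]
  [Module k V]

/-- An odd number is one in characteristic two. -/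
theorem cast_odd [CharP k 2] {n : ℕ} (h : Odd n) : (n : k) = 1 := by
  obtain ⟨m, rfl⟩ := h
  rw [Nat.cast_add, Nat.cast_mul, show ((2 : ℕ) : k) = 0 from CharP.cast_eq_zero k 2, zero_mul,
    zero_add, Nat.cast_one]

theorem odd_card_of_le {X Y : Subgroup G} (h : X ≤ Y) (hY : Odd (Nat.card Y)) : Odd (Nat.card X) :=
  Odd.of_dvd_nat hY (Subgroup.card_dvd_of_le h)

/-- The weight space of a character. -/
def wt (ρ : G →* Module.End k V) (X : Subgroup G) (χ : ↥X →* kˣ) : Submodule k V where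
  carrier := {w | ∀ x : X, ρ x w = (χ x : k) • w}
  add_mem' := fun {a b} ha hb x => by rw [map_add, ha x, hb x, smul_add]
  zero_mem' := fun x => by rw [map_zero, smul_zero]
  smul_mem' := fun c a ha x => by rw [map_smul, ha x, smul_comm]

/-- The projection onto a weight space. -/
noncomputable def proj (ρ : G →* Module.End k V) (X : Subgroup G) (χ : ↥X →* kˣ) : Module.End k V :=
  ∑ x : X, (((χ x)⁻¹ : kˣ) : k) • ρ (x : G)

theorem proj_mem_wt (ρ : G →* Module.End k V) {X : Subgroup G} (χ : ↥X →* kˣ) (w : V) :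
    proj ρ X χ w ∈ wt ρ X χ := by
  intro y
  simp only [proj, LinearMap.sum_apply, LinearMap.smul_apply, map_sum, map_smul, Finset.smul_sum,
    smul_smul]
  refine Fintype.sum_equiv (Equiv.mulLeft y) _ _ fun x => ?_
  simp only [Equiv.coe_mulLeft, map_mul, mul_inv, Units.val_mul, Subgroup.coe_mul, Module.End.mul_apply,
    ← mul_assoc, Units.mul_inv, one_mul]

theorem proj_of_mem [CharP k 2] (ρ : G →* Module.End k V) {X : Subgroup G} (hX : Odd (Nat.card X))
    {χ : ↥X →* kˣ} {w : V} (hw : w ∈ wt ρ X χ) : proj ρ X χ w = w := by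
  simp only [proj, LinearMap.sum_apply, LinearMap.smul_apply]
  rw [Finset.sum_congr rfl (fun x _ => by rw [hw x, smul_smul, Units.inv_mul, one_smul]),
    Finset.sum_const, ← Nat.cast_smul_eq_nsmul k, Finset.card_univ, ← Nat.card_eq_fintype_card,
    cast_odd hX, one_smul]

theorem proj_of_mem_ne (ρ : G →* Module.End k V) {X : Subgroup G} {χ μ : ↥X →* kˣ} (h : χ ≠ μ) {w : V}
    (hw : w ∈ wt ρ X χ) : proj ρ X μ w = 0 := by
  simp only [proj, LinearMap.sum_apply, LinearMap.smul_apply]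
  rw [Finset.sum_congr rfl (fun x _ => by rw [hw x, smul_smul]), ← Finset.sum_smul]
  have h1 : (Units.coeHom k).comp (μ⁻¹ * χ) ≠ 1 := fun h1 => h (inv_mul_eq_one.1
    (MonoidHom.ext fun x => Units.ext (DFunLike.congr_fun h1 x))).symm
  have h2 := sum_hom_units_eq_zero _ h1
  rw [show (∑ x : X, (((μ x)⁻¹ : kˣ) : k) * (χ x : k)) = 0 from
    (Finset.sum_congr rfl fun x _ => by simp).trans h2, zero_smul]

theorem orth (ρ : G →* Module.End k V) {X : Subgroup G} {χ μ : ↥X →* kˣ} (h : χ ≠ μ) (w : V) :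
    proj ρ X χ (proj ρ X μ w) = 0 :=
  proj_of_mem_ne ρ h.symm (proj_mem_wt ρ μ w)

theorem exists_char_ne_one [IsAlgClosed k] [CharP k 2] {X : Subgroup G} (hX : Odd (Nat.card X)) {x : X}
    (hx : x ∉ commutator X) : ∃ χ : ↥X →* kˣ, χ x ≠ 1 := by
  have hodd : Odd (Monoid.exponent (Abelianization X)) :=
    Odd.of_dvd_nat hX ((Monoid.exponent_dvd_iff_forall_pow_eq_one).2 fun a => by
      obtain ⟨y, rfl⟩ := QuotientGroup.mk'_surjective (commutator X) a
      show Abelianization.of y ^ Nat.card X = 1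
      rw [← map_pow, pow_card_eq_one', map_one])
  haveI : NeZero ((Monoid.exponent (Abelianization X) : ℕ) : k) := ⟨by rw [cast_odd hodd]; exact one_ne_zero⟩
  obtain ⟨φ, hφ⟩ := CommGroup.exists_apply_ne_one_of_hasEnoughRootsOfUnity (Abelianization X) k
    (a := Abelianization.of x) (fun h => hx ((QuotientGroup.eq_one_iff x).1 h))
  exact ⟨φ.comp Abelianization.of, hφ⟩

instance homFinite (X : Subgroup G) : Finite (↥X →* kˣ) := by
  classical
  let N := Nat.card X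
  haveI : NeZero N := ⟨Nat.card_pos.ne'⟩
  refine Finite.of_injective (β := X → rootsOfUnity N k)
    (fun χ x => ⟨χ x, (mem_rootsOfUnity _ _).2 (by rw [← map_pow, pow_card_eq_one', map_one])⟩) ?_
  intro χ μ h
  exact MonoidHom.ext fun x => congrArg Subtype.val (congrFun h x)

theorem odd_card_hom {X : Subgroup G} (hX : Odd (Nat.card X)) : Odd (Nat.card (↥X →* kˣ)) := by
  by_contra h
  rw [Nat.not_odd_iff_even, even_iff_two_dvd] at h
  haveI : Fact (Nat.Prime 2) := ⟨Nat.prime_two⟩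
  obtain ⟨χ, hχ⟩ := exists_prime_orderOf_dvd_card' 2 h
  have h1 : χ ^ Nat.card X = 1 := MonoidHom.ext fun x => by
    rw [MonoidHom.pow_apply, ← map_pow, pow_card_eq_one', map_one, MonoidHom.one_apply]
  have h2 : orderOf χ ∣ Nat.card X := orderOf_dvd_of_pow_eq_one (by convert h1)
  rw [hχ] at h2
  exact (Nat.not_even_iff_odd.2 hX) (even_iff_two_dvd.2 h2)

/-- Vectors on which the commutator subgroup is trivial decompose into weight vectors. -/
theorem sum_proj [IsAlgClosed k] [CharP k 2] (ρ : G →* Module.End k V) {X : Subgroup G}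
    (hX : Odd (Nat.card X)) {w : V} (hw : ∀ x ∈ ⁅X, X⁆, ρ x w = w) :
      ∑ χ : ↥X →* kˣ, proj ρ X χ w = w := by
  classical
  simp only [proj, LinearMap.sum_apply, LinearMap.smul_apply]
  rw [Finset.sum_comm]
  simp only [← Finset.sum_smul]
  have key : ∀ x : X, (∑ χ : ↥X →* kˣ, (((χ x)⁻¹ : kˣ) : k)) • ρ (x : G) w =
      if x ∈ commutator X then w else 0 := by
    intro x
    by_cases hx : x ∈ commutator X
    · rw [if_pos hx]
      have h1 : ∀ χ : ↥X →* kˣ, χ x = 1 := fun χ => Abelianization.commutator_subset_ker χ hx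
      have h2 : (x : G) ∈ ⁅X, X⁆ := by
        have h3 : (commutator X).map X.subtype = ⁅X, X⁆ := by
          rw [commutator_def, Subgroup.map_commutator, ← MonoidHom.range_eq_map, Subgroup.range_subtype]
        exact h3 ▸ ⟨x, hx, rfl⟩
      rw [Finset.sum_congr rfl (fun χ _ => by rw [h1, inv_one, Units.val_one]), Finset.sum_const,
        nsmul_eq_mul, mul_one, Finset.card_univ, ← Nat.card_eq_fintype_card, cast_odd (odd_card_hom hX),
        one_smul, hw _ h2]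
    · rw [if_neg hx]
      obtain ⟨ψ, hψ⟩ := exists_char_ne_one (k := k) hX hx
      have h1 : (((ψ x)⁻¹ : kˣ) : k) * (∑ χ : ↥X →* kˣ, (((χ x)⁻¹ : kˣ) : k)) =
          ∑ χ : ↥X →* kˣ, (((χ x)⁻¹ : kˣ) : k) := by
        rw [Finset.mul_sum]
        refine Fintype.sum_equiv (Equiv.mulLeft ψ) _ _ fun χ => ?_
        rw [Equiv.coe_mulLeft, MonoidHom.mul_apply, mul_inv, Units.val_mul]
      have h3 : (((ψ x)⁻¹ : kˣ) : k) ≠ 1 := fun h => hψ (inv_eq_one.1 (Units.ext h))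
      by_cases h4 : (∑ χ : ↥X →* kˣ, (((χ x)⁻¹ : kˣ) : k)) = 0
      · rw [h4, zero_smul]
      · exact absurd ((mul_eq_right₀ h4).1 h1) h3
  rw [Finset.sum_congr rfl (fun x _ => key x), ← Finset.sum_filter, Finset.sum_const,
    ← Nat.cast_smul_eq_nsmul k, cast_odd, one_smul]
  have h1 := Odd.of_dvd_nat hX (Subgroup.card_subgroup_dvd_card (commutator X))
  convert h1 using 1
  rw [Nat.card_eq_fintype_card, Fintype.card_subtype]
  congr 1
  ext; simp

/-- The conjugate of a character. -/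
noncomputable def tw (X : Subgroup G) (g : G) (χ : ↥X →* kˣ) : ↥X →* kˣ :=
  open Classical in
  if h : g ∈ Subgroup.normalizer (X : Set G) then
    χ.comp ((X.normalizerMonoidHom ⟨g⁻¹, inv_mem h⟩).toMonoidHom) else χ

theorem tw_apply {X : Subgroup G} {g : G} (hg : g ∈ Subgroup.normalizer (X : Set G)) (χ : ↥X →* kˣ)
    (x : X) (y : X) (hy : (y : G) = g⁻¹ * x * g) : tw X g χ x = χ y := by
  rw [tw, dif_pos hg, MonoidHom.comp_apply]
  congr 1
  refine Subtype.ext ?_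
  rw [hy]
  show g⁻¹ * x * g⁻¹⁻¹ = _
  rw [inv_inv]

theorem tw_one (X : Subgroup G) (χ : ↥X →* kˣ) : tw X 1 χ = χ :=
  MonoidHom.ext fun x => tw_apply (one_mem _) χ x x (by group)

theorem conj_mem_of_normalizer {X : Subgroup G} {g x : G} (hg : g ∈ Subgroup.normalizer (X : Set G))
    (hx : x ∈ X) : g⁻¹ * x * g ∈ X := by
  have := (Subgroup.mem_normalizer_iff.1 (inv_mem hg) x).1 hx
  simpa using this

theorem tw_mul {X : Subgroup G} {g h : G} (hg : g ∈ Subgroup.normalizer (X : Set G))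
    (hh : h ∈ Subgroup.normalizer (X : Set G)) (χ : ↥X →* kˣ) :
    tw X (g * h) χ = tw X g (tw X h χ) := MonoidHom.ext fun x => by
  have h1 := conj_mem_of_normalizer hg x.2
  have h2 := conj_mem_of_normalizer hh h1
  rw [tw_apply (mul_mem hg hh) χ x ⟨_, h2⟩ (by simp [mul_assoc]), tw_apply hg _ x ⟨_, h1⟩ rfl,
    tw_apply hh χ ⟨_, h1⟩ ⟨_, h2⟩ rfl]

theorem proj_tw (ρ : G →* Module.End k V) {X : Subgroup G} {g : G}
    (hg : g ∈ Subgroup.normalizer (X : Set G)) (χ : ↥X →* kˣ) (w : V) :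
    proj ρ X (tw X g χ) (ρ g w) = ρ g (proj ρ X χ w) := by
  simp only [proj, LinearMap.sum_apply, LinearMap.smul_apply, map_sum, map_smul]
  refine (Fintype.sum_equiv (X.normalizerMonoidHom ⟨g, hg⟩).toEquiv _ _ fun x => ?_).symm
  have h1 : ((X.normalizerMonoidHom ⟨g, hg⟩ x : X) : G) = g * x * g⁻¹ := rfl
  show _ = (((tw X g χ (X.normalizerMonoidHom ⟨g, hg⟩ x))⁻¹ : kˣ) : k) •
    ρ ((X.normalizerMonoidHom ⟨g, hg⟩ x : X) : G) (ρ g w)
  rw [tw_apply hg χ _ x (by rw [h1]; group), h1, map_mul, map_mul,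
    Module.End.mul_apply, Module.End.mul_apply, Solv.CRep.rep_inv_apply]

/-- The vectors with no component at a character fixed by `A`. -/
noncomputable def moved (ρ : G →* Module.End k V) (X A : Subgroup G) (W : Submodule k V) : Submodule k V :=
  W ⊓ ⨅ χ : {χ : ↥X →* kˣ // ∀ a ∈ A, tw X a χ = χ}, LinearMap.ker (proj ρ X χ.1)

theorem mem_moved {ρ : G →* Module.End k V} {X A : Subgroup G} {W : Submodule k V} {w : V} :
    w ∈ moved ρ X A W ↔ w ∈ W ∧ ∀ χ : ↥X →* kˣ, (∀ a ∈ A, tw X a χ = χ) → proj ρ X χ w = 0 := by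
  simp [moved, Submodule.mem_iInf]

theorem proj_mem {ρ : G →* Module.End k V} {X : Subgroup G} {W : Submodule k V}
    (hW : ∀ x ∈ X, ∀ w ∈ W, ρ x w ∈ W) (χ : ↥X →* kˣ) {w : V} (hw : w ∈ W) : proj ρ X χ w ∈ W := by
  simp only [proj, LinearMap.sum_apply, LinearMap.smul_apply]
  exact sum_mem fun x _ => W.smul_mem _ (hW x x.2 w hw)

theorem moved_invariant {ρ : G →* Module.End k V} {X A : Subgroup G} {W : Submodule k V} {g : G}
    (hgX : g ∈ Subgroup.normalizer (X : Set G)) (hgA : g ∈ Subgroup.normalizer (A : Set G))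
    (hAX : A ≤ Subgroup.normalizer (X : Set G))
    (hW : ∀ w ∈ W, ρ g w ∈ W) : ∀ w ∈ moved ρ X A W, ρ g w ∈ moved ρ X A W := by
  intro w hw
  rw [mem_moved] at hw ⊢
  refine ⟨hW w hw.1, fun χ hχ => ?_⟩
  rw [show χ = tw X g (tw X g⁻¹ χ) by rw [← tw_mul hgX (inv_mem hgX), mul_inv_cancel, tw_one],
    proj_tw ρ hgX, hw.2 _ fun a ha => ?_, map_zero]
  have h1 : g * a * g⁻¹ ∈ A := (Subgroup.mem_normalizer_iff.1 hgA a).1 ha
  rw [← tw_mul (hAX ha) (inv_mem hgX), show a * g⁻¹ = g⁻¹ * (g * a * g⁻¹) by group,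
    tw_mul (inv_mem hgX) (hAX h1), hχ _ h1]

/-- If a term of the derived series moves a weight, the product through it is nonzero. -/
theorem prod_moved_ne_bot [IsAlgClosed k] [CharP k 2] (ρ : G →* Module.End k V) {S X : Subgroup G}
    (hS : IsPGroup 2 S) (hSX : S ≤ Subgroup.normalizer (X : Set G)) (hX : Odd (Nat.card X))
    {W : Submodule k V} (hWS : ∀ g ∈ S, ∀ w ∈ W, ρ g w ∈ W) (hWX : ∀ x ∈ X, ∀ w ∈ W, ρ x w ∈ W)
    (hcom : ∀ x ∈ ⁅X, X⁆, ∀ w ∈ W, ρ x w = w) {n : ℕ} {a x : G} (ha : a ∈ dser S n) (hx : x ∈ X)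
    {w : V} (hw : w ∈ W) (hne : ρ ⁅x, a⁆ w ≠ w) :
    prod ρ S (moved ρ X (dser S n) W) (n + 1) ≠ ⊥ := by
  classical
  obtain ⟨A, hA⟩ : ∃ A, A = dser S n := ⟨_, rfl⟩
  rw [← hA] at ha ⊢
  have hAS : A ≤ S := hA ▸ dser_le S n
  have hAX : A ≤ Subgroup.normalizer (X : Set G) := hAS.trans hSX
  obtain ⟨Wm, hWm⟩ : ∃ Wm, Wm = moved ρ X A W := ⟨_, rfl⟩
  rw [← hWm]
  have hWmS : ∀ g ∈ S, ∀ w ∈ Wm, ρ g w ∈ Wm := fun g hg =>
    hWm ▸ moved_invariant (hSX hg) (hA ▸ le_normalizer_dser S n hg) hAX (hWS g hg)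
  -- some component is moved
  obtain ⟨μ, hμ, hμw⟩ : ∃ μ : ↥X →* kˣ, (¬ ∀ a ∈ A, tw X a μ = μ) ∧ proj ρ X μ w ≠ 0 := by
    by_contra hc
    push Not at hc
    refine hne ?_
    have hsum := sum_proj (k := k) ρ hX (w := w) (fun y hy => hcom y hy w hw)
    have hy : x * (a * x⁻¹ * a⁻¹) ∈ X := mul_mem hx ((Subgroup.mem_normalizer_iff.1 (hAX ha) _).1 (inv_mem hx))
    conv_lhs => rw [← hsum, map_sum]
    conv_rhs => rw [← hsum]
    refine Finset.sum_congr rfl fun χ _ => ?_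
    by_cases hχ : proj ρ X χ w = 0
    · rw [hχ, map_zero]
    have hfix : ∀ b ∈ A, tw X b χ = χ := by
      by_contra hcon
      exact hχ (hc χ (by simpa using hcon))
    have h1 := DFunLike.congr_fun (hfix a ha)
      ⟨a * x⁻¹ * a⁻¹, (Subgroup.mem_normalizer_iff.1 (hAX ha) _).1 (inv_mem hx)⟩
    rw [tw_apply (hAX ha) χ _ ⟨x⁻¹, inv_mem hx⟩ (by simp [mul_assoc])] at h1
    rw [show ⁅x, a⁆ = x * (a * x⁻¹ * a⁻¹) by rw [commutatorElement_def]; group,
      proj_mem_wt ρ χ w ⟨_, hy⟩,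
      show (⟨_, hy⟩ : X) = ⟨x, hx⟩ * ⟨a * x⁻¹ * a⁻¹,
        (Subgroup.mem_normalizer_iff.1 (hAX ha) _).1 (inv_mem hx)⟩ from rfl, map_mul, ← h1, ← map_mul,
      show (⟨x, hx⟩ : X) * ⟨x⁻¹, inv_mem hx⟩ = 1 from Subtype.ext (mul_inv_cancel x), map_one,
      Units.val_one, one_smul]
  push Not at hμ
  obtain ⟨b, hb, hbμ⟩ := hμ
  obtain ⟨v, hv⟩ : ∃ v, v = proj ρ X μ w := ⟨_, rfl⟩
  have hvwt : v ∈ wt ρ X μ := hv ▸ proj_mem_wt ρ μ w
  have hvm : v ∈ Wm := by
    rw [hWm, mem_moved]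
    refine ⟨hv ▸ proj_mem hWX μ hw, fun χ hχ => proj_of_mem_ne ρ (fun h => hbμ ?_) hvwt⟩
    rw [h]; exact hχ b hb
  obtain ⟨p, hp, hpv, hp0⟩ := proj_prod hS ρ (fun χ => proj ρ X χ) (tw X) (tw_one X)
    (fun g hg h hh => tw_mul (hSX hg) (hSX hh)) (fun g hg => proj_tw ρ (hSX hg))
    (fun i j hij => orth ρ hij) Wm hWmS μ n
    (fun l hl => ⟨b, dser_anti S hl.le (hA ▸ hb), hbμ⟩) v hvm (proj_of_mem ρ hX hvwt)
  intro hbot
  rw [prod_succ, aug_eq_bot] at hbot
  have h1 := hbot b (hA ▸ hb) p hp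
  have hbS := hAS hb
  have h2 : tw X b⁻¹ μ ≠ μ := fun h => hbμ (by
    conv_lhs => rw [← h, ← tw_mul (hSX hbS) (inv_mem (hSX hbS)), mul_inv_cancel, tw_one])
  have h3 := proj_tw ρ (hSX hbS) (tw X b⁻¹ μ) p
  rw [← tw_mul (hSX hbS) (inv_mem (hSX hbS)), mul_inv_cancel, tw_one, h1, hpv,
    hp0 _ (hA ▸ inv_mem hb) h2, map_zero] at h3
  exact hμw (hv ▸ h3)

end Cfsg.Agent.Solv.D2
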